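/-
Checked table facts used for the maximality of subfield subgroups of Chevalley groups.
-/
import Cfsg.Agent.Lib.Chev.RootCerts
import Cfsg.Prelude.Def_ChevAutomorphisms

set_option autoImplicit false
set_option maxRecDepth 20000

namespace Cfsg.Agent.Chev.Subfield

open Cfsg.Lie

/-- Commutators of `U` with the roots of `A` are linear in the parameter on `A` and stay in `A`. -/
def LinTop (D : ChevalleyDatum) (A : List ℕ) : Prop :=
  (∀ a ∈ A, a < D.nroots ∧ D.nroots / 2 ≤ a) ∧
    (∀ a ∈ A, ∀ k < D.nroots, D.nroots / 2 ≤ k → k ≠ a → ∀ x ∈ D.commTerms k a, x.1 ∈ A ∧ x.2.2.2 = 1) ∧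
    ∀ a ∈ A, ∀ b ∈ A, a ≠ b → D.commTerms a b = []

instance decidableLinTop (D : ChevalleyDatum) (A : List ℕ) : Decidable (LinTop D A) :=
  inferInstanceAs (Decidable (_ ∧ _))

/-- Every positive root outside `T` can be raised by a fundamental reflection. -/
def TopsCover (D : ChevalleyDatum) (T : List ℕ) : Prop :=
  ∀ r < D.nroots, D.nroots / 2 ≤ r → r ∈ T ∨ ∃ i < D.rank, r < D.reflectRoot i r

instance decidableTopsCover (D : ChevalleyDatum) (T : List ℕ) : Decidable (TopsCover D T) :=
  inferInstanceAs (Decidable (∀ _, _))

/-- A set of roots stable under the reflections, containing the highest root. -/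
def LongSet (D : ChevalleyDatum) (L : List ℕ) : Prop :=
  D.nroots - 1 ∈ L ∧ ∀ s ∈ L, s < D.nroots ∧ ∀ i < D.rank, D.reflectRoot i s ∈ L

instance decidableLongSet (D : ChevalleyDatum) (L : List ℕ) : Decidable (LongSet D L) :=
  inferInstanceAs (Decidable (_ ∧ _))

/-- The commutator of the highest root with a negative root of `L` other than its opposite. -/
def OppFact (D : ChevalleyDatum) (L : List ℕ) : Prop :=
  ∀ b ∈ L, b < D.nroots / 2 → b ≠ D.neg (D.nroots - 1) → ∀ x ∈ D.commTerms (D.nroots - 1) b,
    D.nroots / 2 ≤ x.1 ∧ x.1 ≠ D.neg b ∧ D.commTerms x.1 b = []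

instance decidableOppFact (D : ChevalleyDatum) (L : List ℕ) : Decidable (OppFact D L) :=
  inferInstanceAs (Decidable (∀ _, _))

/-- The node not orthogonal to the highest root, of odd pairing with it. -/
def AdjFact (D : ChevalleyDatum) (i : ℕ) : Prop :=
  i < D.rank ∧ D.reflectRoot i (D.neg (D.nroots - 1)) ≠ D.neg (D.nroots - 1) ∧
    ((List.range D.rank).map fun j =>
      (D.coroot.getD (D.nroots - 1) #[]).getD j 0 * D.cartan j (D.simple i)).sum % 2 = 1

instance decidableAdjFact (D : ChevalleyDatum) (i : ℕ) : Decidable (AdjFact D i) :=
  inferInstanceAs (Decidable (_ ∧ _))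

/-- A fundamental root outside `L`, or two commuting fundamental roots. -/
def InvolFact (D : ChevalleyDatum) (L : List ℕ) (a b : ℕ) : Prop :=
  a < D.rank ∧ b < D.rank ∧ ((a = b ∧ D.simple a ∉ L) ∨ (D.simple a ≠ D.simple b ∧
    D.simple b ≠ D.neg (D.simple a) ∧ D.commTerms (D.simple a) (D.simple b) = []))

instance decidableInvolFact (D : ChevalleyDatum) (L : List ℕ) (a b : ℕ) : Decidable (InvolFact D L a b) :=
  inferInstanceAs (Decidable (_ ∧ _))

/-- The first term of the commutator of `k` with `a` is below all others, with coefficient dividing `g`. -/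
def WitAt (D : ChevalleyDatum) (T : List ℕ) (k a : ℕ) : Bool :=
  decide (a < D.nroots) && decide (D.nroots / 2 ≤ a) && a != k &&
    match D.commTerms k a with
    | [] => false
    | x :: rest => x.2.2.1 == 1 && x.2.2.2 == 1 && rest.all (fun y => decide (x.1 < y.1)) &&
        (List.range D.nroots).all fun k2 => !(decide (D.nroots / 2 ≤ k2) && (decide (k < k2) || T.contains k2)) ||
          k2 == a || (D.commTerms k2 a).all fun y => decide (x.1 < y.1)

/-- Witnesses detecting every positive root outside `T` by a commutator, in every characteristic. -/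
def WitFact (D : ChevalleyDatum) (T : List ℕ) (W : List (List ℕ)) : Prop :=
  ∀ k < D.nroots, D.nroots / 2 ≤ k → k ∉ T →
    (∀ a ∈ W.getD (k - D.nroots / 2) [], WitAt D T k a = true) ∧
      (W.getD (k - D.nroots / 2) []).foldr
        (fun a g => Nat.gcd (((D.commTerms k a).head?.map fun x => x.2.1.natAbs).getD 0) g) 0 = 1

instance decidableWitFact (D : ChevalleyDatum) (T : List ℕ) (W : List (List ℕ)) : Decidable (WitFact D T W) :=
  inferInstanceAs (Decidable (∀ _, _))

/-- The witnesses of G₂. -/
def witG2 : List (List ℕ) := [[7], [6], [7, 9], [0], [6], [0]]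
/-- The witnesses of B₂. -/
def witB2 : List (List ℕ) := [[5], [4], [0], [0]]
/-- The witnesses of D₄. -/
def witD4 : List (List ℕ) := [[14], [14], [12], [13], [12], [18], [14], [12], [13], [12], [14], [0]]
/-- The witnesses of F₄. -/
def witF4 : List (List ℕ) := [[25], [24], [27], [25], [24], [33], [24], [25], [33], [27], [25], [24], [27], [24], [25], [27], [33], [24], [25], [27], [0], [25], [24], [0]]
/-- The witnesses of E₆. -/
def witE6 : List (List ℕ) := [[37], [36], [39], [37], [36], [42], [39], [37], [36], [46], [39], [37], [36], [42], [37], [36], [39], [36], [37], [56], [42], [39], [37], [36], [46], [37], [36], [39], [36], [37], [42], [36], [37], [39], [46], [0]]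
/-- The witnesses of E₇. -/
def witE7 : List (List ℕ) := [[64], [63], [66], [64], [63], [69], [66], [64], [63], [73], [69], [66], [64], [63], [78], [69], [66], [64], [63], [73], [66], [64], [63], [69], [64], [63], [66], [63], [64], [93], [73], [69], [66], [64], [63], [78], [66], [64], [63], [69], [64], [63], [66], [63], [64], [73], [64], [63], [66], [63], [64], [69], [63], [64], [66], [78], [63], [64], [66], [69], [73], [93], [0]]
/-- The witnesses of E₈. -/
def witE8 : List (List ℕ) := [[121], [120], [123], [121], [120], [126], [123], [121], [120], [130], [126], [123], [121], [120], [135], [130], [126], [123], [121], [120], [141], [130], [126], [123], [121], [120], [135], [126], [123], [121], [120], [130], [123], [121], [120], [126], [121], [120], [123], [120], [121], [162], [135], [130], [126], [123], [121], [120], [141], [126], [123], [121], [120], [130], [123], [121], [120], [126], [121], [120], [123], [120], [121], [135], [123], [121], [120], [126], [121], [120], [123], [120], [121], [130], [121], [120], [123], [120], [121], [126], [120], [121], [123], [141], [121], [120], [123],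 [120], [121], [126], [120], [121], [123], [130], [120], [121], [123], [126], [135], [120], [121], [123], [126], [130], [141], [162], [120], [121], [123], [126], [130], [135], [141], [135], [130], [126], [123], [121], [120], [0]]

/-- The long roots of G₂. -/
def longG2 : List ℕ := [0, 1, 5, 6, 10, 11]
/-- The long roots of B₂. -/
def longB2 : List ℕ := [0, 3, 4, 7]
/-- The long roots of F₄. -/
def longF4 : List ℕ :=
  [0, 1, 2, 4, 5, 6, 15, 16, 17, 21, 22, 23, 24, 25, 26, 30, 31, 32, 41, 42, 43, 45, 46, 47]

theorem cover_G2 : TopsCover chevG2 [11, 9] := by decide +kernel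
theorem long_G2 : LongSet chevG2 longG2 := by decide +kernel
theorem opp_G2 : OppFact chevG2 longG2 := by decide +kernel
theorem adj_G2 : AdjFact chevG2 1 := by decide +kernel
theorem invol_G2 : InvolFact chevG2 longG2 0 0 := by decide +kernel
theorem wit_G2 : WitFact chevG2 [11, 9] witG2 := by decide +kernel
theorem lin_G2 : LinTop chevG2 [9, 10, 11] := by decide +kernel
theorem linTop_G2 : LinTop chevG2 [11] := by decide +kernel

theorem cover_B2 : TopsCover chevB2 [7, 6] := by decide +kernel
theorem long_B2 : LongSet chevB2 longB2 := by decide +kernel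
theorem opp_B2 : OppFact chevB2 longB2 := by decide +kernel
theorem adj_B2 : AdjFact chevB2 0 := by decide +kernel
theorem invol_B2 : InvolFact chevB2 longB2 0 0 := by decide +kernel
theorem wit_B2 : WitFact chevB2 [7, 6] witB2 := by decide +kernel
theorem lin_B2 : LinTop chevB2 [6, 7] := by decide +kernel
theorem linTop_B2 : LinTop chevB2 [7] := by decide +kernel

theorem cover_D4 : TopsCover chevD4 [23] := by decide +kernel
theorem long_D4 : LongSet chevD4 (List.range chevD4.nroots) := by decide +kernel
theorem opp_D4 : OppFact chevD4 (List.range chevD4.nroots) := by decide +kernel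
theorem adj_D4 : AdjFact chevD4 1 := by decide +kernel
theorem invol_D4 : InvolFact chevD4 (List.range chevD4.nroots) 0 2 := by decide +kernel
theorem wit_D4 : WitFact chevD4 [23] witD4 := by decide +kernel
theorem linTop_D4 : LinTop chevD4 [23] := by decide +kernel

theorem cover_F4 : TopsCover chevF4 [47, 44] := by decide +kernel
theorem long_F4 : LongSet chevF4 longF4 := by decide +kernel
theorem opp_F4 : OppFact chevF4 longF4 := by decide +kernel
theorem adj_F4 : AdjFact chevF4 3 := by decide +kernel
theorem invol_F4 : InvolFact chevF4 longF4 0 2 := by decide +kernel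
theorem wit_F4 : WitFact chevF4 [47, 44] witF4 := by decide +kernel
theorem lin_F4 : LinTop chevF4 [44, 45, 46, 47] := by decide +kernel
theorem linTop_F4 : LinTop chevF4 [47] := by decide +kernel

theorem cover_E6 : TopsCover chevE6 [71] := by decide +kernel
theorem long_E6 : LongSet chevE6 (List.range chevE6.nroots) := by decide +kernel
theorem opp_E6 : OppFact chevE6 (List.range chevE6.nroots) := by decide +kernel
theorem adj_E6 : AdjFact chevE6 1 := by decide +kernel
theorem invol_E6 : InvolFact chevE6 (List.range chevE6.nroots) 0 1 := by decide +kernel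
theorem wit_E6 : WitFact chevE6 [71] witE6 := by decide +kernel
theorem linTop_E6 : LinTop chevE6 [71] := by decide +kernel

theorem cover_E7 : TopsCover chevE7 [125] := by decide +kernel
theorem long_E7 : LongSet chevE7 (List.range chevE7.nroots) := by decide +kernel
theorem opp_E7 : OppFact chevE7 (List.range chevE7.nroots) := by decide +kernel
theorem adj_E7 : AdjFact chevE7 0 := by decide +kernel
theorem invol_E7 : InvolFact chevE7 (List.range chevE7.nroots) 0 1 := by decide +kernel
theorem wit_E7 : WitFact chevE7 [125] witE7 := by decide +kernel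
theorem linTop_E7 : LinTop chevE7 [125] := by decide +kernel

theorem cover_E8 : TopsCover chevE8 [239] := by decide +kernel
theorem long_E8 : LongSet chevE8 (List.range chevE8.nroots) := by decide +kernel
theorem opp_E8 : OppFact chevE8 (List.range chevE8.nroots) := by decide +kernel
theorem adj_E8 : AdjFact chevE8 7 := by decide +kernel
theorem invol_E8 : InvolFact chevE8 (List.range chevE8.nroots) 0 1 := by decide +kernel
theorem wit_E8 : WitFact chevE8 [239] witE8 := by decide +kernel
theorem linTop_E8 : LinTop chevE8 [239] := by decide +kernel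

end Cfsg.Agent.Chev.Subfield
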