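/-
The data used for the maximality of the subfield subgroups, for the seven types.
-/
import Cfsg.Agent.Lib.Chev.Subfield.Certs
import Cfsg.Agent.Lib.Chev.ParaCerts
import Cfsg.Agent.Lib.Chev.Seven
import Cfsg.Agent.Lib.Chev.ParabolicLevi

set_option autoImplicit false

namespace Cfsg.Agent.Chev.Subfield

open Cfsg.Lie
open Cfsg.Agent.Chev.BNSetup

/-- The highest roots are not fundamental, stay positive under the fundamental reflections, and none is fixed in `T`. -/
def TMove (D : ChevalleyDatum) (T : List ℕ) : Prop :=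
  ∀ h ∈ T, (∀ i < D.rank, h ≠ D.simple i ∧ D.nroots / 2 ≤ D.reflectRoot i h) ∧
    ∃ i < D.rank, D.reflectRoot i h ∉ T

instance decidableTMove (D : ChevalleyDatum) (T : List ℕ) : Decidable (TMove D T) :=
  inferInstanceAs (Decidable (∀ _, _))

/-- All checked data of a type. -/
structure Env (D : ChevalleyDatum) where
  /-- Weyl tables. -/
  tabs : List ℕ
  /-- Simple root tables. -/
  simps : List ℕ
  /-- Positive form. -/
  k : List ℤ
  /-- Coroot multipliers. -/
  M : List ℕ
  /-- Index of the weight lattice. -/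
  d : ℕ
  /-- Fundamental coweights. -/
  B : List (List ℤ)
  /-- Highest long and short roots. -/
  T : List ℕ
  /-- Long roots. -/
  L : List ℕ
  /-- Abelian sets of the highest roots. -/
  tops : List (List ℕ)
  /-- Node adjacent to the highest root. -/
  adj : ℕ
  /-- First fundamental root of the exceptional involution. -/
  ia : ℕ
  /-- Second fundamental root of the exceptional involution. -/
  ib : ℕ
  /-- Witnesses. -/
  wit : List (List ℕ)
  /-- Root coordinates. -/
  coef : List (List ℤ)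
  good : Good D
  facts : Facts D tabs simps
  negTri : NegTri D
  coefFacts : CoefFacts D coef tabs
  posForm : PosForm D k
  corootFact : CorootFact D M
  paraFact : ParaFact D d B
  top_mem : D.nroots - 1 ∈ T
  cover : TopsCover D T
  long : LongSet D L
  opp : OppFact D L
  adjFact : AdjFact D adj
  invol : InvolFact D L ia ib
  witFact : WitFact D T wit
  linTop : ∀ A ∈ tops, LinTop D A
  tops_cover : ∀ h ∈ T, ∃ A ∈ tops, h ∈ A
  T_comm : ∀ a ∈ T, ∀ b ∈ T, a ≠ b → D.commTerms a b = []
  T_pos : ∀ a ∈ T, a < D.nroots ∧ D.nroots / 2 ≤ a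
  T_move : TMove D T

theorem exists_env_G2 : ∃ E : Env chevG2, E.T = [11, 9] ∧ E.L = longG2 := by
  have hD : chevG2 ∈ [chevG2, chevB2, chevD4, chevF4, chevE6, chevE7, chevE8] := by simp
  obtain ⟨tabs, simps, cM, hf, hcf⟩ := exists_coefFacts hD
  obtain ⟨k, M, hk, hM⟩ := exists_rootCerts hD
  obtain ⟨d, B, hB⟩ := exists_paraFact hD
  exact ⟨⟨tabs, simps, k, M, d, B, [11, 9], longG2, [[9, 10, 11]], 1, 0, 0, witG2, cM, good_of_mem hD, hf, negTri_of_mem hD,
    hcf, hk, hM, hB, by decide +kernel, cover_G2, long_G2, opp_G2, adj_G2, invol_G2, wit_G2,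
    by simp [lin_G2], by decide, by decide +kernel, by decide +kernel, by decide +kernel⟩, rfl, rfl⟩

theorem exists_env_B2 : ∃ E : Env chevB2, E.T = [7, 6] ∧ E.L = longB2 := by
  have hD : chevB2 ∈ [chevG2, chevB2, chevD4, chevF4, chevE6, chevE7, chevE8] := by simp
  obtain ⟨tabs, simps, cM, hf, hcf⟩ := exists_coefFacts hD
  obtain ⟨k, M, hk, hM⟩ := exists_rootCerts hD
  obtain ⟨d, B, hB⟩ := exists_paraFact hD
  exact ⟨⟨tabs, simps, k, M, d, B, [7, 6], longB2, [[6, 7]], 0, 0, 0, witB2, cM, good_of_mem hD, hf, negTri_of_mem hD,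
    hcf, hk, hM, hB, by decide +kernel, cover_B2, long_B2, opp_B2, adj_B2, invol_B2, wit_B2,
    by simp [lin_B2], by decide, by decide +kernel, by decide +kernel, by decide +kernel⟩, rfl, rfl⟩

theorem exists_env_D4 : ∃ E : Env chevD4, E.T = [23] ∧ E.L = List.range chevD4.nroots := by
  have hD : chevD4 ∈ [chevG2, chevB2, chevD4, chevF4, chevE6, chevE7, chevE8] := by simp
  obtain ⟨tabs, simps, cM, hf, hcf⟩ := exists_coefFacts hD
  obtain ⟨k, M, hk, hM⟩ := exists_rootCerts hD
  obtain ⟨d, B, hB⟩ := exists_paraFact hD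
  exact ⟨⟨tabs, simps, k, M, d, B, [23], List.range chevD4.nroots, [[23]], 1, 0, 2, witD4, cM, good_of_mem hD, hf, negTri_of_mem hD,
    hcf, hk, hM, hB, by decide +kernel, cover_D4, long_D4, opp_D4, adj_D4, invol_D4, wit_D4,
    by simp [linTop_D4], by decide, by decide +kernel, by decide +kernel, by decide +kernel⟩, rfl, rfl⟩

theorem exists_env_F4 : ∃ E : Env chevF4, E.T = [47, 44] ∧ E.L = longF4 := by
  have hD : chevF4 ∈ [chevG2, chevB2, chevD4, chevF4, chevE6, chevE7, chevE8] := by simp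
  obtain ⟨tabs, simps, cM, hf, hcf⟩ := exists_coefFacts hD
  obtain ⟨k, M, hk, hM⟩ := exists_rootCerts hD
  obtain ⟨d, B, hB⟩ := exists_paraFact hD
  exact ⟨⟨tabs, simps, k, M, d, B, [47, 44], longF4, [[44, 45, 46, 47]], 3, 0, 2, witF4, cM, good_of_mem hD, hf, negTri_of_mem hD,
    hcf, hk, hM, hB, by decide +kernel, cover_F4, long_F4, opp_F4, adj_F4, invol_F4, wit_F4,
    by simp [lin_F4], by decide, by decide +kernel, by decide +kernel, by decide +kernel⟩, rfl, rfl⟩

theorem exists_env_E6 : ∃ E : Env chevE6, E.T = [71] ∧ E.L = List.range chevE6.nroots := by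
  have hD : chevE6 ∈ [chevG2, chevB2, chevD4, chevF4, chevE6, chevE7, chevE8] := by simp
  obtain ⟨tabs, simps, cM, hf, hcf⟩ := exists_coefFacts hD
  obtain ⟨k, M, hk, hM⟩ := exists_rootCerts hD
  obtain ⟨d, B, hB⟩ := exists_paraFact hD
  exact ⟨⟨tabs, simps, k, M, d, B, [71], List.range chevE6.nroots, [[71]], 1, 0, 1, witE6, cM, good_of_mem hD, hf, negTri_of_mem hD,
    hcf, hk, hM, hB, by decide +kernel, cover_E6, long_E6, opp_E6, adj_E6, invol_E6, wit_E6,
    by simp [linTop_E6], by decide, by decide +kernel, by decide +kernel, by decide +kernel⟩, rfl, rfl⟩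

theorem exists_env_E7 : ∃ E : Env chevE7, E.T = [125] ∧ E.L = List.range chevE7.nroots := by
  have hD : chevE7 ∈ [chevG2, chevB2, chevD4, chevF4, chevE6, chevE7, chevE8] := by simp
  obtain ⟨tabs, simps, cM, hf, hcf⟩ := exists_coefFacts hD
  obtain ⟨k, M, hk, hM⟩ := exists_rootCerts hD
  obtain ⟨d, B, hB⟩ := exists_paraFact hD
  exact ⟨⟨tabs, simps, k, M, d, B, [125], List.range chevE7.nroots, [[125]], 0, 0, 1, witE7, cM, good_of_mem hD, hf, negTri_of_mem hD,
    hcf, hk, hM, hB, by decide +kernel, cover_E7, long_E7, opp_E7, adj_E7, invol_E7, wit_E7,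
    by simp [linTop_E7], by decide, by decide +kernel, by decide +kernel, by decide +kernel⟩, rfl, rfl⟩

theorem exists_env_E8 : ∃ E : Env chevE8, E.T = [239] ∧ E.L = List.range chevE8.nroots := by
  have hD : chevE8 ∈ [chevG2, chevB2, chevD4, chevF4, chevE6, chevE7, chevE8] := by simp
  obtain ⟨tabs, simps, cM, hf, hcf⟩ := exists_coefFacts hD
  obtain ⟨k, M, hk, hM⟩ := exists_rootCerts hD
  obtain ⟨d, B, hB⟩ := exists_paraFact hD
  exact ⟨⟨tabs, simps, k, M, d, B, [239], List.range chevE8.nroots, [[239]], 7, 0, 1, witE8, cM, good_of_mem hD, hf, negTri_of_mem hD,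
    hcf, hk, hM, hB, by decide +kernel, cover_E8, long_E8, opp_E8, adj_E8, invol_E8, wit_E8,
    by simp [linTop_E8], by decide, by decide +kernel, by decide +kernel, by decide +kernel⟩, rfl, rfl⟩

end Cfsg.Agent.Chev.Subfield
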