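/-
The unipotent intersections and the parabolic facts over an arbitrary field.
-/
import Cfsg.Agent.Lib.Chev.Parabolic

set_option autoImplicit false

namespace Cfsg.Agent.Chev.BNSetup

open Cfsg.Lie
open Cfsg.Agent.RootBN (Data)

variable {F : Type*} [Field F] {D : ChevalleyDatum} (hG : Good D) {tabs simps : List ℕ}
  (hf : Facts D tabs simps)
include hG hf

/-- Every element of `U` splits along the kept roots. -/
theorem exists_keep_split (l : List (Fin D.rank)) : ∀ {k : ℕ}, D.nroots / 2 ≤ k → ∀ g ∈ Uge hG F k,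
    ∃ a ∈ rootGen hG F {r : Fin D.nroots | Keep hG F l r.val ∧ k ≤ r.val},
      ∃ w ∈ rootGen hG F {r : Fin D.nroots | ¬ Keep hG F l r.val ∧ k ≤ r.val}, g = a * w := by
  suffices key : ∀ m k, D.nroots - k = m → D.nroots / 2 ≤ k → ∀ g ∈ Uge hG F k,
      ∃ a ∈ rootGen hG F {r : Fin D.nroots | Keep hG F l r.val ∧ k ≤ r.val},
        ∃ w ∈ rootGen hG F {r : Fin D.nroots | ¬ Keep hG F l r.val ∧ k ≤ r.val}, g = a * w from
    fun {k} hk g hg => key _ k rfl hk g hg
  intro m
  induction m with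
  | zero =>
    intro k hk _ g hg
    rw [Uge_top hG (by omega), Subgroup.mem_bot] at hg
    exact ⟨1, Subgroup.one_mem _, 1, Subgroup.one_mem _, by rw [hg, mul_one]⟩
  | succ m ih =>
    intro k hk hk' g hg
    have hkn : k < D.nroots := by omega
    obtain ⟨c, v, hv, rfl⟩ := Uge_split hG hf hkn hk' hg
    obtain ⟨a, ha, w, hw, rfl⟩ := ih (k + 1) (by omega) (by omega) v hv
    have haK : rootGen hG F {r : Fin D.nroots | Keep hG F l r.val ∧ k + 1 ≤ r.val} ≤
        rootGen hG F {r : Fin D.nroots | Keep hG F l r.val ∧ k ≤ r.val} :=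
      rootGen_mono hG fun r hr => ⟨hr.1, by have := hr.2; omega⟩
    have hwK : rootGen hG F {r : Fin D.nroots | ¬ Keep hG F l r.val ∧ k + 1 ≤ r.val} ≤
        rootGen hG F {r : Fin D.nroots | ¬ Keep hG F l r.val ∧ k ≤ r.val} :=
      rootGen_mono hG fun r hr => ⟨hr.1, by have := hr.2; omega⟩
    by_cases hkeep : Keep hG F l k
    · exact ⟨xe hG k c * a, Subgroup.mul_mem _ (xe_mem_rootGen hG (S := {r : Fin D.nroots | Keep hG F l r.val ∧ k ≤ r.val}) (r := (⟨k, hkn⟩ : Fin D.nroots))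
        ⟨hkeep, le_rfl⟩ c) (haK ha), w, hwK hw, by rw [mul_assoc]⟩
    have hle : rootGen hG F {r : Fin D.nroots | Keep hG F l r.val ∧ k + 1 ≤ r.val} ≤ Uge hG F (k + 1) := by
      rw [rootGen, Subgroup.closure_le]
      rintro _ ⟨r, hr, t, rfl⟩
      exact xe_mem_Uge hG r.2 hr.2 t
    obtain ⟨a', ha', w', hw', e⟩ := ih (k + 1) (by omega) (by omega) _
      (xe_conj_Uge hG hf (by omega) hkn hk' c (hle ha))
    refine ⟨a', haK ha', w' * (xe hG k c * w), Subgroup.mul_mem _ (hwK hw') (Subgroup.mul_mem _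
      (xe_mem_rootGen hG (S := {r : Fin D.nroots | ¬ Keep hG F l r.val ∧ k ≤ r.val}) (r := (⟨k, hkn⟩ : Fin D.nroots))
        ⟨hkeep, le_rfl⟩ c) (hwK hw)), ?_⟩
    rw [← mul_assoc a', ← e]
    group

/-- The exact description of `U ∩ n U n⁻¹`, over any field. -/
theorem exists_prodFrom_Inter' (hn : NegTri D) {k : List ℤ} (hk : PosForm D k) (l : List (Fin D.rank))
    {g : GL D.Idx F} (hg : g ∈ Inter hG F l) : ∃ t : ℕ → F, (∀ r, t r ≠ 0 → Keep hG F l r) ∧
      g = prodFrom hG F t (D.nroots / 2) (D.nroots / 2) := by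
  classical
  have ax := axioms (F := F) hG hf
  have hN : D.nroots / 2 + D.nroots / 2 = D.nroots := by have := hf.1; omega
  rw [mem_Inter] at hg
  obtain ⟨a, ha, w, hw, e⟩ := exists_keep_split hG hf l le_rfl g (by
    rw [Uge_eq_U hG hf, ← data_U hG hf]; exact hg.1)
  have haI : a ∈ Inter hG F l := by
    refine (show rootGen hG F {r : Fin D.nroots | Keep hG F l r.val ∧ D.nroots / 2 ≤ r.val} ≤ Inter hG F l from ?_) ha
    rw [rootGen, Subgroup.closure_le]
    rintro _ ⟨r, hr, t, rfl⟩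
    exact xe_mem_Inter hG hf hr.1 t
  have hwV : ((data hG F).nw l)⁻¹ * w * (data hG F).nw l ∈ D.negUnipotent F := by
    refine (show rootGen hG F {r : Fin D.nroots | ¬ Keep hG F l r.val ∧ D.nroots / 2 ≤ r.val} ≤
      (D.negUnipotent F).comap (MulAut.conj ((data hG F).nw l)⁻¹).toMonoidHom from ?_) hw |> fun h => by
        simpa using h
    rw [rootGen, Subgroup.closure_le]
    rintro _ ⟨r, hr, t, rfl⟩
    have hm := ((RootBN.Data.acts_nw ax l).inv r (xe hG r.val t)).2 ((mem_rootSubgroup hG r.2).2 ⟨t, rfl⟩)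
    rw [inv_inv] at hm
    have hneg : ¬ (data hG F).Pos (((data hG F).wl l)⁻¹ r) := fun hp => hr.1 ⟨r.2, hr.2, hp⟩
    obtain ⟨v, hv⟩ := (mem_rootSubgroup hG (((data hG F).wl l)⁻¹ r).2).1 hm
    show MulAut.conj ((data hG F).nw l)⁻¹ (xe hG r.val t) ∈ D.negUnipotent F
    rw [MulAut.conj_apply, inv_inv, hv]
    exact Subgroup.subset_closure ⟨_, v,
      ((hf.2.2.1 _ (((data hG F).wl l)⁻¹ r).2).2.2.1).2 (not_le.1 hneg), rfl⟩
  have hwU : ((data hG F).nw l)⁻¹ * w * (data hG F).nw l ∈ D.borelSubgroup F := by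
    rw [← data_B hG hf]
    refine RootBN.Data.U_le_B ?_
    have : ((data hG F).nw l)⁻¹ * w * (data hG F).nw l =
        (((data hG F).nw l)⁻¹ * a * (data hG F).nw l)⁻¹ * (((data hG F).nw l)⁻¹ * g * (data hG F).nw l) := by
      rw [e]; group
    rw [this]
    exact Subgroup.mul_mem _ (Subgroup.inv_mem _ ((mem_Inter hG).1 haI).2) hg.2
  have h1 : ((data hG F).nw l)⁻¹ * w * (data hG F).nw l = 1 :=
    Subgroup.mem_bot.1 ((borel_inf_V hG hf hn).le ⟨hwU, hwV⟩)
  have hw1 : w = 1 := by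
    calc w = (data hG F).nw l * (((data hG F).nw l)⁻¹ * w * (data hG F).nw l) * ((data hG F).nw l)⁻¹ := by group
      _ = 1 := by rw [h1, mul_one, mul_inv_cancel]
  set ω : EuclideanSpace ℝ (Fin D.nroots) := rootForm D fun i => (k.getD i.val 0 : ℝ) with hω
  have hωE : ω ∈ linForms D := ⟨_, rfl⟩
  have hωv : ∀ r : Fin D.nroots, ω r = (cartanForm D k r.val : ℝ) := fun r => by
    simp only [hω, rootForm, LinearMap.coe_mk, AddHom.coe_mk, cartanForm, Finset.sum_range, Int.cast_sum,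
      Int.cast_mul]
  have hωpos : ∀ r : Fin D.nroots, D.nroots / 2 ≤ r.val ↔ 1 ≤ ω r := fun r => by
    rw [hωv]
    constructor
    · intro h
      have : ((1 : ℤ) : ℝ) ≤ (cartanForm D k r.val : ℝ) := Int.cast_le.2 ((hk r.val r.2).1 h)
      simpa using this
    · intro h
      by_contra hc
      have := (hk r.val r.2).2 (not_le.1 hc)
      have : (cartanForm D k r.val : ℝ) < 0 := by exact_mod_cast this
      linarith
  set T : Set (Fin D.nroots) := {r | D.nroots / 2 ≤ r.val ∧ 1 ≤ moveForm ((data hG F).wl l.reverse) ω r}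
  have hT : ClosedPos D T := closedPos_ge hG hf (moveForm_wl_mem hG _ hωE) one_pos
  have haT : a ∈ rootGen hG F {r | r ∈ T ∧ D.nroots / 2 ≤ r.val} := by
    refine rootGen_mono hG ?_ ha
    rintro r ⟨⟨hr, hr', hp⟩, -⟩
    refine ⟨⟨hr', ?_⟩, hr'⟩
    show 1 ≤ ω ((data hG F).wl l.reverse r)
    rw [RootBN.Data.wl_reverse ax, ← hωpos]
    exact hp
  obtain ⟨t, ht, e'⟩ := exists_prodFrom_rootGen hG hf hT hN le_rfl a haT
  refine ⟨t, fun r hr => ?_, by rw [e, hw1, mul_one, e']⟩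
  obtain ⟨hr1, hrn, hrT⟩ := ht r hr
  refine ⟨hrn, hr1, ?_⟩
  have h2 : 1 ≤ ω ((data hG F).wl l.reverse ⟨r, hrn⟩) := hrT.2
  rw [RootBN.Data.wl_reverse ax] at h2
  exact (hωpos _).2 h2

variable {M : List ℕ} (hM : CorootFact D M)

/-- Intersections of the group of a form with its conjugate by a monomial element. -/
theorem rootGen_inter_conj' {v : EuclideanSpace ℝ (Fin D.nroots)} (hv : v ∈ linForms D)
    (hpos : ∀ r : Fin D.nroots, 1 ≤ v r → D.nroots / 2 ≤ r.val) (hn : NegTri D)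
    {k : List ℤ} (hk : PosForm D k) (l : List (Fin D.rank)) {g : GL D.Idx F}
    (h1 : g ∈ rootGen hG F {r | 1 ≤ v r})
    (h2 : ((data hG F).nw l)⁻¹ * g * (data hG F).nw l ∈ rootGen hG F {r | 1 ≤ v r}) :
    g ∈ rootGen hG F {r | 1 ≤ v r ∧ 1 ≤ v (((data hG F).wl l)⁻¹ r)} := by
  have ax := axioms (F := F) hG hf
  set σ := (data hG F).wl l with hσ
  have hS : ClosedPos D {r : Fin D.nroots | 1 ≤ v r} := by
    have : {r : Fin D.nroots | 1 ≤ v r} = {r | D.nroots / 2 ≤ r.val ∧ 1 ≤ v r} :=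
      Set.ext fun r => ⟨fun h => ⟨hpos r h, h⟩, fun h => h.2⟩
    rw [this]
    exact closedPos_ge hG hf hv one_pos
  -- the integral positive form
  set w : EuclideanSpace ℝ (Fin D.nroots) := rootForm D fun i => (k.getD i.val 0 : ℝ) with hw
  have hwE : w ∈ linForms D := ⟨_, rfl⟩
  have hwv : ∀ r : Fin D.nroots, w r = (cartanForm D k r.val : ℝ) := fun r => by
    simp only [hw, rootForm, LinearMap.coe_mk, AddHom.coe_mk, cartanForm, Finset.sum_range, Int.cast_sum,
      Int.cast_mul]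
  have hwpos : ∀ r : Fin D.nroots, D.nroots / 2 ≤ r.val ↔ 1 ≤ w r := fun r => by
    rw [hwv]
    constructor
    · intro h
      have : ((1 : ℤ) : ℝ) ≤ (cartanForm D k r.val : ℝ) := Int.cast_le.2 ((hk r.val r.2).1 h)
      simpa using this
    · intro h
      by_contra hc
      have := (hk r.val r.2).2 (not_le.1 hc)
      have : (cartanForm D k r.val : ℝ) < 0 := by exact_mod_cast this
      linarith
  set T : Set (Fin D.nroots) := {r | D.nroots / 2 ≤ r.val ∧ D.nroots / 2 ≤ (σ r).val} with hT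
  have hTc : ClosedPos D T := by
    have : T = {r : Fin D.nroots | D.nroots / 2 ≤ r.val ∧ 1 ≤ moveForm σ w r} :=
      Set.ext fun r => and_congr_right fun _ => hwpos (σ r)
    rw [this]
    exact closedPos_ge hG hf (moveForm_wl_mem hG l hwE) one_pos
  have hgA : g ∈ Inter hG F l := (mem_Inter hG).2
    ⟨rootGen_le_U hG (fun r hr => hpos r hr) h1, rootGen_le_U hG (fun r hr => hpos r hr) h2⟩
  obtain ⟨t, ht, e⟩ := exists_prodFrom_Inter' hG hf hn hk l hgA
  have hN : D.nroots / 2 + D.nroots / 2 = D.nroots := by have := hf.1; omega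
  have hgen : g ∈ rootGen hG F {r | D.nroots / 2 ≤ r.val ∧ D.nroots / 2 ≤ (σ⁻¹ r).val} := by
    rw [e]
    refine prodFrom_mem_of hG hN.le fun r hr1 hr2 hne => ?_
    obtain ⟨hr, hr', hp⟩ := ht r hne
    exact xe_mem_rootGen hG (S := {r | D.nroots / 2 ≤ r.val ∧ D.nroots / 2 ≤ (σ⁻¹ r).val})
      (r := (⟨r, hr⟩ : Fin D.nroots)) ⟨hr', hp⟩ (t r)
  have hy : ((data hG F).nw l)⁻¹ * g * (data hG F).nw l ∈ rootGen hG F T := by
    have := conj_mem_rootGen hG (RootBN.Data.acts_nw ax l).inv (T := T)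
      (fun r hr => ⟨hr.2, by
        rw [show σ (((data hG F).wl l)⁻¹ r) = r from Equiv.apply_symm_apply _ r]
        exact hr.1⟩) hgen
    rwa [inv_inv] at this
  have hy2 := rootGen_inter hG hf hS hTc h2 hy
  set S'' : Set (Fin D.nroots) := {r | D.nroots / 2 ≤ r.val ∧ 1 ≤ v (σ⁻¹ r)} with hS''
  have hS''c : ClosedPos D S'' := by
    have := closedPos_ge hG hf (moveForm_wl_mem hG (F := F) l.reverse hv) one_pos
    rwa [RootBN.Data.wl_reverse ax] at this
  have hg2 : g ∈ rootGen hG F S'' := by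
    have := conj_mem_rootGen hG (RootBN.Data.acts_nw ax l) (T := S'')
      (fun r hr => ⟨hr.2.2, by
        rw [show σ⁻¹ ((data hG F).wl l r) = r from Equiv.symm_apply_apply _ r]
        exact hr.1⟩) hy2
    simpa [mul_assoc] using this
  exact rootGen_mono hG (T := {r | 1 ≤ v r ∧ 1 ≤ v (((data hG F).wl l)⁻¹ r)}) (fun r hr => ⟨hr.1, hr.2.2⟩) (rootGen_inter hG hf hS hS''c h1 hg2)


variable {d : ℕ} {B : List (List ℤ)} (hB : ParaFact D d B)
include hM hB

/-- The parabolic subgroup normalises its radical. -/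
theorem parabolic_le_normalizer_radical' (J : Set ℕ) :
    D.parabolicSubgroup F J ≤ Subgroup.normalizer (D.unipotentRadical F J : Set (GL D.Idx F)) := by
  obtain ⟨v, hvE, hd, hJ0, -, hrad⟩ := exists_radical_form (F := F) hG hf hM hB J
  rw [hrad]
  set K := rootGen hG F {r : Fin D.nroots | 1 ≤ v r} with hK
  refine sup_le ?_ ?_
  · intro b hb
    rw [← data_B hG hf] at hb
    refine Subgroup.mem_normalizer_iff.2 fun g => ⟨borel_conj_rootGen hG hf hM hvE hd hb, fun hg => ?_⟩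
    have := borel_conj_rootGen hG hf hM hvE hd (Subgroup.inv_mem _ hb) hg
    simpa [mul_assoc] using this
  · rw [Subgroup.closure_le]
    rintro g ⟨j, hjJ, hj, hg⟩
    obtain rfl : g = (data hG F).nn ⟨j, hj⟩ := Units.ext (hg.trans (coe_ne' hG (D.simple j) 1).symm)
    set i : Fin D.rank := ⟨j, hj⟩ with hi
    have ax := axioms (F := F) hG hf
    have hpres : ∀ r ∈ {r : Fin D.nroots | 1 ≤ v r}, (data hG F).refl i r ∈ {r : Fin D.nroots | 1 ≤ v r} := by
      intro r hr
      show 1 ≤ v _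
      rw [linForms_affine hvE (a := (data hG F).refl i r) (b := r) (d := ⟨D.simple i.val, hG.simple_lt i.2⟩)
        (s := 1) (t := -D.cartan i.val r.val) (fun k hk => by
          rw [data_refl, hG.cartan_reflectRoot i.2 hk r.2]; ring), hJ0 i hjJ]
      simpa using hr
    refine Subgroup.mem_normalizer_iff.2 fun g =>
      ⟨conj_mem_rootGen hG (RootBN.Data.acts_nn ax i) hpres, fun hg => ?_⟩
    have h := conj_mem_rootGen hG (RootBN.Data.acts_nn ax i).inv (T := {r : Fin D.nroots | 1 ≤ v r})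
      (fun r hr => by rw [RootBN.Data.refl_inv ax]; exact hpres r hr) hg
    simpa [mul_assoc] using h


/-- The centraliser of the radical of a proper parabolic subgroup lies in `U`. -/
theorem centraliser_radical_le' {k : List ℤ} (hk : PosForm D k) {J : Set ℕ} (hJ : ∃ i, i < D.rank ∧ i ∉ J)
    {x : GL D.Idx F} (hx : x ∈ D.group F) (hc : ∀ g ∈ D.unipotentRadical F J, x * g = g * x) :
    x ∈ D.posUnipotent F := by
  have ax := axioms (F := F) hG hf
  obtain ⟨k0, hk0, hk0J⟩ := hJ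
  obtain ⟨v, hvE, hd, hJ0, hiff, hrad⟩ := exists_radical_form (F := F) hG hf hM hB J
  set S : Set (Fin D.nroots) := {r | 1 ≤ v r} with hS
  have hSpos : ∀ r ∈ S, D.nroots / 2 ≤ r.val := fun r hr => (pos_iff hf r.2).1 ((hiff r).1 hr).1
  have hsimpS : ∀ j : Fin D.rank, j.val ∉ J → (⟨D.simple j.val, hG.simple_lt j.2⟩ : Fin D.nroots) ∈ S := by
    intro j hj
    refine (hiff _).2 ⟨(pos_iff hf (hG.simple_lt j.2)).2 (hf.2.2.2.2.1 j.val j.2).2.1, fun hin => ?_⟩
    have h0 := hin.2 j.val j.2 hj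
    have h1 : (D.coroot.getD (D.simple j.val) #[]).getD j.val 0 = 1 := by
      obtain ⟨c, hV⟩ := hG
      rw [hV.p_eq j.2, hV.crt_eq (hV.p_lt j.2) j.val, (hV.base'.2 j.val j.2).2.2 j.val j.2, if_pos rfl]
    rw [h1] at h0
    exact one_ne_zero h0
  -- each node of `J` is the difference of two roots of the radical
  have hdiff : ∀ j : Fin D.rank, j.val ∈ J → ∃ r ∈ S, ∃ r' ∈ S, ∀ i < D.rank,
      D.cartan i r'.val = D.cartan i r.val + D.cartan i (D.simple j.val) := by
    intro j hj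
    obtain ⟨r, hr, hrpos, hcoef, hsome⟩ := hB.2.2 j.val j.2 k0 hk0 (fun e => hk0J (e ▸ hj))
    obtain ⟨r', hr'⟩ := exists_chainRoot_simple hG j.2 hr hsome
    have hrS : (⟨r, hr⟩ : Fin D.nroots) ∈ S :=
      (hiff _).2 ⟨(pos_iff hf hr).2 hrpos, fun hin => hcoef (hin.2 k0 hk0 hk0J)⟩
    refine ⟨⟨r, hr⟩, hrS, r', ?_, hr'⟩
    show 1 ≤ v r'
    rw [linForms_affine hvE (a := r') (b := ⟨r, hr⟩) (d := ⟨D.simple j.val, hG.simple_lt j.2⟩) (s := 1) (t := 1)
      (fun i hi => by rw [hr' i hi]; ring), hJ0 j hj]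
    simpa [hS] using hrS
  obtain ⟨b, hb, l, u, hu, rfl⟩ :=
    RootBN.Data.exists_normal_form ax (by rwa [data_grp hG] : x ∈ (data hG F).grp)
  have huB : u ∈ (data hG F).B := RootBN.Data.U_le_B (RootBN.Data.Um_le_U _ hu)
  have hBK : ∀ z ∈ (data hG F).B, ∀ g ∈ rootGen hG F S, z * g * z⁻¹ ∈ rootGen hG F S :=
    fun z hz g hg => borel_conj_rootGen hG hf hM hvE hd hz hg
  rw [hrad] at hc
  -- the Weyl element fixes the roots of the radical
  have hfix : ∀ r ∈ S, ((data hG F).wl l)⁻¹ r = r := by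
    intro r hr
    set g : GL D.Idx F := xe hG r.val 1 with hg
    have hgX : g ∈ (data hG F).X r := (mem_rootSubgroup hG r.2).2 ⟨1, rfl⟩
    have hgK : g ∈ rootGen hG F S := xe_mem_rootGen hG hr 1
    have e : (u * b) * g * (u * b)⁻¹ = ((data hG F).nw l)⁻¹ * g * (data hG F).nw l := by
      have h1 := hc _ (hBK b hb g hgK)
      calc (u * b) * g * (u * b)⁻¹
          = ((data hG F).nw l)⁻¹ * b⁻¹ * (b * (data hG F).nw l * u * (b * g * b⁻¹)) * u⁻¹ := by group
        _ = _ := by rw [h1]; group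
    have hm := ((RootBN.Data.acts_nw ax l).inv r g).2 hgX
    rw [inv_inv] at hm
    set r' := ((data hG F).wl l)⁻¹ r with hr'
    have hub : u * b ∈ (data hG F).B := Subgroup.mul_mem _ huB hb
    have hmB : ((data hG F).nw l)⁻¹ * g * (data hG F).nw l ∈ (data hG F).B := by
      rw [← e]
      exact Subgroup.mul_mem _ (Subgroup.mul_mem _ hub (RootBN.Data.U_le_B
        (RootBN.Data.X_le_U (D := data hG F) (r := r) (hSpos r hr) hgX))) (Subgroup.inv_mem _ hub)
    obtain ⟨t, ht⟩ := (mem_rootSubgroup hG r'.2).1 hm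
    have ht0 : t ≠ 0 := by
      rintro rfl
      rw [xe_zero hG r'.2] at ht
      have h1 : g = (data hG F).nw l * 1 * ((data hG F).nw l)⁻¹ := by rw [← ht]; group
      exact xe_ne_one hG hf r.2 one_ne_zero (by simpa [hg] using h1)
    have hpos' : D.nroots / 2 ≤ r'.val := by
      by_contra hneg
      have h6 := ax.neg_not_mem r' hneg
      rw [Subgroup.eq_bot_iff_forall] at h6
      exact xe_ne_one hG hf r'.2 ht0 (ht ▸ h6 _ ⟨hm, hmB⟩)
    refine Fin.ext (Lead.unique hG (g := xe hG r'.val t) (Lead_xe hG hf r'.2 hpos' ht0) ?_)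
    rw [← ht, ← e]
    exact Lead_conj hG hf hub (Lead_xe hG hf r.2 (hSpos r hr) one_ne_zero)
  -- hence it is trivial
  have hwl : (data hG F).wl l = 1 := by
    set w : EuclideanSpace ℝ (Fin D.nroots) := rootForm D fun i => (k.getD i.val 0 : ℝ) with hw
    have hwE : w ∈ linForms D := ⟨_, rfl⟩
    have hwv : ∀ r : Fin D.nroots, w r = (cartanForm D k r.val : ℝ) := fun r => by
      simp only [hw, rootForm, LinearMap.coe_mk, AddHom.coe_mk, cartanForm, Finset.sum_range, Int.cast_sum,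
        Int.cast_mul]
    set z := moveForm ((data hG F).wl l)⁻¹ w - w with hz
    have hzE : z ∈ linForms D := by
      rw [hz, ← RootBN.Data.wl_reverse ax]
      exact Submodule.sub_mem _ (moveForm_wl_mem hG _ hwE) hwE
    have hzS : ∀ r ∈ S, z r = 0 := fun r hr => by
      show w (((data hG F).wl l)⁻¹ r) - w r = 0
      rw [hfix r hr, sub_self]
    refine wl_eq_one_of_keep hG hf fun j => ?_
    have hz0 : z ⟨D.simple j.val, hG.simple_lt j.2⟩ = 0 := by
      by_cases hj : j.val ∈ J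
      · obtain ⟨r, hr, r', hr', e⟩ := hdiff j hj
        have h1 := linForms_affine hzE (a := r') (b := r) (d := ⟨D.simple j.val, hG.simple_lt j.2⟩) (s := 1)
          (t := 1) (fun i hi => by rw [e i hi]; ring)
        rw [hzS r hr, hzS r' hr'] at h1
        simpa using h1.symm
      · exact hzS _ (hsimpS j hj)
    refine ⟨hG.simple_lt j.2, (hf.2.2.2.2.1 j.val j.2).2.1, ?_⟩
    by_contra hneg
    have h1 : w (((data hG F).wl l)⁻¹ ⟨D.simple j.val, hG.simple_lt j.2⟩) = w ⟨D.simple j.val, hG.simple_lt j.2⟩ :=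
      sub_eq_zero.1 hz0
    rw [hwv, hwv, Int.cast_inj] at h1
    have h2 := (hk _ (Fin.is_lt (((data hG F).wl l)⁻¹ ⟨D.simple j.val, hG.simple_lt j.2⟩))).2 (not_le.1 hneg)
    have h3 := (hk _ (hG.simple_lt j.2)).1 (hf.2.2.2.2.1 j.val j.2).2.1
    dsimp only at h1
    omega
  have hnH : (data hG F).nw l ∈ (data hG F).H :=
    RootBN.Data.mem_H_of_pos_preserving ax (RootBN.Data.nw_mem_N l) (RootBN.Data.acts_nw ax l)
      fun r hr => by rwa [hwl]
  have hxB : b * (data hG F).nw l * u ∈ D.borelSubgroup F := (data_B hG hf).le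
    (Subgroup.mul_mem _ (Subgroup.mul_mem _ hb (RootBN.Data.H_le_B hnH)) huB)
  obtain ⟨v0, hv0, h, hh, e⟩ := borel_decomp hG hf hxB
  rw [e] at hc ⊢
  suffices h1 : h = 1 by rw [h1, mul_one]; exact hv0
  obtain ⟨τ, hτ⟩ := diagonal_eq_prod hG hh
  set χ : ℕ → Fˣ := fun s => ∏ j ∈ Finset.range D.rank, τ j ^ D.cartan j s with hχ
  have hχc : ∀ s, ((χ s : Fˣ) : F) = ∏ j ∈ Finset.range D.rank, ((τ j ^ D.cartan j s : Fˣ) : F) :=
    fun s => map_prod (Units.coeHom F) _ _
  have hχS : ∀ r ∈ S, χ r.val = 1 := by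
    intro r hr
    have hcomm := commute_of_conj_eq hG hf hh hv0 r.2 (hSpos r hr) (by
      have := hc _ (xe_mem_rootGen hG hr (1 : F))
      calc v0 * (h * xe hG r.val 1 * h⁻¹) * v0⁻¹ = v0 * h * xe hG r.val 1 * (v0 * h)⁻¹ := by group
        _ = _ := by rw [this, mul_inv_cancel_right])
    obtain ⟨j, hj⟩ := exists_coroot_ne_zero (F := F) hf r.2
    have hnr := hG.neg_lt r.2
    have e2 := Matrix.ext_iff.2 (show (h : Matrix D.Idx D.Idx F) * (xe hG r.val 1 : GL D.Idx F) =
        (xe hG r.val 1 : GL D.Idx F) * (h : Matrix D.Idx D.Idx F) by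
      rw [← Units.val_mul, ← Units.val_mul, hcomm]) (Sum.inl j) (Sum.inr ⟨_, hnr⟩)
    rw [coe_xe, hτ, hdiag, Matrix.diagonal_mul, Matrix.mul_diagonal, x_entry_inl r.2 hnr,
      if_neg (hG.neg_ne r.2), if_pos rfl, Sum.elim_inl, Sum.elim_inr, ← hχc, one_mul, mul_one] at e2
    have h1 : χ (D.neg r.val) = 1 := Units.ext (mul_left_cancel₀ hj ((mul_one _).trans e2)).symm
    simp only [hχ] at h1 ⊢
    rw [Finset.prod_congr rfl fun j hj => by rw [cartan_neg hG (Finset.mem_range.1 hj) r.2, zpow_neg],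
      Finset.prod_inv_distrib, inv_eq_one] at h1
    exact h1
  have key : ∀ j < D.rank, χ (D.simple j) = 1 := by
    intro j hj
    by_cases hjJ : j ∈ J
    · obtain ⟨r, hr, r', hr', e2⟩ := hdiff ⟨j, hj⟩ hjJ
      have h1 : χ r'.val = χ r.val * χ (D.simple j) := by
        simp only [hχ]
        rw [← Finset.prod_mul_distrib]
        exact Finset.prod_congr rfl fun i hi => by rw [e2 i (Finset.mem_range.1 hi), zpow_add]
      rw [hχS r hr, hχS r' hr', one_mul] at h1
      exact h1.symm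
    · exact hχS _ (hsimpS ⟨j, hj⟩ hjJ)
  refine Units.ext ?_
  rw [Units.val_one, hτ, ← hdiag_one D]
  refine hdiag_congr D fun s hs => ?_
  rw [← hχc]
  suffices χ s = 1 by rw [this, Units.val_one]
  refine hG.root_induction (P := fun s => χ s = 1) key (fun i hi r hr ih => ?_) hs
  show ∏ j ∈ Finset.range D.rank, τ j ^ D.cartan j (D.reflectRoot i r) = 1
  rw [Finset.prod_congr rfl fun j hj => by
    rw [hG.cartan_reflectRoot hi (Finset.mem_range.1 hj) hr, zpow_sub, mul_comm (D.cartan i r), zpow_mul],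
    Finset.prod_mul_distrib, Finset.prod_inv_distrib, Finset.prod_zpow]
  rw [show (∏ j ∈ Finset.range D.rank, τ j ^ D.cartan j r) = 1 from ih,
    show (∏ j ∈ Finset.range D.rank, τ j ^ D.cartan j (D.simple i)) = 1 from key i hi, one_zpow, inv_one, mul_one]

end Cfsg.Agent.Chev.BNSetup
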