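/-
Centralisers of root elements with parameter one, and the centraliser in `U` of the rational part of `U`.
-/
import Cfsg.Agent.Lib.Chev.Subfield.Env
import Cfsg.Agent.Lib.Chev.UnipotentInter
import Cfsg.Agent.Lib.Chev.Subfield.General

set_option autoImplicit false

namespace Cfsg.Agent.Chev.Subfield

open Cfsg.Lie
open Cfsg.Agent.Chev.BNSetup

variable {F : Type*} [Field F] {D : ChevalleyDatum} (E : Env D)

local notation "x[" r "," t "]" => xe (Env.good E) r t
local notation "PF" c:max => prodFrom (Env.good E) F c (ChevalleyDatum.nroots D / 2) (ChevalleyDatum.nroots D / 2)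

theorem Env.half_add (E : Env D) : D.nroots / 2 + D.nroots / 2 = D.nroots := by have := E.facts.1; omega

theorem Env.top_pos (E : Env D) : D.nroots - 1 < D.nroots ∧ D.nroots / 2 ≤ D.nroots - 1 := E.T_pos _ E.top_mem

/-- Conjugation by the monomial element of a word. -/
theorem nw_conj_xe (l : List (Fin D.rank)) (a : Fin D.nroots) :
    ∃ η : F, η ≠ 0 ∧ ∀ t, (data E.good F).nw l * x[a.val, t] * ((data E.good F).nw l)⁻¹ =
      x[((data E.good F).wl l a).val, η * t] := by
  induction l with
  | nil => exact ⟨1, one_ne_zero, fun t => by simp⟩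
  | cons i l ih =>
    obtain ⟨η, hη, h⟩ := ih
    obtain ⟨e, he, hx, -⟩ := exists_conj E.good (F := F) i.2 ((data E.good F).wl l a).2
    refine ⟨e * η, mul_ne_zero (fun h0 => by simp [h0] at he) hη, fun t => ?_⟩
    rw [RootBN.Data.nw_cons, RootBN.Data.wl_cons, Equiv.Perm.mul_apply, data_refl, mul_assoc e η t, ← hx, ← h]
    show ne' E.good (D.simple i.val) 1 * (data E.good F).nw l * _ * (ne' E.good (D.simple i.val) 1 * (data E.good F).nw l)⁻¹ = _
    group

theorem nw_inv_conj_xe (l : List (Fin D.rank)) (a : Fin D.nroots) :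
    ∃ η : F, η ≠ 0 ∧ ∀ t, ((data E.good F).nw l)⁻¹ * x[a.val, t] * (data E.good F).nw l =
      x[(((data E.good F).wl l)⁻¹ a).val, η * t] := by
  obtain ⟨η, hη, h⟩ := nw_conj_xe (F := F) E l (((data E.good F).wl l)⁻¹ a)
  refine ⟨η⁻¹, inv_ne_zero hη, fun t => ?_⟩
  have := h (η⁻¹ * t)
  rw [mul_inv_cancel_left₀ hη, show (data E.good F).wl l (((data E.good F).wl l)⁻¹ a) = a from
    Equiv.apply_symm_apply _ a] at this
  rw [← this]; group

/-- Conjugation by a diagonal element. -/
theorem H_conj_xe {h : GL D.Idx F} (hh : h ∈ D.diagonalSubgroup F) {a : ℕ} (ha : a < D.nroots) :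
    ∃ χ : F, χ ≠ 0 ∧ ∀ t, h * x[a, t] * h⁻¹ = x[a, χ * t] := by
  obtain ⟨τ, hτ⟩ := diagonal_eq_prod E.good hh
  obtain rfl : h = ((List.range D.rank).map fun i => he E.good (D.simple i) (τ i : F)).prod :=
    Units.ext (hτ.trans (coe_prod_he E.good τ D.rank le_rfl).symm)
  suffices key : ∀ L : List ℕ, (∀ i ∈ L, i < D.rank) → ∃ χ : F, χ ≠ 0 ∧ ∀ t,
      (L.map fun i => he E.good (D.simple i) (τ i : F)).prod * x[a, t] *
        ((L.map fun i => he E.good (D.simple i) (τ i : F)).prod)⁻¹ = x[a, χ * t] from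
    key _ fun i hi => List.mem_range.1 hi
  intro L hL
  induction L with
  | nil => exact ⟨1, one_ne_zero, fun t => by simp⟩
  | cons i L ih =>
    obtain ⟨χ, hχ, h⟩ := ih fun j hj => hL j (List.mem_cons_of_mem _ hj)
    have hne : ((τ i : F)) ≠ 0 := (τ i).ne_zero
    refine ⟨(τ i : F) ^ D.cartan i a * χ, mul_ne_zero (zpow_ne_zero _ hne) hχ, fun t => ?_⟩
    rw [List.map_cons, List.prod_cons, mul_assoc ((τ i : F) ^ D.cartan i a)]
    have e : he E.good (D.simple i) (τ i : F) * x[a, χ * t] * (he E.good (D.simple i) (τ i : F))⁻¹ =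
        x[a, (τ i : F) ^ D.cartan i a * (χ * t)] := by
      rw [mul_inv_eq_iff_eq_mul]
      refine Units.ext ?_
      simp only [Units.val_mul, coe_he, coe_xe]
      exact E.good.hMat_mul_x (hL i List.mem_cons_self) ha hne _
    rw [← e, ← h]; group

/-- A set of pairwise commuting positive roots. -/
structure CommSet (F : Type*) [Field F] (A : Set ℕ) : Prop where
  pos : ∀ a ∈ A, a < D.nroots ∧ D.nroots / 2 ≤ a
  comm : ∀ a ∈ A, ∀ b ∈ A, ∀ t u : F, Commute (xe E.good a t) (xe E.good b u)

/-- A function that is a product of root elements of `A` linear in the parameter. -/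
def LinOn (A : Set ℕ) (f : F → GL D.Idx F) : Prop :=
  ∃ c : ℕ → F, (∀ j, c j ≠ 0 → j ∈ A) ∧ ∀ t, f t = PF (fun j => t * c j)

variable {E}

theorem PF_add {A : Set ℕ} (hA : CommSet E F A) {c d : ℕ → F} (hc : ∀ j, c j ≠ 0 → j ∈ A)
    (hd : ∀ j, d j ≠ 0 → j ∈ A) : ∀ {k m : ℕ}, k + m ≤ D.nroots →
    prodFrom E.good F (fun j => c j + d j) k m = prodFrom E.good F c k m * prodFrom E.good F d k m := by
  intro k m
  induction m generalizing k with
  | zero => intro _; simp [prodFrom]
  | succ m ih =>
    intro h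
    have hk : k < D.nroots := by omega
    have hcom : Commute (prodFrom E.good F c (k + 1) m) x[k, d k] := by
      by_cases h0 : d k = 0
      · rw [h0, xe_zero E.good hk]; exact Commute.one_right _
      refine (Subgroup.mem_centralizer_iff.1 (prodFrom_mem_of E.good (K := Subgroup.centralizer {x[k, d k]})
        (t := c) (by omega) fun j _ _ hj => ?_) _ rfl).symm
      exact Subgroup.mem_centralizer_iff.2 fun y hy => by
        rw [Set.mem_singleton_iff.1 hy]
        exact (hA.comm k (hd k h0) j (hc j hj) _ _)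
    simp only [prodFrom, ih (k := k + 1) (by omega)]
    rw [← xe_add E.good hk, mul_assoc, ← mul_assoc x[k, d k], ← hcom.eq]
    group

theorem PF_single {a : ℕ} (ha : D.nroots / 2 ≤ a) (ha' : a < D.nroots) (u : F) :
    PF (Function.update (fun _ => (0 : F)) a u) = x[a, u] := by
  suffices key : ∀ m k, k + m ≤ D.nroots → prodFrom E.good F (Function.update (fun _ => (0 : F)) a u) k m =
      if k ≤ a ∧ a < k + m then x[a, u] else 1 by
    rw [key _ _ E.half_add.le, if_pos ⟨ha, by rw [E.half_add]; exact ha'⟩]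
  intro m
  induction m with
  | zero => intro k _; rw [if_neg (by omega)]; rfl
  | succ m ih =>
    intro k hk
    rw [prodFrom, ih (k + 1) (by omega)]
    by_cases hka : k = a
    · subst hka
      rw [Function.update_self, if_neg (by omega), if_pos (by omega), mul_one]
    · rw [Function.update_of_ne hka, xe_zero E.good (by omega), one_mul]
      by_cases h : k + 1 ≤ a ∧ a < k + 1 + m
      · rw [if_pos h, if_pos (by omega)]
      · rw [if_neg h, if_neg (by omega)]

theorem LinOn.one (A : Set ℕ) : LinOn E A (fun _ : F => (1 : GL D.Idx F)) := by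
  refine ⟨fun _ => 0, fun j h => absurd rfl h, fun t => ?_⟩
  refine (Subgroup.mem_bot.1 (prodFrom_mem_of E.good (K := ⊥) E.half_add.le fun j _ _ h => ?_)).symm
  exact absurd (mul_zero t) h

theorem LinOn.mul {A : Set ℕ} (hA : CommSet E F A) {f g : F → GL D.Idx F} (hf : LinOn E A f)
    (hg : LinOn E A g) : LinOn E A (fun t => f t * g t) := by
  classical
  obtain ⟨c, hc, hf⟩ := hf
  obtain ⟨d, hd, hg⟩ := hg
  refine ⟨fun j => if j ∈ A then c j + d j else 0, fun j h => by_contra fun hj => h (if_neg hj), fun t => ?_⟩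
  show f t * g t = _
  rw [hf, hg, ← PF_add hA (fun j h => hc j (right_ne_zero_of_mul h)) (fun j h => hd j (right_ne_zero_of_mul h))
    E.half_add.le]
  congr 1
  funext j
  by_cases hj : j ∈ A
  · simp only [if_pos hj, mul_add]
  · have h1 : c j = 0 := by_contra fun h => hj (hc j h)
    have h2 : d j = 0 := by_contra fun h => hj (hd j h)
    simp [hj, h1, h2]

theorem LinOn.single {A : Set ℕ} (hA : CommSet E F A) {a : ℕ} (ha : a ∈ A) (u : F) :
    LinOn E A (fun t => x[a, t * u]) := by
  refine ⟨Function.update (fun _ => (0 : F)) a u, fun j h => ?_, fun t => ?_⟩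
  · by_contra hj
    rw [Function.update_of_ne (fun e : j = a => hj (e ▸ ha))] at h
    exact h rfl
  · show x[a, t * u] = _
    rw [← PF_single (E := E) (hA.pos a ha).2 (hA.pos a ha).1 (t * u)]
    congr 1
    funext j
    by_cases hj : j = a
    · subst hj; simp
    · simp [Function.update_of_ne hj]

/-- A property closed under products holds for all linear products. -/
theorem LinOn.induction {A : Set ℕ} {P : (F → GL D.Idx F) → Prop} (h1 : P fun _ => 1)
    (hmul : ∀ f g, P f → P g → P fun t => f t * g t) (hsingle : ∀ a ∈ A, ∀ u, P fun t => x[a, t * u])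
    {f : F → GL D.Idx F} (hf : LinOn E A f) : P f := by
  obtain ⟨c, hc, hf⟩ := hf
  rw [show f = fun t => PF (fun j => t * c j) from funext hf]
  suffices key : ∀ m k, k + m ≤ D.nroots → P fun t => prodFrom E.good F (fun j => t * c j) k m from
    key _ _ E.half_add.le
  intro m
  induction m with
  | zero => intro k _; exact h1
  | succ m ih =>
    intro k hk
    refine hmul (fun t => x[k, t * c k]) _ ?_ (ih (k + 1) (by omega))
    by_cases h0 : c k = 0
    · simp only [h0, mul_zero, xe_zero E.good (show k < D.nroots by omega)]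
      exact h1
    · exact hsingle k (hc k h0) _

theorem commSet_of_list {A : List ℕ} (hpos : ∀ a ∈ A, a < D.nroots ∧ D.nroots / 2 ≤ a)
    (hcomm : ∀ a ∈ A, ∀ b ∈ A, a ≠ b → D.commTerms a b = []) : CommSet E F {a | a ∈ A} := by
  refine ⟨hpos, fun a ha b hb t u => ?_⟩
  obtain ⟨ha1, ha2⟩ := hpos a ha
  obtain ⟨hb1, hb2⟩ := hpos b hb
  by_cases hab : a = b
  · subst hab
    show _ * _ = _ * _
    rw [xe_add E.good ha1, xe_add E.good ha1, add_comm]
  have hne : b ≠ D.neg a := by
    rw [neg_eq E.facts ha1]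
    have := E.facts.1
    omega
  refine Units.ext ?_
  have h := E.good.comm_formula ha1 hb1 (Ne.symm hab) hne t u
  simp only [ChevalleyDatum.commWord, hcomm a ha b hb hab, List.map_nil, ChevalleyDatum.wordMat, List.prod_nil,
    mul_one] at h
  simp only [Units.val_mul, coe_xe]
  exact h.symm

/-- A linear product conjugated by an element of `U` is one, on a linear top set. -/
theorem LinOn.conj_U {A : List ℕ} (hA : LinTop D A) {u : GL D.Idx F} (hu : u ∈ D.posUnipotent F)
    {f : F → GL D.Idx F} (hf : LinOn E {a | a ∈ A} f) : LinOn E {a | a ∈ A} (fun t => u * f t * u⁻¹) := by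
  have hC := commSet_of_list (E := E) (F := F) hA.1 hA.2.2
  set S : Set ℕ := {a | a ∈ A} with hS
  have hgen : ∀ (k : ℕ) (v : F), k < D.nroots → D.nroots / 2 ≤ k → ∀ f : F → GL D.Idx F, LinOn E S f →
      LinOn E S (fun t => x[k, v] * f t * (x[k, v])⁻¹) := by
    intro k v hk hk' f hf
    refine LinOn.induction (P := fun f => LinOn E S (fun t => x[k, v] * f t * (x[k, v])⁻¹)) ?_ ?_ ?_ hf
    · simpa using LinOn.one (E := E) (F := F) S
    · intro f g h1 h2
      have := h1.mul hC h2
      simpa [mul_assoc] using this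
    · intro a ha w
      obtain ⟨ha1, ha2⟩ := hA.1 a ha
      by_cases hka : k = a
      · subst hka
        have e : (fun t => x[k, v] * x[k, t * w] * (x[k, v])⁻¹) = fun t => x[k, t * w] := funext fun t => by
          rw [xe_add E.good hk, xe_inv E.good hk, xe_add E.good hk, add_neg_cancel_comm]
        rw [e]
        exact LinOn.single hC ha w
      have hne : a ≠ D.neg k := by
        rw [neg_eq E.facts hk]
        have := E.facts.1
        omega
      have hword : ∀ L : List (ℕ × ℤ × ℕ × ℕ), (∀ x ∈ L, x.1 ∈ A ∧ x.2.2.2 = 1) →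
          ∃ g : F → GL D.Idx F, LinOn E S g ∧ ∀ t, (g t : Matrix D.Idx D.Idx F) = D.wordMat F
            (L.map fun c => (c.1, (c.2.1 : F) * (- -v) ^ c.2.2.1 * (t * w) ^ c.2.2.2)) := by
        intro L
        induction L with
        | nil => intro _; exact ⟨fun _ => 1, LinOn.one S, fun t => by simp [ChevalleyDatum.wordMat]⟩
        | cons x L ih =>
          intro hx
          obtain ⟨g, hg, he⟩ := ih fun y hy => hx y (List.mem_cons_of_mem _ hy)
          obtain ⟨h1, h2⟩ := hx x List.mem_cons_self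
          refine ⟨fun t => x[x.1, t * ((x.2.1 : F) * (- -v) ^ x.2.2.1 * w)] * g t,
            (LinOn.single hC h1 _).mul hC hg, fun t => ?_⟩
          simp only [Units.val_mul, coe_xe, he, ChevalleyDatum.wordMat, List.map_cons, List.prod_cons, h2, pow_one]
          congr 2; ring
      obtain ⟨g, hg, hge⟩ := hword (D.commTerms k a) fun x hx => hA.2.1 a ha k hk hk' hka x hx
      suffices e' : (fun t => x[k, v] * x[a, t * w] * (x[k, v])⁻¹) = fun t => x[a, t * w] * g t by
        rw [e']; exact (LinOn.single hC ha w).mul hC hg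
      funext t
      have h := E.good.comm_formula hk ha1 (Ne.symm hka) hne (-v) (t * w)
      have e : x[a, t * w] * x[k, -v] = x[k, -v] * x[a, t * w] * g t :=
        Units.ext (by simp only [Units.val_mul, coe_xe, h, hge]; rfl)
      rw [xe_inv E.good hk, mul_assoc, e, ← mul_assoc, ← mul_assoc, xe_add E.good hk, add_neg_cancel,
        xe_zero E.good hk, one_mul]
  rw [← Uge_eq_U E.good E.facts] at hu
  induction hu using Subgroup.closure_induction_left with
  | one => simpa using hf
  | mul_left x hx z _ ih =>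
    obtain ⟨k, v, hk, hk', rfl⟩ := hx
    have := hgen k v hk hk' _ ih
    simpa [mul_assoc] using this
  | inv_mul_cancel x hx z _ ih =>
    obtain ⟨k, v, hk, hk', rfl⟩ := hx
    rw [xe_inv E.good hk]
    have := hgen k (-v) hk hk' _ ih
    simpa [mul_assoc] using this

theorem LinOn.conj_H {A : Set ℕ} (hA : CommSet E F A) {h : GL D.Idx F} (hh : h ∈ D.diagonalSubgroup F)
    {f : F → GL D.Idx F} (hf : LinOn E A f) : LinOn E A (fun t => h * f t * h⁻¹) := by
  refine LinOn.induction (P := fun f => LinOn E A (fun t => h * f t * h⁻¹)) ?_ ?_ ?_ hf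
  · simpa using LinOn.one (E := E) (F := F) A
  · intro f g h1 h2
    have := h1.mul hA h2
    simpa [mul_assoc] using this
  · intro a ha u
    obtain ⟨χ, -, hχ⟩ := H_conj_xe E hh (hA.pos a ha).1
    simp only [hχ, mul_left_comm χ]
    exact LinOn.single hA ha _


theorem commute_of_one_top {A : List ℕ} (hA : LinTop D A) {h : ℕ} (hh : h ∈ A) {g : GL D.Idx F}
    (hg : g ∈ D.group F) (hc : Commute g x[h, (1 : F)]) (t : F) : Commute g x[h, t] := by
  have ax := axioms (F := F) E.good E.facts
  have hC := commSet_of_list (E := E) (F := F) hA.1 hA.2.2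
  set S : Set ℕ := {a | a ∈ A} with hS
  obtain ⟨b, hb, l, u, hu, rfl⟩ :=
    RootBN.Data.exists_normal_form ax (by rwa [data_grp E.good] : g ∈ (data E.good F).grp)
  set n := (data E.good F).nw l with hn
  have hhS : LinOn E S (fun t : F => x[h, t]) := by simpa using LinOn.single hC (a := h) hh (1 : F)
  have hP := LinOn.conj_U hA (RootBN.Data.Um_le_U _ hu |> (data_U E.good E.facts).le) hhS
  rw [data_B E.good E.facts] at hb
  obtain ⟨u0, hu0, h0, hh0, rfl⟩ := borel_decomp E.good E.facts hb
  have hQ : LinOn E S (fun t => (u0 * h0)⁻¹ * x[h, t] * (u0 * h0)) := by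
    have := LinOn.conj_H hC (Subgroup.inv_mem _ hh0) (LinOn.conj_U hA (Subgroup.inv_mem _ hu0) hhS)
    simpa [mul_assoc] using this
  obtain ⟨c, hc1, hP'⟩ := hP
  obtain ⟨d, hd1, hQ'⟩ := hQ
  beta_reduce at hP' hQ'
  -- the values at one
  have e1 : n⁻¹ * PF (fun j => (1 : F) * d j) * n = PF (fun j => (1 : F) * c j) := by
    rw [← hP', ← hQ']
    calc n⁻¹ * ((u0 * h0)⁻¹ * x[h, (1 : F)] * (u0 * h0)) * n
        = n⁻¹ * (u0 * h0)⁻¹ * (x[h, (1 : F)] * (u0 * h0 * n * u)) * u⁻¹ := by group
      _ = _ := by rw [← hc.eq]; group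
  simp only [one_mul] at e1
  have hU : ∀ c : ℕ → F, PF c ∈ (data E.good F).U := fun c => by
    rw [data_U E.good E.facts, ← Uge_eq_U E.good E.facts]
    exact prodFrom_mem E.good E.half_add
  have hint : PF d ∈ Inter E.good F l := (mem_Inter E.good).2 ⟨hU d, e1 ▸ hU c⟩
  obtain ⟨t', ht', e2⟩ := exists_prodFrom_Inter' E.good E.facts E.negTri E.posForm l hint
  have hkeep : ∀ j, D.nroots / 2 ≤ j → j < D.nroots → d j ≠ 0 → Keep E.good F l j := fun j h1 h2 h3 =>
    ht' j (by rwa [← prodFrom_inj E.good E.facts E.half_add le_rfl e2 j h1 h2])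
  -- the image set
  set A' : Set ℕ := {a | ∃ j : Fin D.nroots, j.val ∈ A ∧ Keep E.good F l j.val ∧
    (((data E.good F).wl l)⁻¹ j).val = a} with hA'
  have hC' : CommSet E F A' := by
    refine ⟨?_, ?_⟩
    · rintro _ ⟨j, -, ⟨_, -, hk⟩, rfl⟩
      exact ⟨Fin.is_lt _, hk⟩
    · rintro _ ⟨i, hi, -, rfl⟩ _ ⟨j, hj, -, rfl⟩ v w
      obtain ⟨η, hη, h1⟩ := nw_inv_conj_xe E (F := F) l i
      obtain ⟨η', hη', h2⟩ := nw_inv_conj_xe E (F := F) l j
      have := (hC.comm _ hi _ hj (η⁻¹ * v) (η'⁻¹ * w)).map (MulAut.conj ((data E.good F).nw l)⁻¹).toMonoidHom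
      simpa [MulAut.conj_apply, inv_inv, h1, h2, mul_inv_cancel_left₀ hη, mul_inv_cancel_left₀ hη'] using this
  have hf : LinOn E A' (fun t => n⁻¹ * PF (fun j => t * d j) * n) := by
    refine LinOn.induction (E := E) (A := {j | j ∈ A ∧ ∃ _ : j < D.nroots, Keep E.good F l j})
      (P := fun f => LinOn E A' (fun t => n⁻¹ * f t * n)) ?_ ?_ ?_ ?_
    · simpa using LinOn.one (E := E) (F := F) A'
    · intro f g h1 h2
      have := h1.mul hC' h2
      simpa [mul_assoc] using this
    · rintro a ⟨ha, ha', hk⟩ v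
      obtain ⟨η, -, h1⟩ := nw_inv_conj_xe E (F := F) l ⟨a, ha'⟩
      simp only [hn, h1, mul_left_comm η]
      exact LinOn.single hC' ⟨⟨a, ha'⟩, ha, hk, rfl⟩ _
    · exact ⟨d, fun j hj => ⟨hd1 j hj, (hA.1 j (hd1 j hj)).1,
        hkeep j (hA.1 j (hd1 j hj)).2 (hA.1 j (hd1 j hj)).1 hj⟩, fun t => rfl⟩
  obtain ⟨c', -, hf'⟩ := hf
  beta_reduce at hf'
  have ecc : ∀ j, D.nroots / 2 ≤ j → j < D.nroots → c' j = c j := fun j h1 h2 => by
    have e3 := hf' 1
    simp only [one_mul] at e3
    exact prodFrom_inj E.good E.facts E.half_add le_rfl (e3.symm.trans e1) j h1 h2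
  have hall : n⁻¹ * PF (fun j => t * d j) * n = PF (fun j => t * c j) := by
    rw [hf' t]
    suffices key : ∀ m k, k + m = D.nroots → D.nroots / 2 ≤ k →
        prodFrom E.good F (fun j => t * c' j) k m = prodFrom E.good F (fun j => t * c j) k m from
      key _ _ E.half_add le_rfl
    intro m
    induction m with
    | zero => intros; rfl
    | succ m ih =>
      intro k hk hk'
      rw [prodFrom, prodFrom, ih (k + 1) (by omega) (by omega), ecc k hk' (by omega)]
  rw [← hP', ← hQ'] at hall
  show u0 * h0 * n * u * x[h, t] = x[h, t] * (u0 * h0 * n * u)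
  calc u0 * h0 * n * u * x[h, t] = u0 * h0 * n * (u * x[h, t] * u⁻¹) * u := by group
    _ = _ := by rw [← hall]; group

/-- A root element with parameter one has the centraliser of its root subgroup. -/
theorem commute_of_one {r : ℕ} (hr : r < D.nroots) {g : GL D.Idx F} (hg : g ∈ D.group F)
    (hc : Commute g x[r, (1 : F)]) (t : F) : Commute g x[r, t] := by
  have hG := E.good
  suffices key : ∀ r < D.nroots, ∀ g ∈ D.group F, Commute g x[r, (1 : F)] → ∀ t : F, Commute g x[r, t] from
    key r hr g hg hc t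
  clear hr hc hg g t r
  have step : ∀ i < D.rank, ∀ s < D.nroots, (∀ g ∈ D.group F, Commute g x[s, (1 : F)] → ∀ t : F, Commute g x[s, t]) →
      ∀ g ∈ D.group F, Commute g x[D.reflectRoot i s, (1 : F)] → ∀ t : F, Commute g x[D.reflectRoot i s, t] := by
    intro i hi s hs ih g hg hc t
    obtain ⟨e, he, hx, -⟩ := exists_conj hG (F := F) hi hs
    set N := ne' hG (D.simple i) (1 : F)
    have hN : N ∈ D.group F := Subgroup.mul_mem _ (Subgroup.mul_mem _ (xe_mem_group hG (hG.simple_lt hi) _)
      (xe_mem_group hG (hG.neg_lt (hG.simple_lt hi)) _)) (xe_mem_group hG (hG.simple_lt hi) _)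
    have hg' : N⁻¹ * g * N ∈ D.group F := Subgroup.mul_mem _ (Subgroup.mul_mem _ (Subgroup.inv_mem _ hN) hg) hN
    have hconj : ∀ v, N⁻¹ * x[D.reflectRoot i s, v] * N = x[s, e * v] := fun v => by
      have := hx (e * v)
      rw [← mul_assoc, he, one_mul] at this
      rw [← this]; group
    have h1 : Commute (N⁻¹ * g * N) x[s, e] := by
      have := hc.map (MulAut.conj N⁻¹).toMonoidHom
      simpa [MulAut.conj_apply, inv_inv, hconj] using this
    have h1' : Commute (N⁻¹ * g * N) x[s, (1 : F)] := by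
      rcases mul_self_eq_one_iff.1 he with rfl | rfl
      · exact h1
      · have := h1.inv_right
        rwa [xe_inv hG hs, neg_neg] at this
    have h2 := (ih _ hg' h1' (e * t)).map (MulAut.conj N).toMonoidHom
    have h3 : N * x[s, e * t] * N⁻¹ = x[D.reflectRoot i s, t] := by
      rw [← hconj]; group
    simpa [MulAut.conj_apply, h3, mul_assoc] using h2
  have hpos : ∀ m r, r < D.nroots → D.nroots / 2 ≤ r → D.nroots - r = m →
      ∀ g ∈ D.group F, Commute g x[r, (1 : F)] → ∀ t : F, Commute g x[r, t] := by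
    intro m
    induction m using Nat.strong_induction_on with
    | _ m ih =>
      intro r hr hr' hm
      rcases E.cover r hr hr' with hT | ⟨i, hi, hlt⟩
      · obtain ⟨A, hA, hrA⟩ := E.tops_cover r hT
        exact fun g hg hc t => commute_of_one_top (E := E) (E.linTop A hA) hrA hg hc t
      · have := step i hi _ (hG.reflectRoot_lt hi hr) (ih (D.nroots - D.reflectRoot i r)
          (by have := hG.reflectRoot_lt hi hr; omega) _ (hG.reflectRoot_lt hi hr) (by omega) rfl)
        rwa [hG.reflectRoot_reflectRoot hi hr] at this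
  intro r hr
  refine hG.root_induction (P := fun r => ∀ g ∈ D.group F, Commute g x[r, (1 : F)] → ∀ t : F, Commute g x[r, t])
    (fun i hi => hpos _ _ (hG.simple_lt hi) (E.facts.2.2.2.2.1 i hi).2.1 rfl) step hr

variable (E)

/-- An element of `U` commuting with `x_r(1)` for all positive roots lies in the group of the highest roots. -/
theorem mem_rootGen_T {z : GL D.Idx F} (hz : z ∈ D.posUnipotent F)
    (hc : ∀ r < D.nroots, D.nroots / 2 ≤ r → Commute z x[r, (1 : F)]) :
    z ∈ rootGen E.good F {r : Fin D.nroots | r.val ∈ E.T} := by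
  classical
  have hG := E.good
  have hf := E.facts
  set R := rootGen hG F {r : Fin D.nroots | r.val ∈ E.T} with hR
  suffices key : ∀ m k, k + m = D.nroots → D.nroots / 2 ≤ k → ∀ y ∈ R, ∀ v ∈ Uge hG F k, y * v = z → z ∈ R from
    key (D.nroots / 2) (D.nroots / 2) E.half_add le_rfl 1 (Subgroup.one_mem _) z
      (by rwa [Uge_eq_U hG hf]) (one_mul z)
  intro m
  induction m with
  | zero =>
    intro k hk _ y hy v hv e
    rw [Uge_top hG (by omega), Subgroup.mem_bot] at hv
    rwa [← e, hv, mul_one]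
  | succ m ih =>
    intro k hk hk' y hy v hv e
    have hkn : k < D.nroots := by omega
    obtain ⟨c, w, hw, rfl⟩ := Uge_split hG hf hkn hk' hv
    by_cases hkT : k ∈ E.T
    · exact ih (k + 1) (by omega) (by omega) (y * x[k, c])
        (Subgroup.mul_mem _ hy (xe_mem_rootGen hG (r := (⟨k, hkn⟩ : Fin D.nroots)) hkT c)) w hw
        (by rw [← e, mul_assoc])
    suffices hc0 : c = 0 by
      refine ih (k + 1) (by omega) (by omega) y hy w hw ?_
      rw [← e, hc0, xe_zero hG hkn, one_mul]
    obtain ⟨hW, hgcd⟩ := E.witFact k hkn hk' hkT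
    by_contra hcne
    obtain ⟨p, hp⟩ := CharP.exists F
    have hall : ∀ a ∈ E.wit.getD (k - D.nroots / 2) [],
        ((((D.commTerms k a).head?.map fun x => x.2.1.natAbs).getD 0 : ℕ) : F) = 0 := by
      intro a ha
      have hw' := hW a ha
      simp only [WitAt, Bool.and_eq_true, decide_eq_true_eq, bne_iff_ne] at hw'
      obtain ⟨⟨⟨ha1, ha2⟩, hak⟩, hm⟩ := hw'
      rcases hterms : D.commTerms k a with _ | ⟨x, rest⟩
      · simp
      rw [hterms] at hm
      simp only [Bool.and_eq_true, beq_iff_eq, List.all_eq_true, decide_eq_true_eq, List.mem_range,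
        Bool.or_eq_true, Bool.not_eq_true', Bool.and_eq_false_iff, Bool.or_eq_false_iff, decide_eq_false_iff_not,
        List.contains_eq_mem] at hm
      obtain ⟨⟨⟨hi1, hj1⟩, hrest⟩, hothers⟩ := hm
      have hx1 := commTerms_pos hG hf hkn ha1 hk' ha2 (x := x) (by rw [hterms]; exact List.mem_cons_self)
      set N := Uge hG F (x.1 + 1) with hN
      have hN1 : D.nroots / 2 ≤ x.1 + 1 := by omega
      set X := x[a, (1 : F)] with hX
      let K : Subgroup (GL D.Idx F) :=
        { carrier := {g | g ∈ D.posUnipotent F ∧ g * X * g⁻¹ * X⁻¹ ∈ N}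
          one_mem' := ⟨Subgroup.one_mem _, by simp⟩
          mul_mem' := by
            rintro g g' ⟨hg, hg1⟩ ⟨hg', hg'1⟩
            refine ⟨Subgroup.mul_mem _ hg hg', ?_⟩
            have h2 : g * (g' * X * g'⁻¹ * X⁻¹) * g⁻¹ ∈ N := borel_conj_Uge hG hf hN1
              ((data_B hG hf).ge (Subgroup.mem_sup_left hg)) hg'1
            have := Subgroup.mul_mem _ h2 hg1
            simpa [mul_assoc] using this
          inv_mem' := by
            rintro g ⟨hg, hg1⟩
            refine ⟨Subgroup.inv_mem _ hg, ?_⟩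
            have h2 : g⁻¹ * (g * X * g⁻¹ * X⁻¹)⁻¹ * g⁻¹⁻¹ ∈ N := borel_conj_Uge hG hf hN1
              ((data_B hG hf).ge (Subgroup.mem_sup_left (Subgroup.inv_mem _ hg))) (Subgroup.inv_mem _ hg1)
            simpa [mul_assoc] using h2 }
      have hKgen : ∀ (k2 : ℕ) (v : F), k2 < D.nroots → D.nroots / 2 ≤ k2 → (k < k2 ∨ k2 ∈ E.T) →
          x[k2, v] ∈ K := by
        intro k2 v hk2 hk2' hcase
        refine ⟨Subgroup.subset_closure ⟨k2, v, (pos_iff hf hk2).2 hk2', rfl⟩, ?_⟩
        by_cases hka : k2 = a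
        · subst hka
          rw [hX, xe_add hG hk2, xe_inv hG hk2, xe_add hG hk2, xe_inv hG hk2, xe_add hG hk2]
          simp [xe_zero hG hk2]
        have hall2 : ∀ y ∈ D.commTerms k2 a, x.1 < y.1 := by
          rcases hothers k2 hk2 with h | h
          · rcases h with h | h
            · rcases h with h | h
              · exact absurd hk2' h
              · exact absurd hcase (by rintro (h' | h'); exacts [h.1 h', by simp [h'] at h])
            · exact absurd h hka
          · exact h
        have hXU : X ∈ D.posUnipotent F := Subgroup.subset_closure ⟨a, 1, (pos_iff hf ha1).2 ha2, rfl⟩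
        set Z := Subgroup.closure {g | ∃ y ∈ D.commTerms k2 a, ∃ v : F, g = x[y.1, v]} with hZ
        have hZN : Z ≤ N := by
          rw [hZ, Subgroup.closure_le]
          rintro _ ⟨y, hy, v, rfl⟩
          exact xe_mem_Uge hG (commTerms_pos hG hf hk2 ha1 hk2' ha2 hy).1 (hall2 y hy) v
        have hne : a ≠ D.neg k2 := by rw [neg_eq hf hk2]; have := hf.1; omega
        have h := hG.comm_formula (F := F) hk2 ha1 (Ne.symm hka) hne (-v) 1
        have hword : ∀ L : List (ℕ × ℤ × ℕ × ℕ), (∀ y ∈ L, y ∈ D.commTerms k2 a) →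
            ∃ g ∈ Z, (g : Matrix D.Idx D.Idx F) = D.wordMat F
              (L.map fun c => (c.1, (c.2.1 : F) * (- -v) ^ c.2.2.1 * (1 : F) ^ c.2.2.2)) := by
          intro L
          induction L with
          | nil => intro _; exact ⟨1, Subgroup.one_mem _, by simp [ChevalleyDatum.wordMat]⟩
          | cons y L ih =>
            intro hy
            obtain ⟨g, hg, he⟩ := ih fun z hz => hy z (List.mem_cons_of_mem _ hz)
            refine ⟨x[y.1, (y.2.1 : F) * (- -v) ^ y.2.2.1 * (1 : F) ^ y.2.2.2] * g,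
              Subgroup.mul_mem _ (Subgroup.subset_closure ⟨y, hy y List.mem_cons_self, _, rfl⟩) hg, ?_⟩
            simp [ChevalleyDatum.wordMat, coe_xe, he]
        obtain ⟨g, hg, hge⟩ := hword _ fun y hy => hy
        have e1 : X * x[k2, -v] = x[k2, -v] * X * g :=
          Units.ext (by simp only [hX, Units.val_mul, coe_xe, h, hge]; rfl)
        have e2 : x[k2, v] * X * (x[k2, v])⁻¹ * X⁻¹ = X * g * X⁻¹ := by
          rw [xe_inv hG hk2, mul_assoc x[k2, v], e1, ← mul_assoc, ← mul_assoc, xe_add hG hk2, add_neg_cancel,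
            xe_zero hG hk2, one_mul]
        rw [e2]
        exact borel_conj_Uge hG hf hN1 ((data_B hG hf).ge (Subgroup.mem_sup_left hXU)) (hZN hg)
      have hRK : R ≤ K := by
        rw [hR, rootGen, Subgroup.closure_le]
        rintro _ ⟨r, hr, v, rfl⟩
        exact hKgen r.val v r.2 (E.T_pos _ hr).2 (Or.inr hr)
      have hwK : Uge hG F (k + 1) ≤ K := by
        rw [Uge, Subgroup.closure_le]
        rintro _ ⟨r, v, hr, hkr, rfl⟩
        exact hKgen r v hr (by omega) (Or.inl hkr)
      have hzK : z ∈ K := by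
        refine ⟨hz, ?_⟩
        rw [(hc a ha1 ha2).eq, mul_inv_cancel_right, mul_inv_cancel]
        exact Subgroup.one_mem _
      have hkK : x[k, c] ∈ K := by
        have := Subgroup.mul_mem _ (Subgroup.mul_mem _ (Subgroup.inv_mem _ (hRK hy)) hzK)
          (Subgroup.inv_mem _ (hwK hw))
        rwa [← e, inv_mul_cancel_left, mul_inv_cancel_right] at this
      have hne : a ≠ D.neg k := by rw [neg_eq hf hkn]; have := hf.1; omega
      have h := hG.comm_formula (F := F) hkn ha1 hak hne (-c) 1
      have hwd : ∀ L : List (ℕ × ℤ × ℕ × ℕ), (∀ y ∈ L, x.1 < y.1 ∧ y.1 < D.nroots) →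
          ∃ g ∈ N, (g : Matrix D.Idx D.Idx F) = D.wordMat F
            (L.map fun c' => (c'.1, (c'.2.1 : F) * (- -c) ^ c'.2.2.1 * (1 : F) ^ c'.2.2.2)) := by
        intro L
        induction L with
        | nil => intro _; exact ⟨1, Subgroup.one_mem _, by simp [ChevalleyDatum.wordMat]⟩
        | cons y L ih =>
          intro hy
          obtain ⟨g, hg, he⟩ := ih fun z hz => hy z (List.mem_cons_of_mem _ hz)
          obtain ⟨h1, h2⟩ := hy y List.mem_cons_self
          refine ⟨x[y.1, (y.2.1 : F) * (- -c) ^ y.2.2.1 * (1 : F) ^ y.2.2.2] * g,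
            Subgroup.mul_mem _ (xe_mem_Uge hG h2 h1 _) hg, ?_⟩
          simp [ChevalleyDatum.wordMat, coe_xe, he]
      obtain ⟨g, hg, hge⟩ := hwd rest fun y hy => ⟨hrest y hy,
        (commTerms_pos hG hf hkn ha1 hk' ha2 (x := y) (by rw [hterms]; exact List.mem_cons_of_mem _ hy)).1⟩
      set v0 : F := (x.2.1 : F) * c with hv0
      have e1 : X * x[k, -c] = x[k, -c] * X * (x[x.1, v0] * g) := by
        refine Units.ext ?_
        simp only [hX, Units.val_mul, coe_xe, h, hge, ChevalleyDatum.commWord, hterms, ChevalleyDatum.wordMat,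
          List.map_cons, List.prod_cons, hi1, hj1, pow_one, neg_neg, mul_one, hv0]
      have e2 : x[k, c] * X * (x[k, c])⁻¹ * X⁻¹ = X * (x[x.1, v0] * g) * X⁻¹ := by
        rw [xe_inv hG hkn, mul_assoc x[k, c], e1]
        have e3 : x[k, c] * x[k, -c] = 1 := by rw [xe_add hG hkn, add_neg_cancel, xe_zero hG hkn]
        rw [mul_assoc x[k, -c], ← mul_assoc x[k, c], e3, one_mul]
      have h3 : X * (x[x.1, v0] * g) * X⁻¹ ∈ N := e2 ▸ hkK.2
      have hXB : X ∈ (data hG F).B := (data_B hG hf).ge
        (Subgroup.mem_sup_left (Subgroup.subset_closure ⟨a, 1, (pos_iff hf ha1).2 ha2, rfl⟩))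
      rw [hN, borel_conj_Uge_iff hG hf hN1 hXB, Subgroup.mul_mem_cancel_right _ hg] at h3
      have h4 := Uge_xe_eq_zero hG hf hx1.1 (by omega) h3
      have h5 : (x.2.1 : F) = 0 := (mul_eq_zero.1 h4).resolve_right hcne
      simp only [List.head?_cons, Option.map_some, Option.getD_some]
      rw [CharP.intCast_eq_zero_iff F p] at h5
      rw [CharP.cast_eq_zero_iff F p]
      exact Int.natCast_dvd.1 h5
    have key : ∀ L : List ℕ, (∀ a ∈ L, p ∣ ((D.commTerms k a).head?.map fun x => x.2.1.natAbs).getD 0) →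
        p ∣ L.foldr (fun a g => Nat.gcd (((D.commTerms k a).head?.map fun x => x.2.1.natAbs).getD 0) g) 0 := by
      intro L
      induction L with
      | nil => intro _; exact dvd_zero p
      | cons a L ih =>
        intro h
        exact Nat.dvd_gcd (h a List.mem_cons_self) (ih fun b hb => h b (List.mem_cons_of_mem _ hb))
    have h1 := key _ fun a ha => (CharP.cast_eq_zero_iff F p _).1 (hall a ha)
    rw [hgcd, Nat.dvd_one] at h1
    exact CharP.char_ne_one F p h1

/-- The elements of the groups of the highest roots as ordered products. -/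
theorem exists_PF_of_T {y : GL D.Idx F} (hy : y ∈ rootGen E.good F {s : Fin D.nroots | s.val ∈ E.T}) :
    ∃ c : ℕ → F, (∀ j, c j ≠ 0 → j ∈ E.T) ∧ y = prodFrom E.good F c (D.nroots / 2) (D.nroots / 2) := by
  classical
  have hG := E.good
  have hA : CommSet E F {a | a ∈ E.T} := commSet_of_list E.T_pos E.T_comm
  rw [rootGen] at hy
  induction hy using Subgroup.closure_induction with
  | mem y hy =>
    obtain ⟨s, hs, u, rfl⟩ := hy
    refine ⟨Function.update (fun _ => 0) s.val u, fun j hj => ?_, (PF_single (E := E) (E.T_pos _ hs).2 s.2 u).symm⟩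
    by_contra hn
    exact hj (Function.update_of_ne (fun e : j = s.val => hn (e ▸ hs)) _ _)
  | one => exact ⟨fun _ => 0, fun j h => absurd rfl h,
      (Subgroup.mem_bot.1 (prodFrom_mem_of hG (K := ⊥) E.half_add.le fun j _ _ h => absurd rfl h)).symm⟩
  | mul y z _ _ hy hz =>
    obtain ⟨c, hc, rfl⟩ := hy
    obtain ⟨d, hd, rfl⟩ := hz
    refine ⟨fun j => c j + d j, fun j hj => ?_, (PF_add hA hc hd E.half_add.le).symm⟩
    by_contra hn
    exact hj (by
      show c j + d j = 0
      rw [show c j = 0 from by_contra fun h => hn (hc j h), show d j = 0 from by_contra fun h => hn (hd j h),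
        add_zero])
  | inv y _ hy =>
    obtain ⟨c, hc, rfl⟩ := hy
    refine ⟨fun j => -c j, fun j hj => hc j (by simpa using hj), inv_eq_of_mul_eq_one_right ?_⟩
    rw [← PF_add hA hc (fun j hj => hc j (by simpa using hj)) E.half_add.le]
    exact Subgroup.mem_bot.1 (prodFrom_mem_of hG (K := ⊥) E.half_add.le fun j _ _ h => absurd (add_neg_cancel _) h)

end Cfsg.Agent.Chev.Subfield
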