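/-
The theorem of Borel and Tits in the form needed for rational unipotent subgroups.
-/
import Cfsg.Agent.Lib.Chev.BorelTits
import Cfsg.Agent.Lib.Chev.Subfield.General

set_option autoImplicit false

namespace Cfsg.Agent.Chev.BNSetup

open Cfsg.Lie
open Cfsg.Agent.RootBN (Data)

variable {F : Type*} [Field F] {D : ChevalleyDatum} (hG : Good D) {tabs simps : List ℕ}
  (hf : Facts D tabs simps) {M : List ℕ} (hM : CorootFact D M)
include hG hf hM

/-- **Borel–Tits**: an element moving a unipotent subgroup into the same group of roots lies in the parabolic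
subgroup. -/
theorem borel_tits_transporter (hn : NegTri D) {k : List ℤ} (hk : PosForm D k) {R : Subgroup (GL D.Idx F)}
    {c0 : GL D.Idx F} (hc0 : c0 ∈ D.group F) (hR : ∀ x ∈ R, c0 * x * c0⁻¹ ∈ D.posUnipotent F) (hne : R ≠ ⊥) :
    ∃ g ∈ D.group F, ∃ J : Set ℕ, ∃ S : Set (Fin D.nroots), (∃ i, i < D.rank ∧ i ∉ J) ∧
      (∀ z ∈ R, g⁻¹ * z * g ∈ rootGen hG F S) ∧
      ∀ x ∈ D.group F, (∀ z ∈ R, g⁻¹ * (x⁻¹ * z * x) * g ∈ rootGen hG F S) →
        g⁻¹ * x * g ∈ D.parabolicSubgroup F J := by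
  classical
  have ax := axioms (F := F) hG hf
  have hN : D.nroots / 2 + D.nroots / 2 = D.nroots := by have := hf.1; omega
  -- a first feasible pair
  set c : ↥(D.group F) := ⟨c0, hc0⟩ with hc
  have hconj : ∀ x (hx : x ∈ R), (c : GL D.Idx F) * x * (c : GL D.Idx F)⁻¹ ∈ D.posUnipotent F := hR
  set w : EuclideanSpace ℝ (Fin D.nroots) := rootForm D fun i => (k.getD i.val 0 : ℝ) with hw
  have hw0 : Feasible hG R ((c⁻¹ : ↥(D.group F)) : GL D.Idx F) w := by
    intro x hx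
    have h1 : ((c⁻¹ : ↥(D.group F)) : GL D.Idx F)⁻¹ * x * ((c⁻¹ : ↥(D.group F)) : GL D.Idx F) =
        (c : GL D.Idx F) * x * (c : GL D.Idx F)⁻¹ := by simp
    rw [h1]
    refine (show D.posUnipotent F ≤ rootGen hG F {r | 1 ≤ w r} from ?_) (hconj x hx)
    rw [← Uge_eq_U hG hf, Uge, Subgroup.closure_le]
    rintro _ ⟨r, t, hr, hkr, rfl⟩
    refine xe_mem_rootGen hG (r := (⟨r, hr⟩ : Fin D.nroots)) ?_ t
    show 1 ≤ w ⟨r, hr⟩
    have h2 : (1 : ℤ) ≤ cartanForm D k r := (hk r hr).1 hkr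
    have h3 : ((cartanForm D k r : ℤ) : ℝ) = w ⟨r, hr⟩ := by
      simp only [hw, rootForm, LinearMap.coe_mk, AddHom.coe_mk, cartanForm, Finset.sum_range, Int.cast_sum,
        Int.cast_mul]
    rw [← h3]
    have : ((1 : ℤ) : ℝ) ≤ (cartanForm D k r : ℝ) := Int.cast_le.2 h2
    simpa using this
  -- a shortest one
  set X : Set (EuclideanSpace ℝ (Fin D.nroots)) :=
    {v | v ∈ linForms D ∧ ∃ g : ↥(D.group F), Feasible hG R g v} with hX
  have hXeq : X = ⋃ S ∈ {S : Set (Fin D.nroots) | ∃ g : ↥(D.group F),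
      ∀ x ∈ R, (g : GL D.Idx F)⁻¹ * x * g ∈ rootGen hG F S},
      {v | v ∈ linForms D ∧ ∀ r ∈ S, 1 ≤ v r} := by
    ext v
    simp only [hX, Set.mem_iUnion, Set.mem_ofPred_eq]
    constructor
    · rintro ⟨hv, g, hg⟩
      exact ⟨{r | 1 ≤ v r}, ⟨g, hg⟩, hv, fun r hr => hr⟩
    · rintro ⟨S, ⟨g, hg⟩, hv, hS⟩
      exact ⟨hv, g, fun x hx => rootGen_mono hG hS (hg x hx)⟩
  have hclosed : IsClosed X := by
    rw [hXeq]
    refine Set.Finite.isClosed_biUnion (Set.toFinite _) fun q _ => ?_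
    refine IsClosed.inter (Submodule.closed_of_finiteDimensional _) ?_
    show IsClosed {v : EuclideanSpace ℝ (Fin D.nroots) | ∀ r ∈ q, 1 ≤ v r}
    simp only [Set.ofPred_forall]
    exact isClosed_biInter fun r _ => isClosed_le continuous_const (PiLp.continuous_apply 2 _ r)
  have hwX : w ∈ X := ⟨⟨_, rfl⟩, c⁻¹, hw0⟩
  obtain ⟨v0, hv0, hmin⟩ := ((isCompact_closedBall (0 : EuclideanSpace ℝ (Fin D.nroots)) ‖w‖).inter_right
    hclosed).exists_isMinOn ⟨w, by simp, hwX⟩ continuous_norm.continuousOn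
  have hshort : ∀ u ∈ X, ‖v0‖ ≤ ‖u‖ := fun u hu => by
    by_cases h : u ∈ Metric.closedBall (0 : EuclideanSpace ℝ (Fin D.nroots)) ‖w‖
    · exact hmin ⟨h, hu⟩
    · have h1 := hv0.1
      simp only [Metric.mem_closedBall, dist_zero_right] at h h1
      linarith [not_le.1 h]
  obtain ⟨hv0E, g1, hg1⟩ := hv0.2
  -- make it dominant
  obtain ⟨l0, hd⟩ := exists_dominant (F := F) hG hf hv0E
  set v := moveForm ((data hG F).wl l0) v0 with hv
  have hvE : v ∈ linForms D := moveForm_wl_mem hG l0 hv0E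
  have hnG : (data hG F).nw l0 ∈ D.group F := by
    rw [← data_grp hG]; exact RootBN.Data.N_le_grp ax (RootBN.Data.nw_mem_N l0)
  set g0 : GL D.Idx F := (g1 : GL D.Idx F) * (data hG F).nw l0 with hg0
  have hg0G : g0 ∈ D.group F := Subgroup.mul_mem _ g1.2 hnG
  have hfeas : Feasible hG R g0 v := by
    intro x hx
    have h1 := conj_mem_rootGen hG (RootBN.Data.acts_nw ax l0).inv (T := {r | 1 ≤ v r})
      (fun r (hr : 1 ≤ v0 r) => by
        show 1 ≤ v (((data hG F).wl l0)⁻¹ r)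
        rwa [hv, moveForm_apply, show (data hG F).wl l0 (((data hG F).wl l0)⁻¹ r) = r from
          Equiv.apply_symm_apply _ r]) (hg1 x hx)
    rw [inv_inv] at h1
    simpa [hg0, mul_assoc] using h1
  have hnormv : ‖v‖ = ‖v0‖ := norm_moveForm _ _
  have hpos : ∀ r : Fin D.nroots, 1 ≤ v r → D.nroots / 2 ≤ r.val := fun r =>
    (dominant_sign hG hf hM hvE hd r).2
  set J : Set ℕ := {i | ∃ hi : i < D.rank, v ⟨D.simple i, hG.simple_lt hi⟩ = 0} with hJ
  refine ⟨g0, hg0G, J, {r | 1 ≤ v r}, ?_, hfeas, ?_⟩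
  · -- proper
    by_contra hall
    push Not at hall
    have hzero : ∀ r : Fin D.nroots, v r = 0 := by
      intro r
      obtain ⟨m, hm, -, e⟩ := exists_coroot_sum hM hvE hG r
      rw [Finset.sum_eq_zero fun i _ => by
        obtain ⟨hi, h0⟩ := hall i.val i.2
        rw [h0, mul_zero]] at e
      exact (mul_eq_zero.1 e).resolve_left (Nat.cast_ne_zero.2 (by omega))
    refine hne ((Subgroup.eq_bot_iff_forall _).2 fun x hx => ?_)
    have h1 := hfeas x hx
    have h2 : rootGen hG F {r | 1 ≤ v r} ≤ (⊥ : Subgroup (GL D.Idx F)) := by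
      rw [rootGen, Subgroup.closure_le]
      rintro _ ⟨r, (hr : 1 ≤ v r), t, rfl⟩
      rw [hzero r] at hr
      exact absurd hr (by norm_num)
    have h3 : x = g0 * 1 * g0⁻¹ := by
      rw [← Subgroup.mem_bot.1 (h2 h1)]; group
    simpa using h3
  · intro x hxG hxR
    set y := g0⁻¹ * x * g0 with hy
    have hyG : y ∈ (data hG F).grp := by
      rw [data_grp hG]
      exact Subgroup.mul_mem _ (Subgroup.mul_mem _ (Subgroup.inv_mem _ hg0G) hxG) hg0G
    obtain ⟨b, hb, l, u, hu, e⟩ := RootBN.Data.exists_normal_form ax hyG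
    have huB : u ∈ (data hG F).B := RootBN.Data.U_le_B (RootBN.Data.Um_le_U _ hu)
    rw [e]
    refine Subgroup.mul_mem _ (Subgroup.mul_mem _ (Subgroup.mem_sup_left ((data_B hG hf).le hb)) ?_)
      (Subgroup.mem_sup_left ((data_B hG hf).le huB))
    set σ := (data hG F).wl l with hσ
    set v' := moveForm σ⁻¹ v with hv'
    have hv'E : v' ∈ linForms D := by
      rw [hv', hσ, ← RootBN.Data.wl_reverse ax]
      exact moveForm_wl_mem hG _ hvE
    set ν : EuclideanSpace ℝ (Fin D.nroots) := (1 / 2 : ℝ) • (v + v') with hν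
    have hνX : ν ∈ X := by
      have hbG : b ∈ D.group F := borel_le_group hG hf ((data_B hG hf).le hb)
      refine ⟨Submodule.smul_mem _ _ (Submodule.add_mem _ hvE hv'E),
        ⟨g0 * b, Subgroup.mul_mem _ hg0G hbG⟩, fun z hz => ?_⟩
      have h1 : b⁻¹ * (g0⁻¹ * z * g0) * b ∈ rootGen hG F {r | 1 ≤ v r} := by
        have := borel_conj_rootGen hG hf hM hvE hd (Subgroup.inv_mem _ hb) (hfeas z hz)
        rwa [inv_inv] at this
      have h2 : ((data hG F).nw l)⁻¹ * (b⁻¹ * (g0⁻¹ * z * g0) * b) * (data hG F).nw l ∈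
          rootGen hG F {r | 1 ≤ v r} := by
        have h3 := borel_conj_rootGen hG hf hM hvE hd huB (hxR z hz)
        have h4 : g0⁻¹ * (x⁻¹ * z * x) * g0 = y⁻¹ * (g0⁻¹ * z * g0) * y := by rw [hy]; group
        rw [h4, e] at h3
        simpa [mul_assoc] using h3
      have h5 := rootGen_inter_conj' hG hf hvE hpos hn hk l h1 h2
      have h6 : ((g0 * b : GL D.Idx F))⁻¹ * z * (g0 * b) = b⁻¹ * (g0⁻¹ * z * g0) * b := by group
      show (g0 * b)⁻¹ * z * (g0 * b) ∈ _
      rw [h6]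
      refine rootGen_mono hG (fun r hr => ?_) h5
      have a1 : 1 ≤ v r := hr.1
      have a2 : 1 ≤ v' r := hr.2
      show 1 ≤ ν r
      simp only [hν, PiLp.smul_apply, PiLp.add_apply, smul_eq_mul]
      linarith
    have h7 := hshort ν hνX
    have h8 : ‖v'‖ = ‖v0‖ := by rw [hv', norm_moveForm, hnormv]
    have h9 : v = v' := by
      have hpar := parallelogram_law_with_norm ℝ v v'
      rw [hν, norm_smul, Real.norm_of_nonneg (by norm_num : (0 : ℝ) ≤ 1 / 2)] at h7
      rw [hnormv, h8] at hpar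
      have h10 : 2 * ‖v0‖ ≤ ‖v + v'‖ := by linarith
      have h11 : ‖v - v'‖ * ‖v - v'‖ ≤ 0 := by nlinarith [norm_nonneg v0]
      exact sub_eq_zero.1 (norm_eq_zero.1 (by nlinarith [norm_nonneg (v - v')]))
    refine nw_mem_parabolic hG hf hM hvE hd l (PiLp.ext fun r => ?_)
    rw [moveForm_apply]
    have e1 : v (σ r) = v (σ⁻¹ (σ r)) := congrArg (fun z : EuclideanSpace ℝ (Fin D.nroots) => z (σ r)) h9
    rw [show σ⁻¹ (σ r) = r from Equiv.symm_apply_apply _ r] at e1
    exact e1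
end Cfsg.Agent.Chev.BNSetup
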