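/-
The Frobenius of `F` over a subfield `k` of prime index, on a Chevalley group: Lang's theorem for subgroups of `U`.
-/
import Cfsg.Agent.Lib.Chev.Parabolic
import Mathlib.Algebra.Polynomial.Roots
import Mathlib.FieldTheory.Finite.Basic

set_option autoImplicit false

namespace Cfsg.Agent.Chev.Subfield

open Cfsg.Lie
open Cfsg.Agent.Chev.BNSetup

/-- `φ` is the `q`-th power map, `|F| = q ^ r`, `r` prime. -/
structure Frob (F : Type*) [Field F] [Fintype F] (φ : F ≃+* F) (q r : ℕ) : Prop where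
  apply_eq : ∀ t : F, φ t = t ^ q
  card_eq : Fintype.card F = q ^ r
  two_le : 2 ≤ q
  prime : r.Prime

section Finite

variable {F : Type*} [Field F] [Fintype F] {φ : F ≃+* F} {q r : ℕ}

theorem Frob.iterate (hφ : Frob F φ q r) (i : ℕ) (t : F) : (⇑φ)^[i] t = t ^ q ^ i := by
  induction i with
  | zero => simp
  | succ i ih => rw [Function.iterate_succ_apply', ih, hφ.apply_eq, ← pow_mul, pow_succ]

theorem Frob.iterate_self (hφ : Frob F φ q r) (t : F) : (⇑φ)^[r] t = t := by
  rw [hφ.iterate, ← hφ.card_eq, FiniteField.pow_card]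

theorem Frob.exists_trace_ne_zero (hφ : Frob F φ q r) : ∃ θ : F, ∑ i ∈ Finset.range r, (⇑φ)^[i] θ ≠ 0 := by
  classical
  by_contra hall
  push Not at hall
  set P : Polynomial F := ∑ i ∈ Finset.range r, Polynomial.X ^ q ^ i with hP
  have h1 : P.coeff 1 = 1 := by
    simp only [hP, Polynomial.finsetSum_coeff, Polynomial.coeff_X_pow]
    rw [Finset.sum_eq_single_of_mem 0 (Finset.mem_range.2 hφ.prime.pos)]
    · simp
    · intro i _ hi
      rw [if_neg]
      intro h
      exact absurd h.symm (Nat.one_lt_pow hi hφ.two_le).ne'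
  have hdeg : P.natDegree < Fintype.card F := by
    refine lt_of_le_of_lt (Polynomial.natDegree_sum_le_of_forall_le (n := q ^ (r - 1)) _ _ fun i hi => ?_) ?_
    · rw [Polynomial.natDegree_X_pow]
      exact Nat.pow_le_pow_right (by have := hφ.two_le; omega) (by have := Finset.mem_range.1 hi; omega)
    · rw [hφ.card_eq]
      exact Nat.pow_lt_pow_right hφ.two_le (by have := hφ.prime.pos; omega)
  have h0 : P = 0 := Polynomial.eq_zero_of_natDegree_lt_card_of_eval_eq_zero' P Finset.univ
    (fun x _ => by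
      simp only [hP, Polynomial.eval_finsetSum, Polynomial.eval_pow, Polynomial.eval_X]
      simpa only [hφ.iterate] using hall x)
    (by rwa [Finset.card_univ])
  rw [h0, Polynomial.coeff_zero] at h1
  exact zero_ne_one h1

/-- Additive Hilbert 90. -/
theorem Frob.exists_sub_eq (hφ : Frob F φ q r) {c : F} (hc : ∑ i ∈ Finset.range r, (⇑φ)^[i] c = 0) :
    ∃ t : F, φ t - t = c := by
  obtain ⟨θ, hθ⟩ := hφ.exists_trace_ne_zero
  set T := ∑ i ∈ Finset.range r, (⇑φ)^[i] θ with hT
  set s : ℕ → F := fun i => ∑ j ∈ Finset.range i, (⇑φ)^[j] c with hs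
  have hs1 : ∀ i, φ (s i) = s (i + 1) - c := fun i => by
    simp only [hs, Finset.sum_range_succ' _ i, map_sum, Function.iterate_succ_apply', Function.iterate_zero, id_eq]
    ring
  have hTfix : φ T = T := by
    have h := Finset.sum_range_succ' (fun i => (⇑φ)^[i] θ) r
    rw [Finset.sum_range_succ, hφ.iterate_self, Function.iterate_zero, id_eq] at h
    have h' := add_right_cancel h
    simp only [hT, map_sum, ← Function.iterate_succ_apply' (f := ⇑φ)]
    exact h'.symm
  set A := ∑ i ∈ Finset.range r, s i * (⇑φ)^[i] θ with hA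
  have hAfix : φ A = A - c * T := by
    have h := Finset.sum_range_succ' (fun i => s i * (⇑φ)^[i] θ) r
    rw [Finset.sum_range_succ, show s r = 0 from hc, show s 0 = 0 by simp [hs], zero_mul, zero_mul, add_zero,
      add_zero] at h
    have hT' : T = ∑ i ∈ Finset.range r, (⇑φ)^[i + 1] θ := by
      conv_lhs => rw [← hTfix, hT]
      simp only [map_sum, Function.iterate_succ_apply']
    calc φ A = ∑ i ∈ Finset.range r, (s (i + 1) - c) * (⇑φ)^[i + 1] θ := by
          simp only [hA, map_sum, map_mul, hs1, Function.iterate_succ_apply']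
      _ = _ := by
        simp only [sub_mul, Finset.sum_sub_distrib, ← Finset.mul_sum]
        rw [← h, ← hT']
  refine ⟨-(A / T), ?_⟩
  rw [map_neg, map_div₀, hTfix, hAfix]
  field_simp
  ring

end Finite

variable {F : Type*} [Field F] {φ : F ≃+* F}

/-- The fixed subfield. -/
def fixedField (φ : F ≃+* F) : Subfield F := RingHom.eqLocusField (φ : F →+* F) (RingHom.id F)

theorem mem_fixedField {t : F} : t ∈ fixedField φ ↔ φ t = t := Iff.rfl

section Group

variable {D : ChevalleyDatum} (hG : Good D)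
include hG

local notation "Φ" => entryMap D (φ : F →+* F)

theorem entryMap_mem_Uge {k : ℕ} {g : GL D.Idx F} (hg : g ∈ Uge hG F k) : Φ g ∈ Uge hG F k := by
  refine (show Uge hG F k ≤ (Uge hG F k).comap Φ from ?_) hg
  conv_lhs => rw [Uge]
  rw [Subgroup.closure_le]
  rintro y ⟨s, u, hs, hks, rfl⟩
  rw [SetLike.mem_coe, Subgroup.mem_comap, entryMap_xe hG]
  exact xe_mem_Uge hG hs hks _

theorem entryMap_mem_group {g : GL D.Idx F} (hg : g ∈ D.group F) : Φ g ∈ D.group F := by
  refine (show D.group F ≤ (D.group F).comap Φ from ?_) hg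
  conv_lhs => rw [group_eq_closure_xe hG]
  rw [Subgroup.closure_le]
  rintro y ⟨s, hs, u, rfl⟩
  rw [SetLike.mem_coe, Subgroup.mem_comap, entryMap_xe hG]
  exact xe_mem_group hG hs _

omit hG in
theorem entryMap_iterate_self [Fintype F] {q r : ℕ} (hφ : Frob F φ q r) (g : GL D.Idx F) : (⇑(Φ))^[r] g = g := by
  refine Units.ext ?_
  have : ∀ i, ((⇑(Φ))^[i] g : GL D.Idx F).val = g.val.map ((⇑φ)^[i]) := by
    intro i
    induction i with
    | zero => simp
    | succ i ih =>
      rw [Function.iterate_succ_apply']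
      show (((⇑(Φ))^[i] g : GL D.Idx F).val).map φ = _
      rw [ih, Matrix.map_map, ← Function.iterate_succ']
  rw [this]
  ext a b
  exact hφ.iterate_self _

variable {tabs simps : List ℕ} (hf : Facts D tabs simps)
include hf

theorem xe_conj_Uge_succ {k : ℕ} (hk' : D.nroots / 2 ≤ k) (hk : k < D.nroots) (t : F) {v : GL D.Idx F}
    (hv : v ∈ Uge hG F (k + 1)) : xe hG k t * v * (xe hG k t)⁻¹ ∈ Uge hG F (k + 1) :=
  xe_conj_Uge hG hf (by omega) hk hk' t hv

/-- The coefficient of a split is unique. -/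
theorem split_unique {k : ℕ} (hk' : D.nroots / 2 ≤ k) (hk : k < D.nroots) {a b : F} {v w : GL D.Idx F}
    (hv : v ∈ Uge hG F (k + 1)) (hw : w ∈ Uge hG F (k + 1)) (e : xe hG k a * v = xe hG k b * w) : a = b := by
  have h : xe hG k (-b + a) = w * v⁻¹ := by
    rw [← xe_add hG hk, ← xe_inv hG hk, eq_mul_inv_iff_mul_eq, mul_assoc, e, inv_mul_cancel_left]
  have := Uge_xe_eq_zero hG hf hk hk' (h ▸ Subgroup.mul_mem _ hw (Subgroup.inv_mem _ hv))
  exact (neg_add_eq_zero.1 this).symm

/-- A subgroup of `U` with the root elements of its leading indices. -/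
def LeadClosed (K : Subgroup (GL D.Idx F)) : Prop :=
  ∀ (k : ℕ) (c : F) (v : GL D.Idx F), D.nroots / 2 ≤ k → k < D.nroots → c ≠ 0 → v ∈ Uge hG F (k + 1) →
    xe hG k c * v ∈ K → ∀ t : F, xe hG k t ∈ K

/-- The equation to be solved in each step of Lang's theorem is soluble. -/
def Descends (φ : F ≃+* F) : Prop :=
  ∀ (g : GL D.Idx F) (k : ℕ) (c : F) (v : GL D.Idx F), D.nroots / 2 ≤ k → k < D.nroots →
    v ∈ Uge hG F (k + 1) → g⁻¹ * entryMap D (φ : F →+* F) g = xe hG k c * v → ∃ t : F, φ t - t = c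

omit hf in
theorem descends_of_surj (h : ∀ c : F, ∃ t : F, φ t - t = c) : Descends hG φ :=
  fun _ _ c _ _ _ _ _ => h c

/-- A finite field: the trace of the coefficient vanishes. -/
theorem Frob.descends [Fintype F] {q r : ℕ} (hφ : Frob F φ q r) : Descends hG φ := by
  intro g k c v hk' hkn hv e
  have hΦg : Φ g = g * (xe hG k c * v) := by rw [← e, mul_inv_cancel_left]
  have hit : ∀ i, ∃ w ∈ Uge hG F (k + 1),
      (⇑(Φ))^[i] g = g * (xe hG k (∑ j ∈ Finset.range i, (⇑φ)^[j] c) * w) := by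
    intro i
    induction i with
    | zero => exact ⟨1, Subgroup.one_mem _, by simp [xe_zero hG hkn]⟩
    | succ i ihi =>
      obtain ⟨w, hw, e'⟩ := ihi
      set S := ∑ j ∈ Finset.range i, (⇑φ)^[j] c with hS
      refine ⟨(xe hG k (φ S))⁻¹ * v * xe hG k (φ S) * Φ w, Subgroup.mul_mem _ ?_ (entryMap_mem_Uge hG hw), ?_⟩
      · have := xe_conj_Uge_succ hG hf hk' hkn (-φ S) hv
        rwa [← xe_inv hG hkn, inv_inv] at this
      · have hS' : ∑ j ∈ Finset.range (i + 1), (⇑φ)^[j] c = c + φ S := by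
          rw [Finset.sum_range_succ', hS, map_sum, Function.iterate_zero, id_eq, add_comm]
          simp only [Function.iterate_succ_apply']
        rw [Function.iterate_succ_apply', e', map_mul, map_mul, entryMap_xe hG, hS', ← xe_add hG hkn, hΦg]
        simp only [RingEquiv.coe_toRingHom, RingHom.coe_coe]
        group
  obtain ⟨w, hw, e'⟩ := hit r
  rw [entryMap_iterate_self hφ, left_eq_mul] at e'
  exact hφ.exists_sub_eq (split_unique hG hf hk' hkn hw (Subgroup.one_mem _)
    (b := 0) (by rw [e', xe_zero hG hkn, one_mul]))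

/-- **Lang's theorem** for subgroups of `U`. -/
theorem lang (hφ : Descends hG φ) {K : Subgroup (GL D.Idx F)} (hKU : K ≤ Uge hG F (D.nroots / 2))
    (hΦ : ∀ x ∈ K, Φ x ∈ K) (hK : LeadClosed hG K) {g : GL D.Idx F} (hg : g⁻¹ * Φ g ∈ K) :
    ∃ d ∈ K, Φ (g * d⁻¹) = g * d⁻¹ := by
  suffices key : ∀ m k, k + m = D.nroots → D.nroots / 2 ≤ k → ∀ g : GL D.Idx F, g⁻¹ * Φ g ∈ K →
      g⁻¹ * Φ g ∈ Uge hG F k → ∃ d ∈ K, Φ (g * d⁻¹) = g * d⁻¹ from
    key (D.nroots - D.nroots / 2) (D.nroots / 2) (by omega) le_rfl g hg (hKU hg)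
  intro m
  induction m with
  | zero =>
    intro k hk _ g _ hgU
    rw [Uge_top hG (by omega), Subgroup.mem_bot, inv_mul_eq_one] at hgU
    exact ⟨1, K.one_mem, by simpa using hgU.symm⟩
  | succ m ih =>
    intro k hk hk' g hg hgU
    have hkn : k < D.nroots := by omega
    obtain ⟨c, v, hv, e⟩ := Uge_split hG hf hkn hk' hgU
    by_cases hc : c = 0
    · rw [hc, xe_zero hG hkn, one_mul] at e
      exact ih (k + 1) (by omega) (by omega) g hg (e ▸ hv)
    have hX := hK k c v hk' hkn hc hv (e ▸ hg)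
    have hΦg : Φ g = g * (xe hG k c * v) := by rw [← e, mul_inv_cancel_left]
    obtain ⟨t, ht⟩ := hφ g k c v hk' hkn hv e
    set x := xe hG k t with hx
    have hz : (g * x⁻¹)⁻¹ * Φ (g * x⁻¹) = xe hG k (φ t) * v * (xe hG k (φ t))⁻¹ := by
      rw [map_mul, map_inv, hΦg, hx, entryMap_xe hG]
      rw [show φ t = t + c by rw [← ht]; ring, ← xe_add hG hkn]
      simp only [RingEquiv.coe_toRingHom, RingHom.coe_coe]
      rw [show φ t = t + c by rw [← ht]; ring, ← xe_add hG hkn]
      group
    have hzU := xe_conj_Uge_succ hG hf hk' hkn (φ t) hv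
    have hvK : v ∈ K := by
      have := K.mul_mem (K.inv_mem (hX c)) (e ▸ hg)
      rwa [inv_mul_cancel_left] at this
    obtain ⟨d, hd, e2⟩ := ih (k + 1) (by omega) (by omega) (g * x⁻¹)
      (hz ▸ K.mul_mem (K.mul_mem (hX _) hvK) (K.inv_mem (hX _))) (hz ▸ hzU)
    refine ⟨d * x, K.mul_mem hd (hX t), ?_⟩
    rw [mul_inv_rev, ← mul_assoc]
    exact e2

/-- All of `U` is lead closed. -/
theorem leadClosed_U : LeadClosed hG (Uge hG F (D.nroots / 2)) :=
  fun _ _ _ hk hk' _ _ _ t => xe_mem_Uge hG hk' hk t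

/-- The fixed elements of `U` are the products with fixed coordinates. -/
theorem xe_fixed_iff {k : ℕ} (hk : k < D.nroots) {t : F} : Φ (xe hG k t) = xe hG k t ↔ φ t = t := by
  rw [entryMap_xe hG]
  exact ⟨fun h => xe_inj hG hf hk h, fun h => congrArg (xe hG k) h⟩

/-- In a split of a fixed element both parts are fixed. -/
theorem split_fixed {k : ℕ} (hk' : D.nroots / 2 ≤ k) (hk : k < D.nroots) {c : F} {v : GL D.Idx F}
    (hv : v ∈ Uge hG F (k + 1)) (h : Φ (xe hG k c * v) = xe hG k c * v) : φ c = c ∧ Φ v = v := by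
  rw [map_mul, entryMap_xe hG] at h
  have h1 : φ c = c := split_unique hG hf hk' hk (entryMap_mem_Uge hG hv) hv h
  refine ⟨h1, ?_⟩
  simp only [RingEquiv.coe_toRingHom, RingHom.coe_coe, h1] at h
  exact mul_left_cancel h

/-- A fixed element of `U` lies in every subgroup having the fixed root elements. -/
theorem fixed_U_mem {K : Subgroup (GL D.Idx F)} (hK : ∀ s < D.nroots, ∀ t : F, φ t = t → xe hG s t ∈ K)
    {u : GL D.Idx F} (hu : u ∈ D.posUnipotent F) (hfix : Φ u = u) : u ∈ K := by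
  suffices key : ∀ m k, k + m = D.nroots → D.nroots / 2 ≤ k → ∀ u ∈ Uge hG F k, Φ u = u → u ∈ K from
    key (D.nroots - D.nroots / 2) (D.nroots / 2) (by omega) le_rfl u ((Uge_eq_U hG hf).ge hu) hfix
  intro m
  induction m with
  | zero =>
    intro k hk _ u hu _
    rw [Uge_top hG (by omega), Subgroup.mem_bot] at hu
    rw [hu]; exact K.one_mem
  | succ m ih =>
    intro k hk hk' u hu hfix
    obtain ⟨c, v, hv, rfl⟩ := Uge_split hG hf (by omega) hk' hu
    obtain ⟨h1, h2⟩ := split_fixed hG hf hk' (by omega) hv hfix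
    exact K.mul_mem (hK k (by omega) c h1) (ih (k + 1) (by omega) (by omega) v hv h2)

end Group

end Cfsg.Agent.Chev.Subfield
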