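/-
Matrices not lowering a linear weight; parabolic subgroups and their conjugates by monomial elements.
-/
import Cfsg.Agent.Lib.Chev.Subfield.Center

set_option autoImplicit false

namespace Cfsg.Agent.Chev.Subfield

open Cfsg.Lie
open Cfsg.Agent.Chev.BNSetup

variable {F : Type*} [Field F] {D : ChevalleyDatum}

/-- The weight of a coordinate. -/
def wt (v : EuclideanSpace ℝ (Fin D.nroots)) : D.Idx → ℝ
  | Sum.inl _ => 0
  | Sum.inr s => v s

/-- The matrix does not lower the weight `v`. -/
def NonLow (v : EuclideanSpace ℝ (Fin D.nroots)) (A : Matrix D.Idx D.Idx F) : Prop :=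
  ∀ a b, wt v a < wt v b → A a b = 0

theorem NonLow.mul {v : EuclideanSpace ℝ (Fin D.nroots)} {A B : Matrix D.Idx D.Idx F} (hA : NonLow v A)
    (hB : NonLow v B) : NonLow v (A * B) := by
  intro a b hab
  rw [Matrix.mul_apply]
  refine Finset.sum_eq_zero fun m _ => ?_
  rcases lt_or_ge (wt v a) (wt v m) with h | h
  · rw [hA a m h, zero_mul]
  · rw [hB m b (lt_of_le_of_lt h hab), mul_zero]

/-- The elements not lowering `v` together with their inverses. -/
def nonLow (F : Type*) [Field F] (v : EuclideanSpace ℝ (Fin D.nroots)) : Subgroup (GL D.Idx F) where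
  carrier := {g | NonLow v (g : Matrix D.Idx D.Idx F) ∧ NonLow v ((g⁻¹ : GL D.Idx F) : Matrix D.Idx D.Idx F)}
  one_mem' := by
    have h1 : NonLow v (1 : Matrix D.Idx D.Idx F) := fun a b h =>
      Matrix.one_apply_ne (fun e => (ne_of_lt h) (by rw [e]))
    exact ⟨by simpa using h1, by simpa using h1⟩
  mul_mem' ha hb := ⟨ha.1.mul hb.1, by rw [mul_inv_rev]; exact hb.2.mul ha.2⟩
  inv_mem' ha := ⟨ha.2, by rw [inv_inv]; exact ha.1⟩

variable (E : Env D)
include E

local notation "x[" r "," t "]" => xe (Env.good E) r t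

theorem nonLow_x {v : EuclideanSpace ℝ (Fin D.nroots)} (hv : v ∈ linForms D) {r : ℕ} (hr : r < D.nroots)
    (h : 0 ≤ v ⟨r, hr⟩) (t : F) : NonLow v (D.x F r t) := by
  have hG := E.good
  intro a b hab
  simp only [ChevalleyDatum.x, dif_pos hr, ChevalleyDatum.xMat, Matrix.of_apply]
  rcases b with i | s
  · rcases a with i' | u
    · simp [wt] at hab
    · refine if_neg ?_
      rintro rfl
      simp only [wt] at hab
      linarith
  · by_cases hsr : s = ⟨r, hr⟩
    · subst hsr
      simp only [if_true]
      rcases a with i' | u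
      · rfl
      · refine if_neg ?_
        rintro rfl
        exact lt_irrefl _ hab
    simp only [if_neg hsr]
    by_cases hsn : s.val = D.negIdx.getD r 0
    · simp only [if_pos hsn]
      have hvs : v s = - v ⟨r, hr⟩ := by
        rw [← linForms_neg hG hv ⟨r, hr⟩]
        exact congrArg v (Fin.ext hsn)
      rcases a with i' | u
      · simp only [wt] at hab
        linarith
      · dsimp only
        rw [if_neg (fun e : u = s => by subst e; exact lt_irrefl _ hab), if_neg]
        rintro rfl
        simp only [wt] at hab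
        linarith
    · simp only [if_neg hsn]
      rcases a with i' | u
      · rfl
      · dsimp only
        rw [if_neg (fun e : u = s => by subst e; exact lt_irrefl _ hab), zero_add]
        suffices hnil : D.chainCoeff r s.val u.val = [] by simp [hnil]
        obtain ⟨c, hV⟩ := id hG
        rw [hV.chainCoeff_eq hr, List.map_eq_nil_iff, List.filter_eq_nil_iff]
        rintro ⟨q, k⟩ hq he
        simp only [decide_eq_true_eq] at he
        have hk : (D.chainEntry r s.val)[k]? = some q := by
          rw [hV.ent_eq hr]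
          exact List.mem_zipIdx_iff_getElem?.1 hq
        have hlin := linForms_affine hv (a := u) (b := s) (d := ⟨r, hr⟩) (s := 1) (t := ((k + 1 : ℕ) : ℤ))
          (fun j hj => by rw [← he, hG.cartan_chain hr hk hj s.2]; ring)
        simp only [wt] at hab
        rw [hlin] at hab
        push_cast at hab
        have : (0 : ℝ) ≤ ((k : ℝ) + 1) * v ⟨r, hr⟩ := mul_nonneg (by positivity) h
        linarith

theorem xe_mem_nonLow {v : EuclideanSpace ℝ (Fin D.nroots)} (hv : v ∈ linForms D) {r : ℕ} (hr : r < D.nroots)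
    (h : 0 ≤ v ⟨r, hr⟩) (t : F) : x[r, t] ∈ nonLow F v :=
  ⟨nonLow_x E hv hr h t, by rw [xe_inv E.good hr]; exact nonLow_x E hv hr h (-t)⟩

theorem diagonal_mem_nonLow (v : EuclideanSpace ℝ (Fin D.nroots)) {g : GL D.Idx F}
    (hg : g ∈ D.diagonalSubgroup F) : g ∈ nonLow F v := by
  have key : ∀ g ∈ D.diagonalSubgroup F, NonLow v ((g : GL D.Idx F) : Matrix D.Idx D.Idx F) := by
    intro g hg a b hab
    obtain ⟨χ, hχ⟩ := tri_H E.facts E.good hg
    rw [hχ, hdiag, Matrix.diagonal_apply_ne]
    rintro rfl
    exact lt_irrefl _ hab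
  exact ⟨key g hg, key _ (Subgroup.inv_mem _ hg)⟩

end Cfsg.Agent.Chev.Subfield
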