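/-
Parabolic subgroups and the Frobenius: rational representatives of stable cosets.
-/
import Cfsg.Agent.Lib.Chev.Subfield.NonLow
import Cfsg.Agent.Lib.Chev.Subfield.Lang

set_option autoImplicit false

namespace Cfsg.Agent.Chev.Subfield

open Cfsg.Lie
open Cfsg.Agent.Chev.BNSetup

variable {F : Type*} [Field F] {D : ChevalleyDatum} (E : Env D)
include E

local notation "x[" r "," t "]" => xe (Env.good E) r t
local notation "n[" l "]" => RootBN.Data.nw (data (Env.good E) F) l
local notation "σ[" l "]" => RootBN.Data.wl (data (Env.good E) F) l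

/-- The forms of the radical of a parabolic subgroup. -/
structure RadForm (J : Set ℕ) (v : EuclideanSpace ℝ (Fin D.nroots)) : Prop where
  mem : v ∈ linForms D
  pos : ∀ r : Fin D.nroots, D.nroots / 2 ≤ r.val → 0 ≤ v r
  simple : ∀ j : Fin D.rank, j.val ∈ J → v ⟨D.simple j.val, E.good.simple_lt j.2⟩ = 0
  zero : ∀ r : Fin D.nroots, D.nroots / 2 ≤ r.val → v r < 1 → D.InRootSub J r.val

omit [Field F] in
theorem radForm_exists (F : Type*) [Field F] (J : Set ℕ) :
    ∃ v, RadForm E J v ∧ D.unipotentRadical F J = rootGen E.good F {r | 1 ≤ v r} := by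
  obtain ⟨v, hv, hd, hJ, hiff, hrad⟩ := exists_radical_form (F := F) E.good E.facts E.corootFact E.paraFact J
  refine ⟨v, ⟨hv, fun r hr => (dominant_sign E.good E.facts E.corootFact hv hd r).1 hr, hJ,
    fun r hr h => by_contra fun hn => (not_le.2 h) ((hiff r).2 ⟨(pos_iff E.facts r.2).2 hr, hn⟩)⟩, hrad⟩

theorem RadForm.neg {J : Set ℕ} {v : EuclideanSpace ℝ (Fin D.nroots)} (hv : RadForm E J v) (r : Fin D.nroots) :
    v ⟨D.neg r.val, E.good.neg_lt r.2⟩ = - v r := linForms_neg E.good hv.mem r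

theorem xe_mem_borelSubgroup {r : ℕ} (hr : r < D.nroots) (hr' : D.nroots / 2 ≤ r) (t : F) :
    x[r, t] ∈ D.borelSubgroup F :=
  Subgroup.mem_sup_left (Subgroup.subset_closure ⟨r, t, (pos_iff E.facts hr).2 hr', rfl⟩)

/-- Root elements with non-negative weight lie in the parabolic subgroup. -/
theorem xe_mem_P {J : Set ℕ} {v : EuclideanSpace ℝ (Fin D.nroots)} (hv : RadForm E J v) (r : Fin D.nroots)
    (h : 0 ≤ v r) (t : F) : x[r.val, t] ∈ D.parabolicSubgroup F J := by
  by_cases hr : D.nroots / 2 ≤ r.val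
  · exact Subgroup.mem_sup_left (xe_mem_borelSubgroup E r.2 hr t)
  have hneg : D.nroots / 2 ≤ D.neg r.val := by
    rw [neg_eq E.facts r.2]; have := E.facts.1; omega
  have h1 : D.InRootSub J (D.neg r.val) := hv.zero ⟨_, E.good.neg_lt r.2⟩ hneg (by rw [hv.neg E r]; linarith)
  have h2 : D.InRootSub J r.val := by
    have := inRootSub_neg E.good E.facts E.coefFacts h1
    rwa [E.good.neg_neg r.2] at this
  exact xe_mem_parabolic E.good E.facts E.coefFacts J r.2 (Or.inr h2) t

theorem moved_mem (l : List (Fin D.rank)) {v : EuclideanSpace ℝ (Fin D.nroots)} (hv : v ∈ linForms D) :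
    moveForm (σ[l])⁻¹ v ∈ linForms D := by
  rw [← RootBN.Data.wl_reverse (axioms E.good E.facts)]
  exact moveForm_wl_mem E.good _ hv

/-- Conjugates of a parabolic subgroup do not lower the moved weight. -/
theorem parabolic_conj_nonLow {J : Set ℕ} {v : EuclideanSpace ℝ (Fin D.nroots)} (hv : RadForm E J v)
    (l : List (Fin D.rank)) {g : GL D.Idx F} (hg : g ∈ D.parabolicSubgroup F J) :
    n[l] * g * (n[l])⁻¹ ∈ nonLow F (moveForm (σ[l])⁻¹ v) := by
  have ax := axioms (F := F) E.good E.facts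
  set K := (nonLow F (moveForm (σ[l])⁻¹ v)).comap (MulAut.conj (n[l])).toMonoidHom with hK
  have hx : ∀ (r : Fin D.nroots), 0 ≤ v r → ∀ t : F, x[r.val, t] ∈ K := by
    intro r h t
    obtain ⟨η, -, hη⟩ := nw_conj_xe E (F := F) l r
    show n[l] * x[r.val, t] * (n[l])⁻¹ ∈ nonLow F (moveForm (σ[l])⁻¹ v)
    rw [hη]
    refine xe_mem_nonLow E (moved_mem E l hv.mem) (Fin.is_lt _) ?_ _
    rw [moveForm_apply]
    rwa [show (σ[l])⁻¹ ⟨((σ[l]) r).val, Fin.is_lt _⟩ = r from Equiv.symm_apply_apply _ r]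
  have hn : ∀ j ∈ J, ∀ hj : j < D.rank, ne' E.good (D.simple j) (1 : F) ∈ K := by
    intro j hjJ hj
    have h0 := hv.simple ⟨j, hj⟩ hjJ
    have h1 := hx ⟨D.simple j, E.good.simple_lt hj⟩ h0.ge
    have h2 := hx ⟨D.neg (D.simple j), E.good.neg_lt (E.good.simple_lt hj)⟩ (by
      rw [hv.neg E ⟨D.simple j, E.good.simple_lt hj⟩, h0]; simp)
    exact K.mul_mem (K.mul_mem (h1 _) (h2 _)) (h1 _)
  refine (show D.parabolicSubgroup F J ≤ K from ?_) hg
  refine sup_le (sup_le ?_ ?_) ?_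
  · rw [ChevalleyDatum.posUnipotent, Subgroup.closure_le]
    rintro y ⟨r, t, hr, hy⟩
    obtain rfl : y = x[r, t] := eq_xe E.good hy
    exact hx ⟨r, hr.1⟩ (hv.pos _ ((pos_iff E.facts hr.1).1 hr)) t
  · intro y hy
    exact diagonal_mem_nonLow E _ (RootBN.Data.nw_H ax l hy)
  · rw [Subgroup.closure_le]
    rintro y ⟨j, hjJ, hj, hy⟩
    obtain rfl : y = ne' E.good (D.simple j) (1 : F) := Units.ext (hy.trans (coe_ne' E.good _ _).symm)
    exact hn j hjJ hj

/-- The leading root of an element of `U` in a conjugate of a parabolic subgroup. -/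
theorem lead_nonneg {J : Set ℕ} {v : EuclideanSpace ℝ (Fin D.nroots)} (hv : RadForm E J v)
    (l : List (Fin D.rank)) {k : ℕ} (hk : k < D.nroots) (hk' : D.nroots / 2 ≤ k) {c : F} (hc : c ≠ 0)
    {w : GL D.Idx F} (hw : w ∈ Uge E.good F (k + 1))
    (h : (n[l])⁻¹ * (x[k, c] * w) * n[l] ∈ D.parabolicSubgroup F J) : 0 ≤ v ((σ[l])⁻¹ ⟨k, hk⟩) := by
  have hG := E.good
  have h1 := (parabolic_conj_nonLow E hv l h).1
  rw [show n[l] * ((n[l])⁻¹ * (x[k, c] * w) * n[l]) * (n[l])⁻¹ = x[k, c] * w by group] at h1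
  obtain ⟨i, hi⟩ := exists_coroot_ne_zero (F := F) E.facts hk
  set s : Fin D.nroots := ⟨D.neg k, hG.neg_lt hk⟩ with hs
  have hs' : D.nroots - 1 - k ≤ s.val := (neg_eq E.facts hk).ge
  have hentry : ((x[k, c] * w : GL D.Idx F) : Matrix D.Idx D.Idx F) (Sum.inl i) (Sum.inr s) ≠ 0 := by
    have hlev : rootLevel D (Sum.inr s) < D.nroots / 2 := by
      show (if _ then _ else _) < _
      have := E.facts.1
      rw [if_pos (by show D.neg k < _; rw [neg_eq E.facts hk]; omega)]
      show D.neg k < _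
      rw [neg_eq E.facts hk]; omega
    have hw' := raises_unitri E.facts (show w ∈ D.posUnipotent F from
      (Uge_eq_U hG E.facts).le (by
        refine (show Uge hG F (k + 1) ≤ Uge hG F (D.nroots / 2) from ?_) hw
        refine Subgroup.closure_mono ?_
        rintro y ⟨r, u, h1, h2, e⟩
        exact ⟨r, u, h1, by omega, e⟩))
    have hdiag1 : (w : Matrix D.Idx D.Idx F) (Sum.inr s) (Sum.inr s) = 1 := by
      have := hw' (Sum.inr s) (Sum.inr s) (by omega)
      rwa [Matrix.sub_apply, Matrix.one_apply_eq, sub_eq_zero] at this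
    rw [Units.val_mul, coe_xe, Matrix.mul_apply, Finset.sum_eq_single (Sum.inr s), hdiag1, mul_one,
      x_entry_inl hk (hG.neg_lt hk), if_neg (hG.neg_ne hk), if_pos rfl]
    · exact mul_ne_zero hi hc
    · intro m _ hm
      rcases m with j | u
      · rw [Uge_entry hG E.facts hk' hw j s hs', mul_zero]
      · rw [x_entry_inl hk u.2]
        by_cases hu1 : u.val = k
        · rw [if_pos hu1, zero_mul]
        · rw [if_neg hu1, if_neg (fun e : u.val = D.neg k => hm (by rw [hs, ← Fin.ext (show u.val = (⟨D.neg k, hG.neg_lt hk⟩ : Fin D.nroots).val from e)])),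
            zero_mul]
    · exact fun h => absurd (Finset.mem_univ _) h
  by_contra hneg
  rw [not_le] at hneg
  refine hentry (h1 _ _ ?_)
  show (0 : ℝ) < moveForm (σ[l])⁻¹ v s
  rw [linForms_neg hG (moved_mem E l hv.mem) ⟨k, hk⟩, moveForm_apply]
  linarith

variable {φ : F ≃+* F}

local notation "Φ" => entryMap D (φ : F →+* F)

theorem entryMap_diagonal {h : GL D.Idx F} (hh : h ∈ D.diagonalSubgroup F) : Φ h ∈ D.diagonalSubgroup F := by
  refine (show D.diagonalSubgroup F ≤ (D.diagonalSubgroup F).comap Φ from ?_) hh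
  conv_lhs => rw [ChevalleyDatum.diagonalSubgroup]
  rw [Subgroup.closure_le]
  rintro y ⟨s, t, hs, ht, hy⟩
  obtain rfl : y = he E.good s t := Units.ext (hy.trans (coe_he E.good s t).symm)
  show Φ (he E.good s t) ∈ D.diagonalSubgroup F
  rw [entryMap_he E.good]
  exact Subgroup.subset_closure ⟨s, _, hs, by simpa using ht, coe_he E.good _ _⟩

theorem entryMap_ne'_one (s : ℕ) : Φ (ne' E.good s (1 : F)) = ne' E.good s 1 := by
  rw [entryMap_ne' E.good]; simp

theorem entryMap_nw (l : List (Fin D.rank)) : Φ (n[l]) = n[l] := by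
  induction l with
  | nil => simp
  | cons i l ih =>
    rw [RootBN.Data.nw_cons, map_mul, ih]
    show Φ (ne' E.good (D.simple i.val) 1) * _ = ne' E.good (D.simple i.val) 1 * _
    rw [entryMap_ne'_one E]

theorem entryMap_parabolic {J : Set ℕ} {g : GL D.Idx F} (hg : g ∈ D.parabolicSubgroup F J) :
    Φ g ∈ D.parabolicSubgroup F J := by
  refine (show D.parabolicSubgroup F J ≤ (D.parabolicSubgroup F J).comap Φ from ?_) hg
  refine sup_le (sup_le ?_ ?_) ?_
  · intro y hy
    rw [← Uge_eq_U E.good E.facts] at hy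
    exact Subgroup.mem_sup_left (Subgroup.mem_sup_left
      ((Uge_eq_U E.good E.facts).le (entryMap_mem_Uge E.good hy)))
  · intro y hy
    exact Subgroup.mem_sup_left (Subgroup.mem_sup_right (entryMap_diagonal E hy))
  · rw [Subgroup.closure_le]
    rintro y ⟨j, hjJ, hj, hy⟩
    obtain rfl : y = ne' E.good (D.simple j) (1 : F) := Units.ext (hy.trans (coe_ne' E.good _ _).symm)
    show Φ (ne' E.good (D.simple j) 1) ∈ D.parabolicSubgroup F J
    rw [entryMap_ne'_one E]
    exact Subgroup.mem_sup_right (Subgroup.subset_closure ⟨j, hjJ, hj, coe_ne' E.good _ _⟩)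

/-- A stable coset of a parabolic subgroup has a fixed element of the form `w n`, `w` in `U`. -/
theorem rational_coset (hφ : Descends E.good φ) (J : Set ℕ) {g : GL D.Idx F} (hg : g ∈ D.group F)
    (h : g⁻¹ * Φ g ∈ D.parabolicSubgroup F J) :
    ∃ w ∈ D.posUnipotent F, ∃ l : List (Fin D.rank), Φ w = w ∧
      (w * n[l])⁻¹ * g ∈ D.parabolicSubgroup F J := by
  have hG := E.good
  have ax := axioms (F := F) hG E.facts
  set P := D.parabolicSubgroup F J with hP
  obtain ⟨v, hv, -⟩ := radForm_exists E F J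
  obtain ⟨b, hb, l, u', hu', rfl⟩ :=
    RootBN.Data.exists_normal_form ax (by rwa [data_grp hG] : g ∈ (data hG F).grp)
  rw [data_B hG E.facts] at hb
  obtain ⟨u0, hu0, h0, hh0, rfl⟩ := borel_decomp hG E.facts hb
  set N := n[l] with hN
  have hNN : N ∈ (data hG F).N := RootBN.Data.nw_mem_N l
  set p := N⁻¹ * h0 * N * u' with hp
  have hpP : p ∈ P := by
    refine P.mul_mem (Subgroup.mem_sup_left (Subgroup.mem_sup_right ?_)) (Subgroup.mem_sup_left
      (Subgroup.mem_sup_left ((data_U hG E.facts).le (RootBN.Data.Um_le_U _ hu'))))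
    have h1 := RootBN.Data.N_conj_H ax (Subgroup.inv_mem _ hNN) hh0
    rw [inv_inv] at h1
    exact h1
  have e1 : u0 * h0 * N * u' = u0 * N * p := by rw [hp]; group
  have e2 : N⁻¹ * (u0⁻¹ * Φ u0) * N = p * ((u0 * h0 * N * u')⁻¹ * Φ (u0 * h0 * N * u')) * (Φ p)⁻¹ := by
    rw [e1, map_mul Φ (u0 * N) p, map_mul, hN, entryMap_nw E]
    group
  set K : Subgroup (GL D.Idx F) := Uge hG F (D.nroots / 2) ⊓ P.comap (MulAut.conj N⁻¹).toMonoidHom with hK
  have hmemK : ∀ y, y ∈ K ↔ y ∈ Uge hG F (D.nroots / 2) ∧ N⁻¹ * y * N ∈ P := fun y => by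
    simp [hK, MulAut.conj_apply]
  have hΦ : ∀ y ∈ K, Φ y ∈ K := by
    intro y hy
    rw [hmemK] at hy ⊢
    refine ⟨entryMap_mem_Uge hG hy.1, ?_⟩
    have := entryMap_parabolic (φ := φ) E hy.2
    rwa [map_mul, map_mul, map_inv, hN, entryMap_nw E] at this
  have hlead : LeadClosed hG K := by
    intro k c w hk' hk hc hw hmem t
    rw [hmemK] at hmem ⊢
    refine ⟨xe_mem_Uge hG hk hk' t, ?_⟩
    obtain ⟨η, -, hη⟩ := nw_inv_conj_xe E (F := F) l ⟨k, hk⟩
    rw [hN, hη]
    exact xe_mem_P E hv _ (lead_nonneg E hv l hk hk' hc hw hmem.2) _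
  have hmem : u0⁻¹ * Φ u0 ∈ K := by
    rw [hmemK]
    refine ⟨Subgroup.mul_mem _ (Subgroup.inv_mem _ ?_) (entryMap_mem_Uge hG ?_), ?_⟩
    · rwa [Uge_eq_U hG E.facts]
    · rwa [Uge_eq_U hG E.facts]
    · rw [e2]
      exact P.mul_mem (P.mul_mem hpP h) (P.inv_mem (entryMap_parabolic E hpP))
  obtain ⟨d, hd, hfix⟩ := lang hG E.facts hφ inf_le_left hΦ hlead hmem
  rw [hmemK] at hd
  refine ⟨u0 * d⁻¹, Subgroup.mul_mem _ hu0 (Subgroup.inv_mem _ ((Uge_eq_U hG E.facts).le hd.1)), l, hfix, ?_⟩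
  rw [e1, show (u0 * d⁻¹ * N)⁻¹ * (u0 * N * p) = N⁻¹ * d * N * p by group]
  exact P.mul_mem hd.2 hpP

/-- The parabolic subgroup of the empty set of nodes is the Borel subgroup. -/
theorem parabolicSubgroup_empty : D.parabolicSubgroup F (∅ : Set ℕ) = D.borelSubgroup F := by
  have _ := E
  refine le_antisymm (sup_le le_rfl ?_) le_sup_left
  rw [Subgroup.closure_le]
  rintro y ⟨j, hj, -⟩
  exact absurd hj (Set.notMem_empty j)

end Cfsg.Agent.Chev.Subfield
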