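/-
The elements fixed by a field automorphism with finitely many fixed points: their `p`-subgroups are conjugate into `U`.
-/
import Cfsg.Agent.Lib.Chev.Subfield.ParabolicStable
import Mathlib.GroupTheory.GroupAction.Quotient
import Mathlib.GroupTheory.PGroup

set_option autoImplicit false

namespace Cfsg.Agent.Chev.Subfield

open Cfsg.Lie
open Cfsg.Agent.Chev.BNSetup

variable {F : Type*} [Field F] {D : ChevalleyDatum} (E : Env D) (p : ℕ) [Fact p.Prime] [CharP F p]
include E p

local notation "x[" r "," t "]" => xe (Env.good E) r t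

/-- The elements of `U` have `p`-power order. -/
theorem posUnipotent_pow_eq_one {u : GL D.Idx F} (hu : u ∈ D.posUnipotent F) : ∃ n, u ^ p ^ n = 1 := by
  have : Nonempty D.Idx := ⟨Sum.inr ⟨D.nroots - 1, (Env.top_pos E).1⟩⟩
  refine ⟨D.rank + D.nroots, Units.ext ?_⟩
  have hlt : D.rank + D.nroots < p ^ (D.rank + D.nroots) := Nat.lt_pow_self (Fact.out : p.Prime).one_lt
  have h := Cfsg.Agent.Chev.pow_sub_one_eq_zero (w := rootLevel D) (g := u) (raises_unitri E.facts hu)
    (n := p ^ (D.rank + D.nroots)) (fun i => lt_trans (rootLevel_lt D E.facts.2.1.1 i) hlt)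
  rw [sub_pow_char_pow_of_commute (p := p) _ (Commute.one_right _), one_pow, sub_eq_zero] at h
  simpa using h

omit E in
theorem eq_one_of_pow_char_pow {t : F} {n : ℕ} (h : t ^ p ^ n = 1) : t = 1 := by
  have h1 : (t - 1) ^ p ^ n = 0 := by rw [sub_pow_char_pow, h, one_pow, sub_self]
  exact sub_eq_zero.1 (eq_zero_of_pow_eq_zero h1)

/-- A `p`-element of the Borel subgroup lies in `U`. -/
theorem mem_posUnipotent_of_pow {b : GL D.Idx F} (hb : b ∈ D.borelSubgroup F) {n : ℕ} (h : b ^ p ^ n = 1) :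
    b ∈ D.posUnipotent F := by
  have hG := E.good
  obtain ⟨u, hu, h0, hh0, rfl⟩ := borel_decomp hG E.facts hb
  have hnorm : ∀ y ∈ D.posUnipotent F, h0 * y * h0⁻¹ ∈ D.posUnipotent F := fun y hy => by
    rw [← Uge_eq_U hG E.facts] at hy ⊢
    exact borel_conj_Uge hG E.facts le_rfl ((data_B hG E.facts).ge (Subgroup.mem_sup_right hh0)) hy
  have key : ∀ m : ℕ, ∃ w ∈ D.posUnipotent F, (u * h0) ^ m = w * h0 ^ m := by
    intro m
    induction m with
    | zero => exact ⟨1, Subgroup.one_mem _, by simp⟩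
    | succ m ih =>
      obtain ⟨w, hw, e⟩ := ih
      refine ⟨u * (h0 * w * h0⁻¹), Subgroup.mul_mem _ hu (hnorm w hw), ?_⟩
      rw [pow_succ', e, pow_succ']
      group
  obtain ⟨w, hw, e⟩ := key (p ^ n)
  have h1 : h0 ^ p ^ n = 1 := by
    rw [h] at e
    have : h0 ^ p ^ n = w⁻¹ := eq_inv_of_mul_eq_one_right e.symm
    exact Subgroup.mem_bot.1 ((U_inf_H E.facts hG).le ⟨this ▸ Subgroup.inv_mem _ hw, Subgroup.pow_mem _ hh0 _⟩)
  obtain ⟨χ, hχ⟩ := tri_H E.facts hG hh0
  suffices h0 = 1 by rw [this, mul_one]; exact hu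
  refine Units.ext ?_
  have h2 := congrArg (fun x : GL D.Idx F => (x : Matrix D.Idx D.Idx F)) h1
  simp only [Units.val_pow_eq_pow_val, Units.val_one, hχ, hdiag, Matrix.diagonal_pow] at h2
  rw [Units.val_one, hχ, hdiag, ← Matrix.diagonal_one]
  congr 1
  funext i
  exact eq_one_of_pow_char_pow p (by simpa using congrFun (congrFun h2 i) i)

variable (φ : F ≃+* F)

local notation "Φ" => entryMap D (φ : F →+* F)

/-- The fixed elements of the group. -/
def fixedPart : Subgroup (GL D.Idx F) := D.group F ⊓ MonoidHom.eqLocus Φ (MonoidHom.id _)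

omit E p [Fact p.Prime] [CharP F p] in
theorem mem_fixedPart {g : GL D.Idx F} : g ∈ fixedPart (D := D) φ ↔ g ∈ D.group F ∧ Φ g = g := Iff.rfl

omit E p [Fact p.Prime] [CharP F p] in
theorem finite_fixedPart (hfin : {t : F | φ t = t}.Finite) : Finite (fixedPart (D := D) φ) := by
  have : Finite {t : F | φ t = t} := hfin.to_subtype
  refine Finite.of_injective (β := D.Idx → D.Idx → {t : F | φ t = t}) (fun g i j => ⟨(g.1 : Matrix D.Idx D.Idx F) i j,
    congrArg (fun x : GL D.Idx F => (x : Matrix D.Idx D.Idx F) i j) g.2.2⟩) fun g g' h => ?_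
  refine Subtype.ext (Units.ext (Matrix.ext fun i j => ?_))
  exact congrArg Subtype.val (congrFun (congrFun h i) j)

/-- A fixed element conjugating the fixed elements of `U` into the Borel subgroup lies in it. -/
theorem mem_borel_of_conj {y : GL D.Idx F} (hy : y ∈ D.group F)
    (h : ∀ u ∈ D.posUnipotent F, Φ u = u → y⁻¹ * u * y ∈ D.borelSubgroup F) : y ∈ D.borelSubgroup F := by
  have hG := E.good
  have ax := axioms (F := F) hG E.facts
  obtain ⟨b, hb, l, v, hv, rfl⟩ :=
    RootBN.Data.exists_normal_form ax (by rwa [data_grp hG] : y ∈ (data hG F).grp)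
  have hvB : v ∈ (data hG F).B := RootBN.Data.U_le_B (RootBN.Data.Um_le_U _ hv)
  have hwl : (data hG F).wl l = 1 := by
    refine wl_eq_one_of_keep hG E.facts fun i => ?_
    obtain ⟨hs, hs'⟩ : D.simple i.val < D.nroots ∧ D.nroots / 2 ≤ D.simple i.val :=
      ⟨hG.simple_lt i.2, (E.facts.2.2.2.2.1 i.val i.2).2.1⟩
    set X := x[D.simple i.val, (1 : F)] with hX
    have hXU : X ∈ D.posUnipotent F := Subgroup.subset_closure ⟨_, 1, (pos_iff E.facts hs).2 hs', rfl⟩
    have h1 := h X hXU (by rw [hX, entryMap_xe hG]; simp)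
    set g := b⁻¹ * X * b with hg
    have hlead : Lead hG F g (D.simple i.val) := by
      have := Lead_conj hG E.facts (Subgroup.inv_mem _ hb) (Lead_xe hG E.facts hs hs' (one_ne_zero : (1 : F) ≠ 0))
      rwa [inv_inv] at this
    have h2 : ((data hG F).nw l)⁻¹ * g * (data hG F).nw l ∈ D.borelSubgroup F := by
      have e : ((data hG F).nw l)⁻¹ * g * (data hG F).nw l =
          v * ((b * (data hG F).nw l * v)⁻¹ * X * (b * (data hG F).nw l * v)) * v⁻¹ := by
        rw [hg]; group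
      rw [e]
      exact Subgroup.mul_mem _ (Subgroup.mul_mem _ ((data_B hG E.facts).le hvB) h1)
        (Subgroup.inv_mem _ ((data_B hG E.facts).le hvB))
    obtain ⟨n, hn⟩ := posUnipotent_pow_eq_one E p hXU
    have h3 : ((data hG F).nw l)⁻¹ * g * (data hG F).nw l ∈ D.posUnipotent F := by
      refine mem_posUnipotent_of_pow E p h2 (n := n) ?_
      have e : ((data hG F).nw l)⁻¹ * g * (data hG F).nw l =
          ((data hG F).nw l)⁻¹ * b⁻¹ * X * (((data hG F).nw l)⁻¹ * b⁻¹)⁻¹ := by rw [hg]; group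
      rw [e, conj_pow, hn, mul_one, mul_inv_cancel]
    have hgU : g ∈ (data hG F).U := by
      rw [data_U hG E.facts, ← Uge_eq_U hG E.facts]
      exact Uge_anti hG hs' hlead.2.2.1
    have hI : g ∈ Inter hG F l := (mem_Inter hG).2 ⟨hgU, (data_U hG E.facts).ge h3⟩
    obtain ⟨t, ht, e⟩ := exists_prodFrom_Inter' hG E.facts E.negTri E.posForm l hI
    rw [e] at hlead
    exact ht _ (Lead_prodFrom hG E.facts E.half_add le_rfl hlead)
  have hnH : (data hG F).nw l ∈ (data hG F).H :=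
    RootBN.Data.mem_H_of_pos_preserving ax (RootBN.Data.nw_mem_N l) (RootBN.Data.acts_nw ax l)
      fun r hr => by rwa [hwl]
  exact (data_B hG E.facts).le (Subgroup.mul_mem _ (Subgroup.mul_mem _ hb (RootBN.Data.H_le_B hnH)) hvB)

/-- A fixed `p`-subgroup is conjugate into `U`. -/
theorem exists_conj_unipotent (hfin : {t : F | φ t = t}.Finite) {R : Subgroup (GL D.Idx F)}
    (hRG : R ≤ D.group F) (hR : IsPGroup p R) (hfix : ∀ x ∈ R, Φ x = x) :
    ∃ c ∈ D.group F, ∀ x ∈ R, c * x * c⁻¹ ∈ D.posUnipotent F := by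
  classical
  set G := fixedPart (D := D) φ with hGd
  have : Finite G := finite_fixedPart φ hfin
  set B : Subgroup G := (D.borelSubgroup F).comap G.subtype with hB
  set V : Subgroup G := (D.posUnipotent F).comap G.subtype with hV
  have hVB : ∀ y : G, y ∈ V → y ∈ B := fun y hy => Subgroup.mem_sup_left (show (y : GL D.Idx F) ∈ D.posUnipotent F from hy)
  have hVp : IsPGroup p V := fun v => by
    obtain ⟨n, hn⟩ := posUnipotent_pow_eq_one E p (show ((v : G) : GL D.Idx F) ∈ D.posUnipotent F from v.2)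
    exact ⟨n, Subtype.ext (Subtype.ext (by simpa using hn))⟩
  -- the fixed part of `U` fixes only the base point
  have hpts : MulAction.fixedPoints V (G ⧸ B) = {((1 : G) : G ⧸ B)} := by
    ext x
    obtain ⟨y, rfl⟩ := QuotientGroup.mk_surjective x
    rw [Set.mem_singleton_iff, MulAction.mem_fixedPoints, QuotientGroup.eq, mul_one, Subgroup.inv_mem_iff]
    constructor
    · intro h
      refine mem_borel_of_conj E p φ y.2.1 fun u hu hfu => ?_
      have hu' : u ∈ G := ⟨ChevSylow.posUnipotent_le_group E.good E.facts hu, hfu⟩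
      have h1 := h ⟨⟨u, hu'⟩, hu⟩
      have h2 : y⁻¹ * (⟨u, hu'⟩ : G) * y ∈ B := by
        have h3 : ((⟨u, hu'⟩ * y : G) : G ⧸ B) = (y : G ⧸ B) := h1
        have h4 := QuotientGroup.eq.1 h3.symm
        rwa [← mul_assoc] at h4
      exact h2
    · intro hy v
      show (((v : G) * y : G) : G ⧸ B) = (y : G ⧸ B)
      rw [QuotientGroup.eq]
      exact B.mul_mem (B.inv_mem (B.mul_mem (hVB _ v.2) hy)) hy
  have hcard : ¬ p ∣ Nat.card (G ⧸ B) := by
    have h := hVp.card_modEq_card_fixedPoints (G ⧸ B)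
    rw [(Nat.card_congr (Equiv.setCongr hpts)).trans Nat.card_unique] at h
    intro hd
    exact (Fact.out : p.Prime).one_lt.ne' (Nat.dvd_one.1 ((h.dvd_iff dvd_rfl).1 hd))
  have hRG' : R ≤ G := fun x hx => ⟨hRG hx, hfix x hx⟩
  set Q : Subgroup G := R.comap G.subtype with hQ
  have hQp : IsPGroup p Q := hR.comap_of_injective _ G.subtype_injective
  obtain ⟨x, hx⟩ := hQp.nonempty_fixed_point_of_prime_not_dvd_card (G ⧸ B) hcard
  obtain ⟨y, rfl⟩ := QuotientGroup.mk_surjective x
  refine ⟨((y⁻¹ : G) : GL D.Idx F), (y⁻¹ : G).2.1, fun z hz => ?_⟩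
  have h1 := hx ⟨⟨z, hRG' hz⟩, hz⟩
  have h2 : y⁻¹ * (⟨z, hRG' hz⟩ : G) * y ∈ B := by
    have h3 : ((⟨z, hRG' hz⟩ * y : G) : G ⧸ B) = (y : G ⧸ B) := h1
    have h4 := QuotientGroup.eq.1 h3.symm
    rwa [← mul_assoc] at h4
  have h5 : ((y⁻¹ : G) : GL D.Idx F) * z * ((y⁻¹ : G) : GL D.Idx F)⁻¹ ∈ D.borelSubgroup F := by
    have : ((y⁻¹ * ⟨z, hRG' hz⟩ * y : G) : GL D.Idx F) ∈ D.borelSubgroup F := h2
    simpa using this
  obtain ⟨n, hn⟩ := hR ⟨z, hz⟩
  refine mem_posUnipotent_of_pow E p h5 (n := n) ?_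
  rw [conj_pow, show z ^ p ^ n = 1 from congrArg Subtype.val hn, mul_one, mul_inv_cancel]

end Cfsg.Agent.Chev.Subfield
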