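/-
Subgroups containing the rational root elements.
-/
import Cfsg.Agent.Lib.Chev.Subfield.Env
import Cfsg.Agent.Lib.Chev.Subfield.Lang

set_option autoImplicit false

namespace Cfsg.Agent.Chev.Subfield

open Cfsg.Lie
open Cfsg.Agent.Chev.BNSetup

variable {F : Type*} [Field F] {D : ChevalleyDatum}

/-- An overgroup of the rational root elements. -/
def Over (φ : F ≃+* F) (H : Subgroup (GL D.Idx F)) : Prop :=
  ∀ g : GL D.Idx F, (∃ s, s < D.nroots ∧ ∃ t : F, φ t = t ∧ (g : Matrix D.Idx D.Idx F) = D.x F s t) → g ∈ H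

variable (E : Env D)
include E
variable {φ : F ≃+* F} {H : Subgroup (GL D.Idx F)}

local notation "x[" r "," t "]" => xe (Env.good E) r t

theorem over_xe (hH : Over φ H) {s : ℕ} (hs : s < D.nroots) {t : F} (ht : φ t = t) : x[s, t] ∈ H :=
  hH _ ⟨s, hs, t, ht, coe_xe E.good s t⟩

theorem over_ne' (hH : Over φ H) {s : ℕ} (hs : s < D.nroots) {t : F} (ht : φ t = t) : ne' E.good s t ∈ H :=
  H.mul_mem (H.mul_mem (over_xe E hH hs ht)
    (over_xe E hH (E.good.neg_lt hs) (by rw [map_neg, map_inv₀, ht]))) (over_xe E hH hs ht)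

theorem over_nw (hH : Over φ H) (l : List (Fin D.rank)) : (data E.good F).nw l ∈ H := by
  induction l with
  | nil => simpa using H.one_mem
  | cons i l ih =>
    rw [RootBN.Data.nw_cons]
    exact H.mul_mem (over_ne' E hH (E.good.simple_lt i.2) (map_one φ)) ih

/-- The rational elements of `U` are in every overgroup. -/
theorem over_U (hH : Over φ H) {u : GL D.Idx F} (hu : u ∈ D.posUnipotent F)
    (hfix : entryMap D (φ : F →+* F) u = u) : u ∈ H :=
  fixed_U_mem E.good E.facts (fun _ hs _ ht => over_xe E hH hs ht) hu hfix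

end Cfsg.Agent.Chev.Subfield
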