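/-
An overgroup of the subfield subgroup whose part in `U` is rational: the rational part is strongly `p`-embedded.
-/
import Cfsg.Agent.Lib.Chev.Subfield.ParabolicStable
import Cfsg.Agent.Lib.Chev.Subfield.BorelTitsRational
import Cfsg.Agent.Lib.Chev.Subfield.FixedPart
import Cfsg.Agent.Lib.Chev.Subfield.Over
import Cfsg.Agent.Lib.StronglyEmbedded.Conj

set_option autoImplicit false

namespace Cfsg.Agent.Chev.Subfield

open Cfsg.Lie
open Cfsg.Agent.Chev.BNSetup

variable {F : Type*} [Field F] {D : ChevalleyDatum}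

/-- An overgroup of the rational elements whose part in `U` is rational. -/
structure SmallOver (φ : F ≃+* F) (H : Subgroup (GL D.Idx F)) : Prop where
  le : H ≤ D.group F
  isOver : Over φ H
  finite : Finite H
  finite_fixed : {t : F | φ t = t}.Finite
  unip : ∀ g ∈ H, g ∈ D.posUnipotent F → entryMap D (φ : F →+* F) g = g

variable (E : Env D)
include E
variable {φ : F ≃+* F} {H : Subgroup (GL D.Idx F)}

local notation "x[" r "," t "]" => xe (Env.good E) r t
local notation "Φ" => entryMap D (φ : F →+* F)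
local notation "Urad[" i "]" => RootBN.Data.Urad (data (Env.good E) F) i

theorem entryMap_xe_one (s : ℕ) : Φ x[s, (1 : F)] = x[s, 1] := by
  rw [entryMap_xe E.good]; simp

/-- The part of an overgroup in a proper parabolic subgroup is rational. -/
theorem twist_mem_U (hH : SmallOver φ H) {J : Set ℕ}
    (hJ : ∃ i, i < D.rank ∧ i ∉ J) {g : GL D.Idx F} (hg : g ∈ H) (hgP : g ∈ D.parabolicSubgroup F J) :
    g⁻¹ * Φ g ∈ D.posUnipotent F ∧
      ∀ s < D.nroots, D.IsPosRoot s → ¬ D.InRootSub J s → Commute (g⁻¹ * Φ g) x[s, (1 : F)] := by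
  have hG := E.good
  have hnorm := parabolic_le_normalizer_radical' hG E.facts E.corootFact E.paraFact J hgP
  have hgG := hH.le hg
  set z := g⁻¹ * Φ g with hz
  have hzG : z ∈ D.group F := Subgroup.mul_mem _ (Subgroup.inv_mem _ hgG) (entryMap_mem_group hG hgG)
  have hradU : D.unipotentRadical F J ≤ D.posUnipotent F := by
    rw [ChevalleyDatum.unipotentRadical, Subgroup.closure_le]
    rintro y ⟨s, t, hs, -, hy⟩
    exact Subgroup.subset_closure ⟨s, t, hs, hy⟩
  have hzc : D.unipotentRadical F J ≤ Subgroup.centralizer {z} := by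
    conv_lhs => rw [ChevalleyDatum.unipotentRadical]
    rw [Subgroup.closure_le]
    rintro y ⟨s, t, hs, hsJ, hy⟩
    obtain rfl : y = x[s, t] := eq_xe hG hy
    have h1 : x[s, (1 : F)] ∈ D.unipotentRadical F J :=
      Subgroup.subset_closure ⟨s, 1, hs, hsJ, rfl⟩
    have h2 : g * x[s, (1 : F)] * g⁻¹ ∈ H := H.mul_mem (H.mul_mem hg
      (over_xe E hH.isOver hs.1 (map_one φ))) (H.inv_mem hg)
    have h3 := hH.unip _ h2 (hradU ((Subgroup.mem_normalizer_iff.1 hnorm _).1 h1))
    rw [map_mul, map_mul, map_inv, entryMap_xe_one E] at h3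
    have h4 : Commute z x[s, (1 : F)] := by
      show z * _ = _ * z
      calc z * x[s, (1 : F)] = g⁻¹ * (Φ g * x[s, (1 : F)] * (Φ g)⁻¹) * Φ g := by rw [hz]; group
        _ = _ := by rw [h3, hz]; group
    exact Subgroup.mem_centralizer_singleton_iff.2 (commute_of_one (E := E) hs.1 hzG h4 t).eq.symm
  refine ⟨centraliser_radical_le' hG E.facts E.corootFact E.paraFact E.posForm hJ hzG
    fun y hy => (Subgroup.mem_centralizer_singleton_iff.1 (hzc hy)).symm, fun s hs hs1 hs2 => ?_⟩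
  exact (Subgroup.mem_centralizer_singleton_iff.1 (hzc (Subgroup.subset_closure ⟨s, 1, hs1, hs2, coe_xe hG s 1⟩))).symm

/-- The twist of an element of `H` in the Borel subgroup lies in the groups of the highest roots. -/
theorem twist_mem_T (hH : SmallOver φ H) {b : GL D.Idx F} (hb : b ∈ H) (hbB : b ∈ D.borelSubgroup F) :
    b⁻¹ * Φ b ∈ rootGen E.good F {r : Fin D.nroots | r.val ∈ E.T} := by
  obtain ⟨h1, h2⟩ := twist_mem_U E hH (J := ∅) ⟨0, E.facts.2.1.1, Set.notMem_empty 0⟩ hb
    (by rwa [parabolicSubgroup_empty E])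
  refine mem_rootGen_T E h1 fun r hr hr' => h2 r hr ((pos_iff E.facts hr).2 hr') fun hin => ?_
  obtain ⟨i, hi⟩ := exists_coroot_ne_zero (F := F) E.facts hr
  exact hi (by rw [hin.2 i.val i.2 (Set.notMem_empty _)]; simp)

theorem Urad_le_posUnipotent (i : Fin D.rank) : Urad[i] ≤ D.posUnipotent F :=
  le_trans (RootBN.Data.Urad_le_U i) (data_U E.good E.facts).le

theorem simple_not_mem_Urad {i : Fin D.rank} {t : F} (h : x[D.simple i.val, t] ∈ Urad[i]) : t = 0 := by
  have hG := E.good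
  have ax := axioms (F := F) hG E.facts
  have h1 := RootBN.Data.nn_conj_Urad ax h
  obtain ⟨η, hη, hx⟩ := nw_conj_xe E (F := F) [i] ⟨D.simple i.val, hG.simple_lt i.2⟩
  simp only [RootBN.Data.nw_cons, RootBN.Data.nw_nil, mul_one, RootBN.Data.wl_cons, RootBN.Data.wl_nil] at hx
  rw [hx, data_refl] at h1
  have hneg : D.reflectRoot i.val (D.simple i.val) < D.nroots / 2 := by
    have h2 := (E.facts.2.2.2.2.1 i.val i.2)
    rw [h2.2.2.2.2, neg_eq E.facts (hG.simple_lt i.2)]
    have := h2.2.1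
    have := E.facts.1
    have := hG.simple_lt i.2
    omega
  have h3 := neg_inf_borel hG E.facts (hG.reflectRoot_lt i.2 (hG.simple_lt i.2)) hneg
    (Subgroup.mem_sup_left (Urad_le_posUnipotent E i h1))
  exact (mul_eq_zero.1 h3).resolve_left hη

/-- An element of the groups of the highest roots whose conjugates by the fundamental monomial elements remain
there is trivial. -/
theorem eq_one_of_nn_conj {z : GL D.Idx F} (hz : z ∈ rootGen E.good F {r : Fin D.nroots | r.val ∈ E.T})
    (h : ∀ i : Fin D.rank, ne' E.good (D.simple i.val) 1 * z * (ne' E.good (D.simple i.val) 1)⁻¹ ∈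
      rootGen E.good F {r : Fin D.nroots | r.val ∈ E.T}) : z = 1 := by
  classical
  have hG := E.good
  have hA : CommSet E F {a | a ∈ E.T} := commSet_of_list E.T_pos E.T_comm
  obtain ⟨c, hc, hzc⟩ := exists_PF_of_T E hz
  have hall : ∀ β ∈ E.T, c β = 0 := by
    intro β hβ
    obtain ⟨i, hi, hiT⟩ := (E.T_move β hβ).2
    set N := ne' hG (D.simple i) (1 : F) with hN
    set A' : Set ℕ := {a | ∃ j ∈ E.T, D.reflectRoot i j = a} with hA'
    have hconj : ∀ j ∈ E.T, ∃ e : F, e * e = 1 ∧ ∀ t, N * xe hG j t * N⁻¹ = xe hG (D.reflectRoot i j) (e * t) :=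
      fun j hj => by
        obtain ⟨e, he, hx, -⟩ := exists_conj hG (F := F) hi (E.T_pos j hj).1
        exact ⟨e, he, hx⟩
    choose! e he hx using hconj
    have hC' : CommSet E F A' := by
      refine ⟨?_, ?_⟩
      · rintro _ ⟨j, hj, rfl⟩
        exact ⟨hG.reflectRoot_lt hi (E.T_pos j hj).1, ((E.T_move j hj).1 i hi).2⟩
      · rintro _ ⟨j, hj, rfl⟩ _ ⟨j', hj', rfl⟩ v w
        have := (hA.comm j hj j' hj' (e j * v) (e j' * w)).map (MulAut.conj N).toMonoidHom
        simpa [MulAut.conj_apply, hx j hj, hx j' hj', ← mul_assoc, he j hj, he j' hj'] using this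
    have key : ∀ m k, k + m ≤ D.nroots → ∃ d : ℕ → F, (∀ a, d a ≠ 0 → a ∈ A') ∧
        N * prodFrom hG F c k m * N⁻¹ = prodFrom hG F d (D.nroots / 2) (D.nroots / 2) ∧
        ∀ j ∈ E.T, d (D.reflectRoot i j) = if k ≤ j ∧ j < k + m then e j * c j else 0 := by
      intro m
      induction m with
      | zero =>
        intro k _
        refine ⟨fun _ => 0, fun a h => absurd rfl h, ?_, fun j _ => by rw [if_neg (by omega)]⟩
        simp only [prodFrom, mul_one, mul_inv_cancel]
        exact (Subgroup.mem_bot.1 (prodFrom_mem_of hG (K := ⊥) E.half_add.le fun j _ _ h => absurd rfl h)).symm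
      | succ m ih =>
        intro k hk
        obtain ⟨d, hd, e1, e2⟩ := ih (k + 1) (by omega)
        by_cases hkc : c k = 0
        · refine ⟨d, hd, ?_, fun j hj => ?_⟩
          · rw [prodFrom, hkc, xe_zero hG (by omega), one_mul]; exact e1
          · rw [e2 j hj]
            by_cases hjk : j = k
            · subst hjk; rw [if_neg (by omega), if_pos (by omega), hkc, mul_zero]
            · exact if_congr (by omega) rfl rfl
        have hkT := hc k hkc
        have hinj : ∀ j ∈ E.T, D.reflectRoot i j = D.reflectRoot i k → j = k := fun j hj h => by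
          rw [← hG.reflectRoot_reflectRoot hi (E.T_pos j hj).1, h, hG.reflectRoot_reflectRoot hi (E.T_pos k hkT).1]
        set a := D.reflectRoot i k with ha
        set u := Function.update (fun _ => (0 : F)) a (e k * c k) with hu
        have hu' : ∀ b, u b ≠ 0 → b ∈ A' := fun b hb => by
          by_cases hba : b = a
          · exact ⟨k, hkT, hba.symm⟩
          · exact absurd (Function.update_of_ne hba _ _) hb
        refine ⟨fun b => u b + d b, fun b hb => ?_, ?_, fun j hj => ?_⟩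
        · by_cases h0 : u b = 0
          · exact hd b (by simpa [h0] using hb)
          · exact hu' b h0
        · rw [prodFrom, PF_add hC' hu' hd E.half_add.le,
            PF_single (E := E) (hC'.pos a ⟨k, hkT, rfl⟩).2 (hC'.pos a ⟨k, hkT, rfl⟩).1, ← e1, ← hx k hkT]
          group
        · show u (D.reflectRoot i j) + d (D.reflectRoot i j) = _
          rw [e2 j hj]
          by_cases hjk : j = k
          · subst hjk
            rw [hu, ha, Function.update_self, if_neg (by omega), if_pos (by omega), add_zero]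
          · rw [hu, Function.update_of_ne (fun h => hjk (hinj j hj h)), zero_add]
            exact if_congr (by omega) rfl rfl
    obtain ⟨d, -, e1, e2⟩ := key _ _ E.half_add.le
    rw [← hzc] at e1
    obtain ⟨d', hd', e3⟩ := exists_PF_of_T E (e1 ▸ h ⟨i, hi⟩)
    have e4 := prodFrom_inj hG E.facts E.half_add le_rfl e3 (D.reflectRoot i β) ((E.T_move β hβ).1 i hi).2
      (hG.reflectRoot_lt hi (E.T_pos β hβ).1)
    have h0 : d' (D.reflectRoot i β) = 0 := by_contra fun h0 => hiT (hd' _ h0)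
    obtain ⟨hβ1, hβ2⟩ := E.T_pos β hβ
    rw [h0, e2 β hβ, if_pos ⟨hβ2, by rw [E.half_add]; exact hβ1⟩] at e4
    rcases mul_eq_zero.1 e4 with h | h
    · simpa [h] using he β hβ
    · exact h
  rw [hzc]
  exact Subgroup.mem_bot.1 (prodFrom_mem_of hG (K := ⊥) E.half_add.le fun j _ _ h => absurd (hall j (hc j h)) h)

/-- The part of an overgroup in the Borel subgroup is rational. -/
theorem fixed_of_mem_borel (hH : SmallOver φ H) {b : GL D.Idx F} (hb : b ∈ H) (hbB : b ∈ D.borelSubgroup F) :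
    Φ b = b := by
  have hG := E.good
  have hf := E.facts
  have ax := axioms (F := F) hG hf
  set z := b⁻¹ * Φ b with hz
  suffices h1 : z = 1 by rw [hz, inv_mul_eq_one] at h1; exact h1.symm
  refine eq_one_of_nn_conj E (twist_mem_T E hH hb hbB) fun i => ?_
  obtain ⟨u0, hu0, h0, hh0, hbe⟩ := borel_decomp hG hf hbB
  obtain ⟨y, hy, v, hv, rfl⟩ := RootBN.Data.U_eq_mul ax i ((data_U hG hf).ge hu0)
  obtain ⟨c, rfl⟩ := (mem_rootSubgroup hG (hG.simple_lt i.2)).1 hy
  set X := x[D.simple i.val, c] with hX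
  set R := rootGen hG F {r : Fin D.nroots | r.val ∈ E.T} with hR
  have hTU : R ≤ RootBN.Data.Urad (data hG F) i := by
    rw [hR, rootGen, Subgroup.closure_le]
    rintro _ ⟨s, hs, t, rfl⟩
    exact RootBN.Data.X_le_Urad (D := data hG F) (r := s) (E.T_pos _ hs).2
      (fun e => ((E.T_move _ hs).1 i.val i.2).1 (congrArg Fin.val e)) ((mem_rootSubgroup hG s.2).2 ⟨t, rfl⟩)
  have hXB : ∀ t, x[D.simple i.val, t] ∈ (data hG F).X ⟨D.simple i.val, hG.simple_lt i.2⟩ := fun t =>
    (mem_rootSubgroup hG (hG.simple_lt i.2)).2 ⟨t, rfl⟩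
  have hzr : Φ b * b⁻¹ ∈ RootBN.Data.Urad (data hG F) i := by
    have e : Φ b * b⁻¹ = X * v * (h0 * z * h0⁻¹) * v⁻¹ * X⁻¹ := by rw [hz, hbe]; group
    rw [e]
    have := RootBN.Data.X_conj_Urad ax (hXB c) (Subgroup.mul_mem _ (Subgroup.mul_mem _ hv
      (RootBN.Data.H_conj_Urad ax hh0 (hTU (twist_mem_T E hH hb hbB)))) (Subgroup.inv_mem _ hv))
    simpa [hz, hX, mul_assoc] using this
  have hUradU : RootBN.Data.Urad (data hG F) i ≤ D.posUnipotent F :=
    (RootBN.Data.Urad_le_U i).trans (data_U hG hf).le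
  have hΦv : Φ v ∈ RootBN.Data.Urad (data hG F) i := by
    refine (show RootBN.Data.Urad (data hG F) i ≤ (RootBN.Data.Urad (data hG F) i).comap Φ from ?_) hv
    conv_lhs => rw [RootBN.Data.Urad]
    refine iSup₂_le fun s hs y hy => ?_
    obtain ⟨t, rfl⟩ := (mem_rootSubgroup hG s.2).1 hy
    rw [Subgroup.mem_comap, entryMap_xe hG]
    exact RootBN.Data.X_le_Urad (D := data hG F) hs.1 hs.2 ((mem_rootSubgroup hG s.2).2 ⟨_, rfl⟩)
  have hh0fix : Φ h0 * h0⁻¹ = 1 := by
    have e : Φ h0 * h0⁻¹ = (Φ (X * v))⁻¹ * (Φ b * b⁻¹) * (X * v) := by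
      rw [hbe, map_mul Φ (X * v) h0]; group
    have hU : Φ (X * v) ∈ D.posUnipotent F :=
      (Uge_eq_U hG hf).le (entryMap_mem_Uge hG ((Uge_eq_U hG hf).ge hu0))
    exact Subgroup.mem_bot.1 ((U_inf_H hf hG).le ⟨e ▸ Subgroup.mul_mem _ (Subgroup.mul_mem _
      (Subgroup.inv_mem _ hU) (hUradU hzr)) hu0, Subgroup.mul_mem _ (entryMap_diagonal E hh0) (Subgroup.inv_mem _ hh0)⟩)
  have hc : φ c = c := by
    have h1 : Φ X * Φ v * v⁻¹ * X⁻¹ ∈ RootBN.Data.Urad (data hG F) i := by
      have e : Φ b * b⁻¹ = Φ X * Φ v * (Φ h0 * h0⁻¹) * v⁻¹ * X⁻¹ := by rw [hbe, map_mul, map_mul]; group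
      rwa [e, hh0fix, mul_one] at hzr
    have h2 : x[D.simple i.val, -c] * x[D.simple i.val, φ c] ∈ RootBN.Data.Urad (data hG F) i := by
      have h3 := RootBN.Data.X_conj_Urad ax (hXB (-c)) h1
      have e : x[D.simple i.val, -c] * (Φ X * Φ v * v⁻¹ * X⁻¹) * (x[D.simple i.val, -c])⁻¹ * (Φ v * v⁻¹)⁻¹ =
          x[D.simple i.val, -c] * x[D.simple i.val, φ c] := by
        rw [hX, entryMap_xe hG, ← xe_inv hG (hG.simple_lt i.2)]
        simp only [RingHom.coe_coe]
        group
      exact e ▸ Subgroup.mul_mem _ h3 (Subgroup.inv_mem _ (Subgroup.mul_mem _ hΦv (Subgroup.inv_mem _ hv)))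
    rw [xe_add hG (hG.simple_lt i.2)] at h2
    exact (neg_add_eq_zero.1 (simple_not_mem_Urad E h2)).symm
  set n := ne' hG (D.simple i.val) (1 : F) with hn
  have hnH : n ∈ H := over_ne' E hH.isOver (hG.simple_lt i.2) (map_one φ)
  have hb1 : X⁻¹ * b ∈ H := H.mul_mem (H.inv_mem (over_xe E hH.isOver (hG.simple_lt i.2) hc)) hb
  have hb1B : n * (X⁻¹ * b) * n⁻¹ ∈ D.borelSubgroup F := by
    have e : n * (X⁻¹ * b) * n⁻¹ = (n * v * n⁻¹) * (n * h0 * n⁻¹) := by rw [hbe]; group
    rw [e]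
    refine Subgroup.mul_mem _ (Subgroup.mem_sup_left (hUradU (RootBN.Data.nn_conj_Urad ax hv)))
      (Subgroup.mem_sup_right ?_)
    have hN := RootBN.Data.nw_mem_N (D := data hG F) [i]
    rw [RootBN.Data.nw_cons, RootBN.Data.nw_nil, mul_one] at hN
    exact RootBN.Data.N_conj_H ax hN hh0
  have h2 := twist_mem_T E hH (H.mul_mem (H.mul_mem hnH hb1) (H.inv_mem hnH)) hb1B
  have hXfix : Φ X = X := by rw [hX, entryMap_xe hG]; simp [hc]
  have hnfix : Φ n = n := entryMap_ne'_one E _
  simp only [map_mul, map_inv, hXfix, hnfix] at h2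
  convert h2 using 1
  rw [hz]; group

/-- The part of an overgroup in a proper parabolic subgroup is rational. -/
theorem fixed_of_mem_parabolic (hφ : Descends E.good φ) (hH : SmallOver φ H) {J : Set ℕ}
    (hJ : ∃ i, i < D.rank ∧ i ∉ J) {g : GL D.Idx F} (hg : g ∈ H) (hgP : g ∈ D.parabolicSubgroup F J) :
    Φ g = g := by
  have hz := (twist_mem_U E hH hJ hg hgP).1
  obtain ⟨w, hw, l, hwfix, hmg⟩ := rational_coset E hφ ∅ (hH.le hg)
    (by rw [parabolicSubgroup_empty E]; exact Subgroup.mem_sup_left hz)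
  rw [parabolicSubgroup_empty E] at hmg
  have hmH : w * (data E.good F).nw l ∈ H := H.mul_mem (over_U E hH.isOver hw hwfix) (over_nw E hH.isOver l)
  have h1 := fixed_of_mem_borel E hH (H.mul_mem (H.inv_mem hmH) hg) hmg
  rw [map_mul, map_inv, map_mul, hwfix, entryMap_nw E] at h1
  exact mul_left_cancel h1

variable (p : ℕ) [Fact p.Prime] [CharP F p]

/-- An element normalising a rational `p`-subgroup is rational. -/
theorem fixed_of_normalizes (hφ : Descends E.good φ) (hH : SmallOver φ H) {R : Subgroup (GL D.Idx F)}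
    (hRG : R ≤ D.group F) (hR : IsPGroup p R) (hne : R ≠ ⊥) (hfix : ∀ z ∈ R, Φ z = z)
    {x : GL D.Idx F} (hx : x ∈ H) (hxR : ∀ z ∈ R, x⁻¹ * z * x ∈ R) : Φ x = x := by
  have hG := E.good
  obtain ⟨c, hc, hcR⟩ := exists_conj_unipotent E p φ hH.finite_fixed hRG hR hfix
  obtain ⟨g, hg, J, S, hJ, hgR, htr⟩ :=
    borel_tits_transporter hG E.facts E.corootFact E.negTri E.posForm hc hcR hne
  have h1 : g⁻¹ * x * g ∈ D.parabolicSubgroup F J := htr x (hH.le hx) fun z hz => hgR _ (hxR z hz)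
  have h2 : g⁻¹ * Φ g ∈ D.parabolicSubgroup F J := by
    have := htr (Φ g * g⁻¹) (Subgroup.mul_mem _ (entryMap_mem_group hG hg) (Subgroup.inv_mem _ hg)) fun z hz => by
      have h3 : Φ (g⁻¹ * z * g) ∈ rootGen hG F S := by
        refine (show rootGen hG F S ≤ (rootGen hG F S).comap Φ from ?_) (hgR z hz)
        conv_lhs => rw [rootGen]
        rw [Subgroup.closure_le]
        rintro _ ⟨s, hs, t, rfl⟩
        rw [SetLike.mem_coe, Subgroup.mem_comap, entryMap_xe hG]
        exact xe_mem_rootGen hG hs _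
      rw [map_mul, map_mul, map_inv, hfix z hz] at h3
      simpa [mul_assoc] using h3
    simpa [mul_assoc] using this
  obtain ⟨w, hw, l, hwfix, hmg⟩ := rational_coset E hφ J hg h2
  set m := w * (data E.good F).nw l with hmdef
  have hm : Φ m = m := by rw [hmdef, map_mul, hwfix, entryMap_nw E]
  have hmH : m ∈ H := H.mul_mem (over_U E hH.isOver hw hwfix) (over_nw E hH.isOver l)
  have h4 : m⁻¹ * x * m ∈ D.parabolicSubgroup F J := by
    have := Subgroup.mul_mem _ (Subgroup.mul_mem _ hmg h1) (Subgroup.inv_mem _ hmg)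
    simpa [mul_assoc] using this
  have h5 := fixed_of_mem_parabolic E hφ hH hJ (H.mul_mem (H.mul_mem (H.inv_mem hmH) hx) hmH) h4
  rw [map_mul, map_mul, map_inv, hm] at h5
  exact mul_left_cancel (mul_right_cancel h5)

/-- The highest root element with parameter one. -/
local notation "xα" => x[D.nroots - 1, (1 : F)]

theorem xe_pow (s : ℕ) (hs : s < D.nroots) (t : F) (n : ℕ) : x[s, t] ^ n = x[s, (n : F) * t] := by
  induction n with
  | zero => simp [xe_zero E.good hs]
  | succ n ih => rw [pow_succ, ih, xe_add E.good hs]; congr 1; push_cast; ring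

theorem top_order : orderOf xα = p := by
  refine orderOf_eq_prime ?_ ?_
  · rw [xe_pow E _ (E.top_pos).1, CharP.cast_eq_zero F p, zero_mul, xe_zero E.good (E.top_pos).1]
  · exact xe_ne_one E.good E.facts (E.top_pos).1 one_ne_zero

/-- A rational element of order `p` is not conjugated into the rational part from outside. -/
theorem fixed_of_conj (hφ : Descends E.good φ) (hH : SmallOver φ H) {x g : GL D.Idx F} (hxH : x ∈ H)
    (hx : Φ x = x) (hxo : orderOf x = p) (hg : g ∈ H) (hgx : Φ (g * x * g⁻¹) = g * x * g⁻¹) : Φ g = g := by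
  classical
  have := hH.finite
  set Y : Subgroup ↥H := (MonoidHom.eqLocus Φ (MonoidHom.id _)).comap H.subtype with hY
  have hmemY : ∀ y : ↥H, y ∈ Y ↔ Φ (y : GL D.Idx F) = y := fun y => Iff.rfl
  by_cases hYtop : Y = ⊤
  · exact (hmemY ⟨g, hg⟩).1 (hYtop ▸ Subgroup.mem_top _)
  have hnorm : ∀ Q : Subgroup ↥H, IsPGroup p Q → Q ≤ Y → Q ≠ ⊥ →
      Subgroup.normalizer (Q : Set ↥H) ≤ Y := by
    intro Q hQ hQY hne y hy
    rw [hmemY]
    refine fixed_of_normalizes E p hφ hH (R := Q.map H.subtype) ?_ (hQ.map _) ?_ ?_ y.2 ?_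
    · rintro _ ⟨z, -, rfl⟩; exact hH.le z.2
    · exact fun h => hne ((Subgroup.map_eq_bot_iff_of_injective _ H.subtype_injective).1 h)
    · rintro _ ⟨z, hz, rfl⟩; exact (hmemY z).1 (hQY hz)
    · rintro _ ⟨z, hz, rfl⟩
      exact ⟨y⁻¹ * z * y, (Subgroup.mem_set_normalizer_iff''.1 hy z).1 hz, rfl⟩
  set xH : ↥H := ⟨x, hxH⟩ with hxHd
  have hxHo : orderOf xH = p := by rw [← Subgroup.orderOf_coe]; exact hxo
  have hzp : IsPGroup p (Subgroup.zpowers xH) :=
    IsPGroup.of_card (n := 1) (by rw [Nat.card_zpowers, hxHo, pow_one])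
  obtain ⟨P, hP⟩ := hzp.exists_le_sylow
  have hxne : xH ≠ 1 := fun h => (Fact.out : p.Prime).one_lt.ne (by rw [← hxHo, h, orderOf_one])
  have hPY : (P : Subgroup ↥H) ≤ Y := by
    by_contra hn
    have hQ : Y.subgroupOf (P : Subgroup ↥H) ≠ ⊤ := fun h' => hn (Subgroup.subgroupOf_eq_top.mp h')
    obtain ⟨y, hy, hyY⟩ := SetLike.exists_of_lt (PGroup.lt_normalizer P.2 hQ)
    refine hyY (hnorm ((P : Subgroup ↥H) ⊓ Y) (P.2.to_le inf_le_left) inf_le_right (fun h => hxne ?_)
      (x := (y : ↥H)) ?_)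
    · have : xH ∈ (P : Subgroup ↥H) ⊓ Y := ⟨hP (Subgroup.mem_zpowers _), hx⟩
      rwa [h, Subgroup.mem_bot] at this
    rw [Subgroup.mem_normalizer_iff]
    intro z
    constructor
    · rintro ⟨hzP, hzY⟩
      exact ⟨Subgroup.mul_mem _ (Subgroup.mul_mem _ y.2 hzP) (Subgroup.inv_mem _ y.2),
        (Subgroup.mem_normalizer_iff.1 hy ⟨z, hzP⟩).1 hzY⟩
    · rintro ⟨hzP, hzY⟩
      have hz' : z ∈ (P : Subgroup ↥H) := by
        have := Subgroup.mul_mem _ (Subgroup.mul_mem _ (Subgroup.inv_mem _ y.2) hzP) y.2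
        simpa [mul_assoc] using this
      exact ⟨hz', (Subgroup.mem_normalizer_iff.1 hy ⟨z, hz'⟩).2 hzY⟩
  have hemb : Cfsg.IsStronglyPEmbedded p Y := StronglyEmbedded.intro_of_normalizer
    (hxHo ▸ orderOf_dvd_natCard xH) hYtop P fun Q hQP hne => hnorm Q (P.2.to_le hQP) (hQP.trans hPY) hne
  exact (hmemY ⟨g, hg⟩).1 (StronglyEmbedded.mem_of_conj hemb (g := ⟨g, hg⟩) hxHo hx hgx)

end Cfsg.Agent.Chev.Subfield
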