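/-
Conjugates of the highest root element outside the rational part are opposite to it.
-/
import Cfsg.Agent.Lib.Chev.Subfield.Embedded

set_option autoImplicit false

namespace Cfsg.Agent.Chev.Subfield

open Cfsg.Lie
open Cfsg.Agent.Chev.BNSetup

variable {F : Type*} [Field F] {D : ChevalleyDatum} (E : Env D)
include E
variable {φ : F ≃+* F} {H : Subgroup (GL D.Idx F)}

local notation "x[" r "," t "]" => xe (Env.good E) r t
local notation "Φ" => entryMap D (φ : F →+* F)

theorem wl_mem_long (l : List (Fin D.rank)) {a : Fin D.nroots} (ha : a.val ∈ E.L) :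
    ((data E.good F).wl l a).val ∈ E.L := by
  induction l with
  | nil => simpa using ha
  | cons i l ih =>
    rw [RootBN.Data.wl_cons, Equiv.Perm.mul_apply, data_refl]
    exact (E.long.2 _ ih).2 i.val i.2

theorem commute_top {u : GL D.Idx F} (hu : u ∈ D.posUnipotent F) (t : F) :
    Commute u x[D.nroots - 1, t] := by
  have hG := E.good
  obtain ⟨h1, h2⟩ := E.top_pos
  have h := commutator_xe_mem_Uge hG E.facts h1 h2 t hu
  rw [Uge_top hG (by omega), Subgroup.mem_bot, mul_inv_eq_one, mul_inv_eq_iff_eq_mul] at h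
  exact h

theorem exists_conj_top {g : GL D.Idx F} (hg : g ∈ D.group F) :
    ∃ u ∈ D.posUnipotent F, ∃ b ∈ E.L, ∃ c : F, c ≠ 0 ∧ b < D.nroots ∧
      g * x[D.nroots - 1, (1 : F)] * g⁻¹ = u * x[b, c] * u⁻¹ := by
  have hG := E.good
  have ax := axioms (F := F) hG E.facts
  obtain ⟨h1, h2⟩ := E.top_pos
  obtain ⟨b, hb, l, v, hv, rfl⟩ :=
    RootBN.Data.exists_normal_form ax (by rwa [data_grp hG] : g ∈ (data hG F).grp)
  rw [data_B hG E.facts] at hb
  obtain ⟨u0, hu0, h0, hh0, rfl⟩ := borel_decomp hG E.facts hb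
  have hvU : v ∈ D.posUnipotent F := (data_U hG E.facts).le (RootBN.Data.Um_le_U _ hv)
  obtain ⟨η, hη, hx⟩ := nw_conj_xe E (F := F) l ⟨D.nroots - 1, h1⟩
  set b : Fin D.nroots := (data hG F).wl l ⟨D.nroots - 1, h1⟩ with hbdef
  obtain ⟨χ, hχ, hh⟩ := H_conj_xe E hh0 b.2
  refine ⟨u0, hu0, b.val, wl_mem_long E l E.long.1, χ * (η * 1), by simp [hχ, hη], b.2, ?_⟩
  rw [← hh, ← hx]
  calc u0 * h0 * (data hG F).nw l * v * x[D.nroots - 1, (1 : F)] * (u0 * h0 * (data hG F).nw l * v)⁻¹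
      = u0 * h0 * (data hG F).nw l * (v * x[D.nroots - 1, (1 : F)] * v⁻¹) * ((data hG F).nw l)⁻¹ * h0⁻¹ * u0⁻¹ := by
        group
    _ = _ := by rw [(commute_top E hvU 1).eq, mul_inv_cancel_right]; group

theorem neg_conj_not_mem {u : GL D.Idx F} (hu : u ∈ D.posUnipotent F) {b : ℕ} (hb : b < D.nroots)
    (hb' : b < D.nroots / 2) {c : F} (h : u * x[b, c] * u⁻¹ ∈ D.borelSubgroup F) : c = 0 := by
  have huB : u ∈ D.borelSubgroup F := Subgroup.mem_sup_left hu
  refine neg_inf_borel E.good E.facts hb hb' ?_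
  have := Subgroup.mul_mem _ (Subgroup.mul_mem _ (Subgroup.inv_mem _ huB) h) huB
  simpa [mul_assoc] using this

theorem top_fixed : Φ x[D.nroots - 1, (1 : F)] = x[D.nroots - 1, 1] := entryMap_xe_one E _

theorem top_mem (hH : SmallOver φ H) : x[D.nroots - 1, (1 : F)] ∈ H :=
  over_xe E hH.isOver E.top_pos.1 (map_one φ)

variable (p : ℕ) [Fact p.Prime] [CharP F p]
include p

/-- Outside the rational part, the conjugates of the highest root element are opposite to it. -/
theorem conj_top_root (hφ : Descends E.good φ) (hH : SmallOver φ H) {g : GL D.Idx F} (hg : g ∈ H)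
    (hgn : Φ g ≠ g) {u : GL D.Idx F} (hu : u ∈ D.posUnipotent F) {b : ℕ} (hbL : b ∈ E.L) {c : F} (hc : c ≠ 0)
    (hy : g * x[D.nroots - 1, (1 : F)] * g⁻¹ = u * x[b, c] * u⁻¹) : b = D.neg (D.nroots - 1) := by
  classical
  have hG := E.good
  have hf := E.facts
  obtain ⟨h1, h2⟩ := E.top_pos
  set X := x[D.nroots - 1, (1 : F)] with hX
  have hXH : X ∈ H := top_mem E hH
  have hb := (E.long.2 b hbL).1
  set y := g * X * g⁻¹ with hyd
  have hyH : y ∈ H := H.mul_mem (H.mul_mem hg hXH) (H.inv_mem hg)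
  have hyn : Φ y ≠ y := fun h => hgn (fixed_of_conj E p hφ hH hXH (top_fixed E) (top_order E p) hg h)
  have hneg : b < D.nroots / 2 := by
    by_contra hp
    rw [not_lt] at hp
    refine hyn (hH.unip y hyH ?_)
    rw [hy]
    exact Subgroup.mul_mem _ (Subgroup.mul_mem _ hu
      (Subgroup.subset_closure ⟨b, c, (pos_iff hf hb).2 hp, rfl⟩)) (Subgroup.inv_mem _ hu)
  by_contra hne
  have hopp := E.opp b hbL hneg hne
  set K : Subgroup (GL D.Idx F) := D.posUnipotent F ⊓ Subgroup.centralizer {x[b, c]} with hK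
  have hword : ∀ L : List (ℕ × ℤ × ℕ × ℕ), (∀ z ∈ L, z ∈ D.commTerms (D.nroots - 1) b) →
      ∃ z ∈ K, (z : Matrix D.Idx D.Idx F) = D.wordMat F
        (L.map fun d => (d.1, (d.2.1 : F) * (-(1 : F)) ^ d.2.2.1 * c ^ d.2.2.2)) := by
    intro L
    induction L with
    | nil => intro _; exact ⟨1, Subgroup.one_mem _, by simp [ChevalleyDatum.wordMat]⟩
    | cons d L ih =>
      intro hd
      obtain ⟨z, hz, he⟩ := ih fun w hw => hd w (List.mem_cons_of_mem _ hw)
      have hdm := hd d List.mem_cons_self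
      obtain ⟨hd1, hd2, hd3⟩ := hopp d hdm
      have hdlt : d.1 < D.nroots := hG.commTerms_lt h1 hb hdm
      refine ⟨x[d.1, (d.2.1 : F) * (-(1 : F)) ^ d.2.2.1 * c ^ d.2.2.2] * z, K.mul_mem
        ⟨Subgroup.subset_closure ⟨d.1, _, (pos_iff hf hdlt).2 hd1, rfl⟩,
          Subgroup.mem_centralizer_singleton_iff.2 ?_⟩ hz, by simp [ChevalleyDatum.wordMat, coe_xe, he]⟩
      have h := hG.comm_formula (F := F) hdlt hb (by omega)
        (fun e : b = D.neg d.1 => hd2 (by rw [e, hG.neg_neg hdlt]))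
        ((d.2.1 : F) * (-(1 : F)) ^ d.2.2.1 * c ^ d.2.2.2) c
      simp only [ChevalleyDatum.commWord, hd3, List.map_nil, ChevalleyDatum.wordMat, List.prod_nil, mul_one] at h
      exact (Units.ext (by simp only [Units.val_mul, coe_xe]; exact h.symm))
  obtain ⟨z, hz, hze⟩ := hword _ fun d hd => hd
  have e1 : x[b, c] * X = X * x[b, c] * z := by
    have h := hG.comm_formula (F := F) h1 hb (by omega) hne 1 c
    exact Units.ext (by simp only [hX, Units.val_mul, coe_xe, h, hze]; rfl)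
  set w := u * z * u⁻¹ with hw
  have hwU : w ∈ D.posUnipotent F := Subgroup.mul_mem _ (Subgroup.mul_mem _ hu hz.1) (Subgroup.inv_mem _ hu)
  have huX := commute_top E hu (1 : F)
  have hXu : u * X * u⁻¹ = X := by rw [huX.eq, mul_inv_cancel_right]
  have e2 : y * X = X * y * w := by
    calc y * X = u * x[b, c] * u⁻¹ * (u * X * u⁻¹) := by rw [hy, hXu]
      _ = u * (x[b, c] * X) * u⁻¹ := by group
      _ = (u * X * u⁻¹) * (u * x[b, c] * u⁻¹) * w := by rw [e1, hw]; group
      _ = _ := by rw [hy, hXu]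
  have hwH : w ∈ H := by
    have : w = (X * y)⁻¹ * (y * X) := by rw [e2]; group
    rw [this]
    exact H.mul_mem (H.inv_mem (H.mul_mem hXH hyH)) (H.mul_mem hyH hXH)
  have hwfix := hH.unip w hwH hwU
  have hwy : y * w * y⁻¹ = w := by
    have hzc : z * x[b, c] = x[b, c] * z := (Subgroup.mem_centralizer_singleton_iff.1 hz.2)
    rw [hy, hw]
    calc u * x[b, c] * u⁻¹ * (u * z * u⁻¹) * (u * x[b, c] * u⁻¹)⁻¹
        = u * (x[b, c] * z) * (x[b, c])⁻¹ * u⁻¹ := by group
      _ = _ := by rw [← hzc]; group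
  by_cases hw1 : w = 1
  · rw [hw1, mul_one] at e2
    exact hyn (fixed_of_conj E p hφ hH hXH (top_fixed E) (top_order E p) hyH
      (by rw [e2, mul_inv_cancel_right]; exact top_fixed E))
  obtain ⟨m, hm⟩ := posUnipotent_pow_eq_one E p hwU
  obtain ⟨n, -, hn⟩ := (Nat.dvd_prime_pow (Fact.out : p.Prime)).1 (orderOf_dvd_of_pow_eq_one hm)
  rcases n with _ | n
  · exact hw1 (orderOf_eq_one_iff.1 (by simpa using hn))
  have hwo : orderOf (w ^ p ^ n) = p := by
    rw [orderOf_pow_of_dvd (pow_ne_zero _ (Fact.out : p.Prime).ne_zero) (hn ▸ pow_dvd_pow p (Nat.le_succ n)), hn,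
      Nat.pow_div (Nat.le_succ n) (Fact.out : p.Prime).pos]
    simp
  refine hyn (fixed_of_conj E p hφ hH (H.pow_mem hwH _) (by rw [map_pow, hwfix]) hwo hyH ?_)
  rw [← conj_pow, hwy, map_pow, hwfix]

end Cfsg.Agent.Chev.Subfield
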