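/-
The unipotent radicals of the minimal parabolic subgroups; minus one in a root SL₂ from two opposite elements.
-/
import Cfsg.Agent.Lib.Chev.Subfield.TopConj
import Cfsg.Agent.Lib.PSL2.LowerUpper
import Cfsg.Agent.Lib.Chev.SL2
import Cfsg.Agent.Lib.Chev.AutRigid
import Mathlib.FieldTheory.IntermediateField.Adjoin.Algebra
import Mathlib.Algebra.Algebra.ZMod

set_option autoImplicit false

namespace Cfsg.Agent.PSL2

open Matrix
open scoped MatrixGroups

/-- Two opposite non-trivial transvections generate a group containing `-1`, in odd characteristic. -/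
theorem neg_one_mem_of_uu_ll_finite {F : Type*} [Field F] [Fintype F] (p : ℕ) [Fact p.Prime] [CharP F p] (hp : p ≠ 2)
    {H : Subgroup SL(2, F)} {a b : F} (ha : a ≠ 0) (hb : b ≠ 0) (huu : uu a ∈ H) (hll : ll b ∈ H) :
    (-1 : SL(2, F)) ∈ H := by
  classical
  have h2 : (2 : F) ≠ 0 := two_ne_zero_of_charP hp
  have hS : 1 < Nat.card (Sylow p H) := by
    by_contra hle
    have : Subsingleton (Sylow p H) := Finite.card_le_one_iff_subsingleton.1 (by omega)
    obtain ⟨P⟩ : Nonempty (Sylow p H) := inferInstance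
    have hmem : ∀ g : H, g ^ p = 1 → g ∈ (P : Subgroup H) := by
      intro g hg
      have hQ : IsPGroup p (Subgroup.zpowers g) := by
        rintro ⟨z, k, rfl⟩
        exact ⟨1, Subtype.ext (by
          rw [pow_one, Subgroup.coe_pow, ← zpow_natCast, ← _root_.zpow_mul, mul_comm,
            _root_.zpow_mul, zpow_natCast, hg, _root_.one_zpow]; rfl)⟩
      obtain ⟨Q, hQle⟩ := hQ.exists_le_sylow
      rw [Subsingleton.elim Q P] at hQle
      exact hQle (Subgroup.mem_zpowers g)
    obtain ⟨k, hk⟩ := P.isPGroup' ⟨(⟨uu a, huu⟩ : H) * ⟨ll b, hll⟩, (P : Subgroup H).mul_mem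
      (hmem _ (Subtype.ext (by simp [uu_pow])))
      (hmem _ (Subtype.ext (by simp [ll_pow])))⟩
    have hk' : (uu a * ll b) ^ p ^ k = 1 := by
      simpa using congrArg (fun x : (P : Subgroup H) => ((x : H) : SL(2, F))) hk
    obtain ⟨c, s, hcs⟩ := exists_conj_uu_of_pow_ppow p hk'
    have := congrArg tr hcs
    rw [tr_conj, tr_uu, tr_def, mul00, mul11] at this
    simp at this
    exact mul_ne_zero ha hb (by linear_combination this)
  obtain ⟨K, hK, ⟨e⟩⟩ := exists_subgroup_mulEquiv hp H hS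
  have h2p : (2 : ZMod p) ≠ 0 := two_ne_zero_of_charP hp
  have h : ((e.symm (-1) : K) : SL(2, F)) = -1 := by
    refine (eq_pm_of_mul_self_eq_one h2 ?_).resolve_left fun h => ?_
    · rw [← Subgroup.coe_mul, ← map_mul]; simp
    · exact neg_one_ne_one h2p
        (e.symm.injective ((Subtype.ext h).trans (map_one e.symm).symm))
  exact h ▸ hK (e.symm (-1)).2

/-- The polynomials giving the powers of a matrix of determinant one from its trace. -/
noncomputable def trPow (R : Type*) [CommRing R] : ℕ → Polynomial R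
  | 0 => 1
  | 1 => Polynomial.X
  | (n + 2) => Polynomial.X * trPow R (n + 1) - trPow R n

theorem trPow_monic (R : Type*) [CommRing R] [Nontrivial R] :
    ∀ n, (trPow R n).Monic ∧ (trPow R n).degree = (n : WithBot ℕ)
  | 0 => ⟨Polynomial.monic_one, by simp [trPow]⟩
  | 1 => ⟨Polynomial.monic_X, by simp [trPow]⟩
  | (n + 2) => by
    obtain ⟨h1, h2⟩ := trPow_monic R n
    obtain ⟨h3, h4⟩ := trPow_monic R (n + 1)
    have hlt : (trPow R n).degree < (Polynomial.X * trPow R (n + 1)).degree := by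
      rw [h3.degree_mul, h4, Polynomial.degree_X, h2]
      norm_cast
      omega
    refine ⟨(Polynomial.monic_X.mul h3).sub_of_left hlt, ?_⟩
    show (Polynomial.X * trPow R (n + 1) - trPow R n).degree = _
    rw [Polynomial.degree_sub_eq_left_of_degree_lt hlt, h3.degree_mul, h4, Polynomial.degree_X]
    norm_cast
    omega

/-- A lower left entry vanishing in a power makes the trace algebraic over the prime field. -/
theorem isIntegral_of_pow_entry {F : Type*} [Field F] (p : ℕ) [Fact p.Prime] [CharP F p] [Algebra (ZMod p) F]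
    {c : F} (hc : c ≠ 0) {N : ℕ} (hN : N ≠ 0)
    (h : ((uu 1 * ll c) ^ N : SL(2, F)) 1 0 = 0) : IsIntegral (ZMod p) (2 + c) := by
  obtain ⟨m, rfl⟩ := Nat.exists_eq_succ_of_ne_zero hN
  set A : Matrix (Fin 2) (Fin 2) F := ((uu 1 * ll c : SL(2, F)) : Matrix (Fin 2) (Fin 2) F) with hA
  have e00 : A 0 0 = 1 + c := by simp [hA, Matrix.mul_apply, Fin.sum_univ_two]
  have e10 : A 1 0 = c := by simp [hA, Matrix.mul_apply, Fin.sum_univ_two]
  have e11 : A 1 1 = 1 := by simp [hA, Matrix.mul_apply, Fin.sum_univ_two]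
  have e01 : A 0 1 = 1 := by simp [hA, Matrix.mul_apply, Fin.sum_univ_two]
  have hsq : A * A = (2 + c) • A - 1 := by
    ext i j
    fin_cases i <;> fin_cases j <;> simp [Matrix.mul_apply, Fin.sum_univ_two, e00, e10, e11, e01] <;> ring
  have key : ∀ n, (A ^ (n + 1)) 1 0 = c * Polynomial.aeval (2 + c) (trPow (ZMod p) n) ∧
      (A ^ (n + 2)) 1 0 = c * Polynomial.aeval (2 + c) (trPow (ZMod p) (n + 1)) := by
    intro n
    induction n with
    | zero =>
      refine ⟨by simp [trPow, e10], ?_⟩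
      rw [pow_two, hsq]
      simp [trPow, e10, mul_comm]
    | succ n ih =>
      refine ⟨ih.2, ?_⟩
      have e : A ^ (n + 1 + 2) = (2 + c) • A ^ (n + 2) - A ^ (n + 1) := by
        calc A ^ (n + 1 + 2) = A ^ (n + 1) * (A * A) := by rw [← pow_two, ← pow_add]
          _ = _ := by rw [hsq, mul_sub, mul_one, Matrix.mul_smul, ← pow_succ]
      rw [e, Matrix.sub_apply, Matrix.smul_apply, smul_eq_mul, ih.1, ih.2]
      simp only [trPow, map_sub, map_mul, Polynomial.aeval_X]
      ring
  refine ⟨trPow (ZMod p) m, (trPow_monic _ m).1, ?_⟩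
  have h1 : (A ^ (m + 1)) 1 0 = 0 := by
    rw [hA, ← Matrix.SpecialLinearGroup.coe_pow]; exact h
  rw [(key m).1] at h1
  exact (mul_eq_zero.1 h1).resolve_left hc

/-- Two opposite non-trivial transvections, the product of which has finite order up to the upper triangle,
generate a group containing `-1`, in odd characteristic. -/
theorem neg_one_mem_of_uu_ll {F : Type*} [Field F] (p : ℕ) [Fact p.Prime] [CharP F p] (hp : p ≠ 2)
    {H : Subgroup SL(2, F)} {c : F} (hc : c ≠ 0) (huu : uu 1 ∈ H) (hll : ll c ∈ H)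
    {N : ℕ} (hN : N ≠ 0) (h : ((uu 1 * ll c) ^ N : SL(2, F)) 1 0 = 0) : (-1 : SL(2, F)) ∈ H := by
  letI : Algebra (ZMod p) F := ZMod.algebra F p
  have h2 := isIntegral_of_pow_entry p hc hN h
  have hci : IsIntegral (ZMod p) c := by
    have h3 := h2.sub (isIntegral_algebraMap (R := ZMod p) (A := F) (x := (2 : ZMod p)))
    simpa [map_ofNat] using h3
  let K := IntermediateField.adjoin (ZMod p) ({c} : Set F)
  have : FiniteDimensional (ZMod p) K := IntermediateField.adjoin.finiteDimensional hci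
  have : Finite K := Module.finite_of_finite (ZMod p)
  letI : Fintype K := Fintype.ofFinite K
  have : CharP K p := charP_of_injective_algebraMap (algebraMap (ZMod p) K).injective p
  set f := Matrix.SpecialLinearGroup.map (n := Fin 2) (algebraMap K F) with hf
  have hu : ∀ t : K, f (uu t) = uu (t : F) := fun t => by
    apply Subtype.ext; ext i j; fin_cases i <;> fin_cases j <;> simp [hf]
  have hl : ∀ t : K, f (ll t) = ll (t : F) := fun t => by
    apply Subtype.ext; ext i j; fin_cases i <;> fin_cases j <;> simp [hf]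
  have hcK : c ∈ K := IntermediateField.mem_adjoin_simple_self (ZMod p) c
  have hm := neg_one_mem_of_uu_ll_finite p hp (H := H.comap f) (a := (1 : K)) (b := ⟨c, hcK⟩) one_ne_zero
    (fun h0 => hc (congrArg Subtype.val h0)) (by rw [Subgroup.mem_comap, hu]; simpa using huu)
    (by rw [Subgroup.mem_comap, hl]; exact hll)
  rw [Subgroup.mem_comap] at hm
  have e : f (-1) = -1 := by
    apply Subtype.ext; ext i j; fin_cases i <;> fin_cases j <;> simp [hf]
  rwa [e] at hm

end Cfsg.Agent.PSL2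

namespace Cfsg.Agent.Chev.Subfield

open Cfsg.Lie
open Cfsg.Agent.Chev.BNSetup

variable {F : Type*} [Field F] {D : ChevalleyDatum} (E : Env D)
include E

local notation "x[" r "," t "]" => xe (Env.good E) r t
local notation "Urad[" i "]" => RootBN.Data.Urad (data (Env.good E) F) i

theorem xe_mem_Urad {i : Fin D.rank} {s : ℕ} (hs : s < D.nroots) (hs' : D.nroots / 2 ≤ s)
    (hne : s ≠ D.simple i.val) (t : F) : x[s, t] ∈ Urad[i] :=
  RootBN.Data.X_le_Urad (D := data E.good F) (r := (⟨s, hs⟩ : Fin D.nroots)) hs'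
    (fun e => hne (congrArg Fin.val e)) ((mem_rootSubgroup E.good hs).2 ⟨t, rfl⟩)

theorem Urad_conj {i : Fin D.rank} {u w : GL D.Idx F} (hu : u ∈ D.posUnipotent F) (hw : w ∈ Urad[i]) :
    u * w * u⁻¹ ∈ Urad[i] := by
  have ax := axioms (F := F) E.good E.facts
  obtain ⟨y, hy, v, hv, rfl⟩ := RootBN.Data.U_eq_mul ax i ((data_U E.good E.facts).ge hu)
  have h := RootBN.Data.X_conj_Urad ax hy (Subgroup.mul_mem _ (Subgroup.mul_mem _ hv hw) (Subgroup.inv_mem _ hv))
  simpa [mul_assoc] using h

/-- An element of the kernel of a root SL₂ has no lower left entry. -/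
theorem sl2_entry_of_map_one {ψ : Matrix.SpecialLinearGroup (Fin 2) F →* GL D.Idx F}
    (hu : ∀ t, ψ (PSL2.uu t) = x[D.nroots - 1, t]) (hl : ∀ t, ψ (PSL2.ll t) = x[D.neg (D.nroots - 1), t])
    {g : Matrix.SpecialLinearGroup (Fin 2) F} (hg : ψ g = 1) : g 1 0 = 0 := by
  by_contra hne
  obtain ⟨h1, h2⟩ := E.top_pos
  set a := g 0 0 with ha
  set b := g 0 1 with hb
  set c := g 1 0 with hc
  set d := g 1 1 with hd
  have hdet : a * d - b * c = 1 := by
    rw [ha, hb, hc, hd, ← Matrix.det_fin_two]; exact g.2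
  have e : g = PSL2.uu ((a - 1) / c) * PSL2.ll c * PSL2.uu ((d - 1) / c) := by
    apply Subtype.ext
    ext i j
    fin_cases i <;> fin_cases j <;>
      simp [Matrix.mul_apply, Fin.sum_univ_two, ← ha, ← hb, ← hc, ← hd] <;> field_simp <;>
      first | ring1 | linear_combination (-hdet) | linear_combination hdet
  rw [e, map_mul, map_mul, hu, hu, hl] at hg
  have h3 : x[D.neg (D.nroots - 1), c] ∈ D.borelSubgroup F := by
    have h4 : x[D.neg (D.nroots - 1), c] =
        (x[D.nroots - 1, (a - 1) / c])⁻¹ * (x[D.nroots - 1, (d - 1) / c])⁻¹ := by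
      rw [eq_inv_mul_iff_mul_eq, eq_inv_iff_mul_eq_one]
      exact hg
    rw [h4]
    exact Subgroup.mul_mem _ (Subgroup.inv_mem _ (xe_mem_borelSubgroup E h1 h2 _))
      (Subgroup.inv_mem _ (xe_mem_borelSubgroup E h1 h2 _))
  refine hne (neg_inf_borel E.good E.facts (E.good.neg_lt h1) ?_ h3)
  rw [neg_eq E.facts h1]
  have := E.facts.1
  omega

/-- The homomorphism from SL₂ of the highest root and the image of minus one. -/
theorem top_sl2 : ∃ ψ : Matrix.SpecialLinearGroup (Fin 2) F →* GL D.Idx F,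
    (∀ t, ψ (PSL2.uu t) = x[D.nroots - 1, t]) ∧ (∀ t, ψ (PSL2.ll t) = x[D.neg (D.nroots - 1), t]) ∧
    ψ (-1) = ne' E.good (D.nroots - 1) 1 * ne' E.good (D.nroots - 1) 1 ∧
    ∀ s < D.nroots, ∀ t : F, ψ (-1) * x[s, t] * (ψ (-1))⁻¹ = x[s, (-1 : F) ^ ((List.range D.rank).map fun j =>
      (D.coroot.getD (D.nroots - 1) #[]).getD j 0 * D.cartan j s).sum * t] := by
  have hG := E.good
  obtain ⟨h1, h2⟩ := E.top_pos
  obtain ⟨ψ, hu, hl⟩ := hG.exists_sl2_hom (F := F) h1
  have eu : ∀ t : F, (PSL2.uu t : Matrix.SpecialLinearGroup (Fin 2) F) = upperSL t := fun t => Subtype.ext rfl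
  have el : ∀ t : F, (PSL2.ll t : Matrix.SpecialLinearGroup (Fin 2) F) = lowerSL t := fun t => Subtype.ext rfl
  have hflip : ψ flipSL = ne' hG (D.nroots - 1) 1 := by
    have e : (flipSL : Matrix.SpecialLinearGroup (Fin 2) F) = upperSL 1 * lowerSL (-1) * upperSL 1 := by
      apply Subtype.ext
      simp only [Matrix.SpecialLinearGroup.coe_mul]
      ext i j
      fin_cases i <;> fin_cases j <;>
        simp [coe_lowerSL, coe_upperSL, coe_flipSL, Matrix.mul_apply, Fin.sum_univ_two]
    rw [e, map_mul, map_mul, hu, hl]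
    simp only [ne', ← xe_eq_xg hG, inv_one]
  have hm : (-1 : Matrix.SpecialLinearGroup (Fin 2) F) = flipSL * flipSL := by
    apply Subtype.ext
    simp only [Matrix.SpecialLinearGroup.coe_mul, Matrix.SpecialLinearGroup.coe_neg, Matrix.SpecialLinearGroup.coe_one]
    ext i j
    fin_cases i <;> fin_cases j <;> simp [coe_flipSL, Matrix.mul_apply, Fin.sum_univ_two]
  refine ⟨ψ, fun t => by rw [eu, hu, xe_eq_xg hG], fun t => by rw [el, hl, xe_eq_xg hG],
    by rw [hm, map_mul, hflip], fun s hs t => ?_⟩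
  have h0 : ψ (-1) = Cfsg.Agent.Chev.hG D F (D.nroots - 1) (-1) := by
    refine Units.ext ?_
    rw [hm, map_mul, hflip, hG.coe_hG_eq h1 (neg_ne_zero.2 one_ne_zero), Units.val_mul, coe_ne',
      ← hG.coe_nG, ← Units.val_mul, hG.nG_mul_nG h1 one_ne_zero one_ne_zero]
    simp
  rw [h0, hG.hG_eq_prod h1 (neg_ne_zero.2 one_ne_zero)]
  have key : ∀ L : List ℕ, (∀ j ∈ L, j < D.rank) →
      (L.map fun j => Cfsg.Agent.Chev.hG D F (D.simple j) ((-1 : F) ^ (D.coroot.getD (D.nroots - 1) #[]).getD j 0)).prod *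
        xg D F s t = xg D F s ((-1 : F) ^ (L.map fun j =>
          (D.coroot.getD (D.nroots - 1) #[]).getD j 0 * D.cartan j s).sum * t) *
        (L.map fun j => Cfsg.Agent.Chev.hG D F (D.simple j) ((-1 : F) ^ (D.coroot.getD (D.nroots - 1) #[]).getD j 0)).prod := by
    intro L hL
    induction L with
    | nil => simp
    | cons j L ih =>
      rw [List.map_cons, List.prod_cons, mul_assoc, ih fun k hk => hL k (List.mem_cons_of_mem _ hk), ← mul_assoc,
        hG.hG_mul_xg (hL j List.mem_cons_self) hs (zpow_ne_zero _ (neg_ne_zero.2 one_ne_zero)), mul_assoc]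
      congr 2
      rw [List.map_cons, List.sum_cons, zpow_add₀ (neg_ne_zero.2 one_ne_zero), _root_.zpow_mul, mul_assoc]
  rw [xe_eq_xg hG, xe_eq_xg hG, key _ (fun j hj => List.mem_range.1 hj), mul_inv_cancel_right]

end Cfsg.Agent.Chev.Subfield
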