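/-
An overgroup of the subfield subgroup with rational part in `U` is the subfield subgroup.
-/
import Cfsg.Agent.Lib.Chev.Subfield.RootSL

set_option autoImplicit false

namespace Cfsg.Agent.Chev.Subfield

open Cfsg.Lie
open Cfsg.Agent.Chev.BNSetup

variable {F : Type*} [Field F] {D : ChevalleyDatum} (E : Env D)
include E
variable {φ : F ≃+* F} {H : Subgroup (GL D.Idx F)}

local notation "x[" r "," t "]" => xe (Env.good E) r t
local notation "Φ" => entryMap D (φ : F →+* F)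
local notation "Urad[" i "]" => RootBN.Data.Urad (data (Env.good E) F) i

/-- The involution of fundamental root elements. -/
theorem exists_unip_involution [CharP F 2] :
    ∃ z : GL D.Idx F, z ∈ D.posUnipotent F ∧ Φ z = z ∧ orderOf z = 2 ∧
      ∃ a b : Fin D.rank, z ∉ Urad[a] ∧ z ∉ Urad[b] ∧
        ((a = b ∧ D.simple a.val ∉ E.L) ∨ D.simple a.val ≠ D.simple b.val) := by
  have hG := E.good
  obtain ⟨ha, hb, h⟩ := E.invol
  have hsl : ∀ i : Fin D.rank, D.simple i.val < D.nroots ∧ D.nroots / 2 ≤ D.simple i.val := fun i =>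
    ⟨hG.simple_lt i.2, (E.facts.2.2.2.2.1 i.val i.2).2.1⟩
  have hXU : ∀ i : Fin D.rank, x[D.simple i.val, (1 : F)] ∈ D.posUnipotent F := fun i =>
    Subgroup.subset_closure ⟨_, 1, (pos_iff E.facts (hsl i).1).2 (hsl i).2, rfl⟩
  have hsq : ∀ i : Fin D.rank, x[D.simple i.val, (1 : F)] * x[D.simple i.val, 1] = 1 := fun i => by
    rw [xe_add hG (hsl i).1, CharTwo.add_self_eq_zero, xe_zero hG (hsl i).1]
  set A : Fin D.rank := ⟨E.ia, ha⟩ with hA
  set B : Fin D.rank := ⟨E.ib, hb⟩ with hB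
  have hself : ∀ i : Fin D.rank, x[D.simple i.val, (1 : F)] ∉ Urad[i] := fun i h =>
    one_ne_zero (simple_not_mem_Urad E h)
  rcases h with ⟨-, hL⟩ | ⟨hne, hne', hcomm⟩
  · refine ⟨x[D.simple A.val, (1 : F)], hXU A, entryMap_xe_one E _, ?_, A, A, hself A, hself A, Or.inl ⟨rfl, hL⟩⟩
    exact orderOf_eq_prime (by rw [pow_two, hsq]) (xe_ne_one hG E.facts (hsl A).1 one_ne_zero)
  · have hc : x[D.simple B.val, (1 : F)] * x[D.simple A.val, 1] = x[D.simple A.val, 1] * x[D.simple B.val, 1] := by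
      have h := hG.comm_formula (F := F) (hsl A).1 (hsl B).1 (Ne.symm hne) hne' 1 1
      simp only [ChevalleyDatum.commWord, hA, hB, hcomm, List.map_nil, ChevalleyDatum.wordMat, List.prod_nil,
        mul_one] at h
      exact Units.ext (by simp only [Units.val_mul, coe_xe]; exact h)
    set za := x[D.simple A.val, (1 : F)] with hza
    set zb := x[D.simple B.val, (1 : F)] with hzb
    have hzbA : zb ∈ Urad[A] := xe_mem_Urad E (hsl B).1 (hsl B).2 (Ne.symm hne) 1
    have hzaB : za ∈ Urad[B] := xe_mem_Urad E (hsl A).1 (hsl A).2 hne 1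
    have hnA : za * zb ∉ Urad[A] := fun h => hself A ((Subgroup.mul_mem_cancel_right _ hzbA).1 h)
    have hnB : za * zb ∉ Urad[B] := fun h => hself B ((Subgroup.mul_mem_cancel_left _ hzaB).1 h)
    refine ⟨za * zb, Subgroup.mul_mem _ (hXU A) (hXU B), ?_, ?_, A, B, hnA, hnB, Or.inr hne⟩
    · rw [map_mul, hza, hzb, entryMap_xe_one E, entryMap_xe_one E]
    · refine orderOf_eq_prime ?_ fun h => hnA (h ▸ Subgroup.one_mem _)
      rw [pow_two, mul_assoc, ← mul_assoc zb, hc, mul_assoc za zb zb, hzb, hsq, mul_one]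
      exact hsq A

/-- The even case. -/
theorem fixed_of_smallOver_two [CharP F 2] (hφ : Descends E.good φ) (hH : SmallOver φ H) {g : GL D.Idx F}
    (hg : g ∈ H) : Φ g = g := by
  have : Fact (Nat.Prime 2) := ⟨Nat.prime_two⟩
  have := hH.finite
  by_contra hgn
  have hG := E.good
  set X := x[D.nroots - 1, (1 : F)] with hX
  have hXH : X ∈ H := top_mem E hH
  set y := g * X * g⁻¹ with hyd
  have hyH : y ∈ H := H.mul_mem (H.mul_mem hg hXH) (H.inv_mem hg)
  have hyn : Φ y ≠ y := fun h => hgn (fixed_of_conj E 2 hφ hH hXH (top_fixed E) (top_order E 2) hg h)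
  have hy2 : y * y = 1 := by
    have := pow_orderOf_eq_one X
    rw [top_order E 2, pow_two] at this
    rw [hyd, show g * X * g⁻¹ * (g * X * g⁻¹) = g * (X * X) * g⁻¹ by group, this, mul_one, mul_inv_cancel]
  obtain ⟨z, hzU, hzfix, hz2, a, b, hza, hzb, hab⟩ := exists_unip_involution (φ := φ) E
  have hzz : z * z = 1 := by rw [← pow_two, ← hz2, pow_orderOf_eq_one]
  have hzH := over_U E hH.isOver hzU hzfix
  -- the product has odd order
  set w := z * y with hw
  have hwH : w ∈ H := H.mul_mem hzH hyH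
  have hzw : z * w * z⁻¹ = w⁻¹ := by
    rw [hw, inv_eq_of_mul_eq_one_right hzz, mul_inv_rev, inv_eq_of_mul_eq_one_right hzz,
      inv_eq_of_mul_eq_one_right hy2, ← mul_assoc z z, hzz, one_mul]
  have hzpow : ∀ n : ℕ, z * w ^ n * z⁻¹ = (w ^ n)⁻¹ := fun n => by rw [← conj_pow, hzw, inv_pow]
  have hodd : Odd (orderOf w) := by
    rw [← Nat.not_even_iff_odd]
    rintro ⟨m, hm⟩
    have hpos : 0 < orderOf w := by
      have h := orderOf_pos (⟨w, hwH⟩ : H)
      rwa [← Subgroup.orderOf_coe] at h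
    have hm1 : w ^ m * w ^ m = 1 := by rw [← pow_add, ← hm, pow_orderOf_eq_one]
    have hm2 : orderOf (w ^ m) = 2 :=
      orderOf_eq_prime (by rw [pow_two, hm1]) (pow_ne_one_of_lt_orderOf (by omega) (by omega))
    have hti : (w ^ m)⁻¹ = w ^ m := inv_eq_of_mul_eq_one_right hm1
    have hzt : z * w ^ m * z⁻¹ = w ^ m := by rw [hzpow, hti]
    have htH : w ^ m ∈ H := H.pow_mem hwH m
    have htfix : Φ (w ^ m) = w ^ m := by
      refine fixed_of_conj E 2 hφ hH hzH hzfix hz2 htH ?_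
      have : w ^ m * z * (w ^ m)⁻¹ = z := by
        calc w ^ m * z * (w ^ m)⁻¹ = (z * w ^ m * z⁻¹) * z * (w ^ m)⁻¹ := by rw [hzt]
          _ = z := by group
      rw [this, hzfix]
    refine hyn (fixed_of_conj E 2 hφ hH htH htfix hm2 hyH ?_)
    have hyt : y * w ^ m * y⁻¹ = w ^ m := by
      have e : y = z * w := by rw [hw, ← mul_assoc, hzz, one_mul]
      calc y * w ^ m * y⁻¹ = z * (w * w ^ m * w⁻¹) * z⁻¹ := by rw [e]; group
        _ = _ := by rw [← pow_succ', pow_succ, mul_inv_cancel_right, hzt]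
    rw [hyt, htfix]
  obtain ⟨m, hm⟩ := hodd
  have hconj : w ^ m * z * (w ^ m)⁻¹ = y := by
    have h1 : z * (w ^ m)⁻¹ = w ^ m * z := by
      rw [← hzpow, ← mul_assoc, ← mul_assoc, hzz, one_mul, inv_eq_of_mul_eq_one_right hzz]
    calc w ^ m * z * (w ^ m)⁻¹ = w ^ m * (z * (w ^ m)⁻¹) := by group
      _ = w ^ (2 * m) * z := by rw [h1, ← mul_assoc, ← pow_add, two_mul]
      _ = w⁻¹ * z := by
        congr 1
        exact eq_inv_of_mul_eq_one_left (by rw [← pow_succ, ← hm, pow_orderOf_eq_one])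
      _ = y := by rw [hw, mul_inv_rev, inv_eq_of_mul_eq_one_right hzz, inv_eq_of_mul_eq_one_right hy2, mul_assoc,
            hzz, mul_one]
  set k := (w ^ m)⁻¹ * g with hk
  have hkH : k ∈ H := H.mul_mem (H.inv_mem (H.pow_mem hwH m)) hg
  have hkz : k * X * k⁻¹ = z := by
    have h1 : g * X * g⁻¹ = w ^ m * z * (w ^ m)⁻¹ := hconj.symm
    calc k * X * k⁻¹ = (w ^ m)⁻¹ * (g * X * g⁻¹) * w ^ m := by rw [hk]; group
      _ = _ := by rw [h1]; group
  obtain ⟨u, hu, β, hβL, c, hc, hβ, e⟩ := exists_conj_top E (hH.le hkH)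
  rw [hkz] at e
  have hβpos : D.nroots / 2 ≤ β := by
    by_contra hn
    exact hc (neg_conj_not_mem E hu hβ (not_le.1 hn) (e ▸ Subgroup.mem_sup_left hzU))
  have hsimp : ∀ i : Fin D.rank, z ∉ Urad[i] → β = D.simple i.val := by
    intro i hi
    by_contra hne
    exact hi (e ▸ Urad_conj E hu (xe_mem_Urad E hβ hβpos hne c))
  rcases hab with ⟨-, hL⟩ | hne
  · exact hL (hsimp a hza ▸ hβL)
  · exact hne ((hsimp a hza).symm.trans (hsimp b hzb))

variable (p : ℕ) [Fact p.Prime] [CharP F p]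
include p

/-- The odd case. -/
theorem fixed_of_smallOver_odd (hp : p ≠ 2) (hφ : Descends E.good φ) (hH : SmallOver φ H) {g : GL D.Idx F}
    (hg : g ∈ H) : Φ g = g := by
  classical
  by_contra hgn
  have hG := E.good
  have hf := E.facts
  have ax := axioms (F := F) hG hf
  obtain ⟨h1, h2⟩ := E.top_pos
  set X := x[D.nroots - 1, (1 : F)] with hX
  have hXH : X ∈ H := top_mem E hH
  set y := g * X * g⁻¹ with hyd
  have hyH : y ∈ H := H.mul_mem (H.mul_mem hg hXH) (H.inv_mem hg)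
  obtain ⟨u, hu, β, hβL, c, hc, hβ, e⟩ := exists_conj_top E (hH.le hg)
  have hβeq := conj_top_root E p hφ hH hg hgn hu hβL hc e
  subst hβeq
  obtain ⟨ψ, hψu, hψl, hψm, hψx⟩ := top_sl2 E (F := F)
  set h0 := ψ (-1) with hh0
  have hXu : u * X * u⁻¹ = X := by rw [(commute_top E hu 1).eq, mul_inv_cancel_right]
  set T := H.comap ((MulAut.conj u).toMonoidHom.comp ψ) with hT
  have hneg : (-1 : Matrix.SpecialLinearGroup (Fin 2) F) ∈ T := by
    have := hH.finite
    have hu1 : PSL2.uu (1 : F) ∈ T := by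
      show u * ψ (PSL2.uu 1) * u⁻¹ ∈ H
      rw [hψu, hXu]; exact hXH
    have hl1 : PSL2.ll c ∈ T := by
      show u * ψ (PSL2.ll c) * u⁻¹ ∈ H
      rw [hψl, ← e]; exact hyH
    set A := PSL2.uu (1 : F) * PSL2.ll c with hA
    set w : H := ⟨u * ψ A * u⁻¹, T.mul_mem hu1 hl1⟩ with hw
    refine PSL2.neg_one_mem_of_uu_ll p hp hc hu1 hl1 (N := orderOf w) (orderOf_pos w).ne'
      (sl2_entry_of_map_one E hψu hψl ?_)
    have h := congrArg Subtype.val (pow_orderOf_eq_one w)
    rw [Subgroup.coe_pow, Subgroup.coe_one, hw, conj_pow, mul_inv_eq_one] at h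
    rw [map_pow]
    exact mul_eq_left.1 h
  set t := u * h0 * u⁻¹ with ht
  have htH : t ∈ H := hneg
  have hh0X : h0 * X * h0⁻¹ = X := by
    rw [hh0, hX, ← hψu, ← map_inv, ← map_mul, ← map_mul]
    congr 1
    rw [← mul_inv_eq_one]
    simp
  have htX : t * X * t⁻¹ = X := by
    calc t * X * t⁻¹ = u * (h0 * (u⁻¹ * X * u) * h0⁻¹) * u⁻¹ := by rw [ht]; group
      _ = _ := by
        rw [show u⁻¹ * X * u = X by rw [mul_assoc, ← (commute_top E hu 1).eq, inv_mul_cancel_left], hh0X, hXu]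
  have htfix : Φ t = t :=
    fixed_of_conj E p hφ hH hXH (top_fixed E) (top_order E p) htH (by rw [htX]; exact top_fixed E)
  have hh0fix : Φ h0 = h0 := by rw [hψm, map_mul, entryMap_ne'_one E]
  set z := u⁻¹ * Φ u with hz
  rw [ht, map_mul, map_mul, map_inv, hh0fix] at htfix
  have hzc : z * h0 = h0 * z := by
    calc z * h0 = u⁻¹ * (Φ u * h0 * (Φ u)⁻¹) * Φ u := by rw [hz]; group
      _ = _ := by rw [htfix, hz]; group
  set K : Subgroup (GL D.Idx F) := Uge hG F (D.nroots / 2) ⊓ Subgroup.centralizer {h0} with hK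
  have hKΦ : ∀ v ∈ K, Φ v ∈ K := by
    rintro v ⟨hv, hv'⟩
    refine ⟨entryMap_mem_Uge hG hv, Subgroup.mem_centralizer_singleton_iff.2 ?_⟩
    have := congrArg Φ (Subgroup.mem_centralizer_singleton_iff.1 hv')
    rwa [map_mul, map_mul, hh0fix] at this
  have hlead : LeadClosed hG K := by
    rintro k c' v hk' hk hc' hv ⟨-, hmem⟩ t'
    set χ : F := (-1 : F) ^ ((List.range D.rank).map fun j =>
      (D.coroot.getD (D.nroots - 1) #[]).getD j 0 * D.cartan j k).sum with hχ
    have hx := hψx k hk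
    have hcomm := Subgroup.mem_centralizer_singleton_iff.1 hmem
    have hχ1 : χ = 1 := by
      have hh0B : h0 * v * h0⁻¹ ∈ Uge hG F (k + 1) := by
        refine borel_conj_Uge hG hf (by omega) ((data_B hG hf).ge ?_) hv
        rw [hψm]
        have hn2 : ne' hG (D.nroots - 1) (1 : F) * ne' hG (D.nroots - 1) 1 ∈ D.diagonalSubgroup F := by
          refine Subgroup.subset_closure ⟨D.nroots - 1, (-1 : F), h1, neg_ne_zero.2 one_ne_zero, ?_⟩
          rw [Units.val_mul, coe_ne', ← hG.coe_nG, ← Units.val_mul, hG.nG_mul_nG h1 one_ne_zero one_ne_zero,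
            hG.hMat_eq h1 (neg_ne_zero.2 one_ne_zero)]
          simp
        exact Subgroup.mem_sup_right hn2
      have h3 : x[k, χ * c'] * (h0 * v * h0⁻¹) = x[k, c'] * v := by
        calc x[k, χ * c'] * (h0 * v * h0⁻¹) = h0 * (x[k, c'] * v) * h0⁻¹ := by rw [← hx c']; group
          _ = _ := by rw [← hcomm, mul_inv_cancel_right]
      exact mul_right_cancel₀ hc' ((split_unique hG hf hk' hk hh0B hv h3).trans (one_mul c').symm)
    refine ⟨xe_mem_Uge hG hk hk' t', Subgroup.mem_centralizer_singleton_iff.2 ?_⟩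
    have h4 := hx t'
    rw [← hχ, hχ1, one_mul, mul_inv_eq_iff_eq_mul] at h4
    exact h4.symm
  have huU : u ∈ Uge hG F (D.nroots / 2) := (Uge_eq_U hG hf).ge hu
  have hzK : z ∈ K := ⟨Subgroup.mul_mem _ (Subgroup.inv_mem _ huU) (entryMap_mem_Uge hG huU),
    Subgroup.mem_centralizer_singleton_iff.2 hzc⟩
  obtain ⟨d, ⟨hd, hdc⟩, hmfix⟩ := lang hG hf hφ inf_le_left hKΦ hlead hzK
  set m := u * d⁻¹ with hm
  have hdU : d ∈ D.posUnipotent F := (Uge_eq_U hG hf).le hd
  have hmH : m ∈ H := over_U E hH.isOver (Subgroup.mul_mem _ hu (Subgroup.inv_mem _ hdU)) hmfix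
  set i : Fin D.rank := ⟨E.adj, E.adjFact.1⟩ with hi
  have hdU' : d ∈ Urad[i] := by
    obtain ⟨yy, hyy, v, hv, ed⟩ := RootBN.Data.U_eq_mul ax i ((data_U hG hf).ge hdU)
    obtain ⟨a, rfl⟩ := (mem_rootSubgroup hG (hG.simple_lt i.2)).1 hyy
    have hx := hψx _ (hG.simple_lt i.2) a
    have hodd : (-1 : F) ^ ((List.range D.rank).map fun j =>
      (D.coroot.getD (D.nroots - 1) #[]).getD j 0 * D.cartan j (D.simple i.val)).sum = -1 :=
      Odd.neg_one_zpow (Int.odd_iff.2 E.adjFact.2.2)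
    rw [hodd] at hx
    have hdc' := Subgroup.mem_centralizer_singleton_iff.1 hdc
    have h3 : x[D.simple i.val, (-1) * a] * (h0 * v * h0⁻¹) = x[D.simple i.val, a] * v := by
      rw [← ed]
      calc x[D.simple i.val, (-1) * a] * (h0 * v * h0⁻¹) = h0 * (x[D.simple i.val, a] * v) * h0⁻¹ := by
            rw [← hx]; group
        _ = _ := by rw [← ed, ← hdc', mul_inv_cancel_right]
    have hv' : h0 * v * h0⁻¹ ∈ Urad[i] := by
      refine RootBN.Data.H_conj_Urad ax ?_ hv
      rw [hψm]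
      refine Subgroup.subset_closure ⟨D.nroots - 1, (-1 : F), h1, neg_ne_zero.2 one_ne_zero, ?_⟩
      rw [Units.val_mul, coe_ne', ← hG.coe_nG, ← Units.val_mul, hG.nG_mul_nG h1 one_ne_zero one_ne_zero,
        hG.hMat_eq h1 (neg_ne_zero.2 one_ne_zero)]
      simp
    have h4 : x[D.simple i.val, -a + (-1) * a] = v * (h0 * v * h0⁻¹)⁻¹ := by
      rw [← xe_add hG (hG.simple_lt i.2), ← xe_inv hG (hG.simple_lt i.2), eq_mul_inv_iff_mul_eq, mul_assoc, h3,
        inv_mul_cancel_left]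
    have h5 := simple_not_mem_Urad E (h4 ▸ Subgroup.mul_mem _ hv (Subgroup.inv_mem _ hv'))
    have h2ne : (2 : F) ≠ 0 := Ring.two_ne_zero (by rw [ringChar.eq F p]; exact hp)
    have ha : a = 0 := (mul_eq_zero.1 (show (2 : F) * a = 0 by linear_combination -h5)).resolve_left h2ne
    rw [ed, ha, xe_zero hG (hG.simple_lt i.2), one_mul]
    exact hv
  set n := ne' hG (D.simple i.val) (1 : F) with hn
  have hnH : n ∈ H := over_ne' E hH.isOver (hG.simple_lt i.2) (map_one φ)
  set g' := n * m⁻¹ * g with hg'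
  have hg'H : g' ∈ H := H.mul_mem (H.mul_mem hnH (H.inv_mem hmH)) hg
  have hg'n : Φ g' ≠ g' := by
    intro h
    rw [hg', map_mul, map_mul, map_inv, hn, entryMap_ne'_one E, hmfix] at h
    exact hgn (mul_left_cancel h)
  obtain ⟨η, hη, hx⟩ := nw_conj_xe E (F := F) [i] ⟨D.neg (D.nroots - 1), hG.neg_lt h1⟩
  simp only [RootBN.Data.nw_cons, RootBN.Data.nw_nil, mul_one, RootBN.Data.wl_cons, RootBN.Data.wl_nil,
    data_refl] at hx
  have hU2 : n * d * n⁻¹ ∈ D.posUnipotent F :=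
    Urad_le_posUnipotent E i (RootBN.Data.nn_conj_Urad ax hdU')
  have e' : g' * X * g'⁻¹ = n * d * n⁻¹ * x[D.reflectRoot i.val (D.neg (D.nroots - 1)), η * c] * (n * d * n⁻¹)⁻¹ := by
    rw [← hx]
    show n * m⁻¹ * g * X * (n * m⁻¹ * g)⁻¹ = _
    calc n * m⁻¹ * g * X * (n * m⁻¹ * g)⁻¹ = n * (m⁻¹ * (g * X * g⁻¹) * m) * n⁻¹ := by group
      _ = _ := by
        rw [← hyd, show y = _ from e, hm]
        show _ = n * d * n⁻¹ * (n * x[D.neg (D.nroots - 1), c] * n⁻¹) * (n * d * n⁻¹)⁻¹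
        group
  exact E.adjFact.2.1 (conj_top_root E p hφ hH hg'H hg'n hU2 ((E.long.2 _ hβL).2 _ i.2) (mul_ne_zero hη hc) e')

/-- **The small case.** An overgroup with rational part in `U` is rational. -/
theorem fixed_of_smallOver (hφ : Descends E.good φ) (hH : SmallOver φ H) {g : GL D.Idx F} (hg : g ∈ H) : Φ g = g := by
  rcases eq_or_ne p 2 with rfl | hp
  · exact fixed_of_smallOver_two E hφ hH hg
  · exact fixed_of_smallOver_odd E p hp hφ hH hg

end Cfsg.Agent.Chev.Subfield
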