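/-
The subfield of prime index: its order, and the sets generating the whole field over it.
-/
import Cfsg.Agent.Lib.Chev.Subfield.Lang
import Mathlib.FieldTheory.Finite.Basic
import Mathlib.FieldTheory.IntermediateField.Basic

set_option autoImplicit false

namespace Cfsg.Agent.Chev.Subfield

variable {F : Type*} [Field F] [Fintype F] {φ : F ≃+* F} {q r : ℕ}

theorem Frob.card_fixedField (hφ : Frob F φ q r) : Nat.card (fixedField φ) = q := by
  classical
  refine le_antisymm ?_ ?_
  · -- roots of a polynomial of degree `q`
    have hne : (Polynomial.X ^ q - Polynomial.X : Polynomial F) ≠ 0 :=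
      FiniteField.X_pow_card_sub_X_ne_zero F hφ.two_le
    have hsub : (Finset.univ.filter fun t : F => φ t = t) ⊆ (Polynomial.X ^ q - Polynomial.X : Polynomial F).roots.toFinset := by
      intro t ht
      rw [Multiset.mem_toFinset, Polynomial.mem_roots hne]
      simp only [Finset.mem_filter] at ht
      simp [← hφ.apply_eq, ht.2]
    have h1 := (Finset.card_le_card hsub).trans ((Multiset.toFinset_card_le _).trans (Polynomial.card_roots' _))
    rw [FiniteField.X_pow_card_sub_X_natDegree_eq F hφ.two_le] at h1
    refine le_trans (le_of_eq ?_) h1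
    rw [Nat.card_eq_fintype_card]
    exact (Fintype.card_congr (Equiv.subtypeEquivRight fun t => mem_fixedField)).trans (Fintype.card_subtype _)
  · set T : F →+ F :=
      { toFun := fun t => ∑ i ∈ Finset.range r, (⇑φ)^[i] t
        map_zero' := by simp [hφ.iterate, zero_pow (show q ^ _ ≠ 0 from pow_ne_zero _ (by have := hφ.two_le; omega))]
        map_add' := fun a b => by simp only [iterate_map_add, Finset.sum_add_distrib] } with hT
    have hTfix : ∀ t, φ (T t) = T t := by
      intro t
      show φ (∑ i ∈ Finset.range r, (⇑φ)^[i] t) = ∑ i ∈ Finset.range r, (⇑φ)^[i] t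
      have h := Finset.sum_range_succ' (fun i => (⇑φ)^[i] t) r
      rw [Finset.sum_range_succ, hφ.iterate_self, Function.iterate_zero, id_eq] at h
      simp only [map_sum, ← Function.iterate_succ_apply' (f := ⇑φ)]
      exact (add_right_cancel h).symm
    have hker : Nat.card T.ker ≤ q ^ (r - 1) := by
      set P : Polynomial F := ∑ i ∈ Finset.range r, Polynomial.X ^ q ^ i with hP
      have h1 : P.coeff 1 = 1 := by
        simp only [hP, Polynomial.finsetSum_coeff, Polynomial.coeff_X_pow]
        rw [Finset.sum_eq_single_of_mem 0 (Finset.mem_range.2 hφ.prime.pos)]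
        · simp
        · intro i _ hi
          rw [if_neg]
          intro h
          exact absurd h.symm (Nat.one_lt_pow hi hφ.two_le).ne'
      have hne : P ≠ 0 := fun h => by rw [h, Polynomial.coeff_zero] at h1; exact zero_ne_one h1
      have hdeg : P.natDegree ≤ q ^ (r - 1) :=
        Polynomial.natDegree_sum_le_of_forall_le (n := q ^ (r - 1)) _ _ fun i hi => by
          rw [Polynomial.natDegree_X_pow]
          exact Nat.pow_le_pow_right (by have := hφ.two_le; omega) (by have := Finset.mem_range.1 hi; omega)
      have hsub : (Finset.univ.filter fun t : F => T t = 0) ⊆ P.roots.toFinset := by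
        intro t ht
        rw [Multiset.mem_toFinset, Polynomial.mem_roots hne]
        simp only [Finset.mem_filter] at ht
        simp only [hP, Polynomial.IsRoot, Polynomial.eval_finsetSum, Polynomial.eval_pow, Polynomial.eval_X]
        simpa [hT, hφ.iterate] using ht.2
      have h2 := (Finset.card_le_card hsub).trans ((Multiset.toFinset_card_le _).trans (Polynomial.card_roots' _))
      refine le_trans (le_of_eq ?_) (h2.trans hdeg)
      rw [Nat.card_eq_fintype_card]
      exact Fintype.card_of_subtype _ fun t => by simp
    have hrange : Nat.card T.range ≤ Nat.card (fixedField φ) :=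
      Nat.card_le_card_of_injective (fun x : T.range => (⟨x.1, by
        obtain ⟨t, ht⟩ := x.2
        rw [mem_fixedField, ← ht]
        exact hTfix t⟩ : fixedField φ)) fun a b h => Subtype.ext (congrArg (fun z : fixedField φ => (z : F)) h)
    have hmul : Nat.card F = Nat.card T.ker * Nat.card T.range := by
      rw [← AddSubgroup.index_ker T, AddSubgroup.card_mul_index]
    rw [Nat.card_eq_fintype_card, hφ.card_eq] at hmul
    refine le_trans ?_ hrange
    have hr := hφ.prime.pos
    have h4 : q ^ (r - 1) * q ≤ q ^ (r - 1) * Nat.card T.range := by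
      rw [← pow_succ, Nat.sub_add_cancel hr, hmul]
      exact Nat.mul_le_mul_right _ hker
    exact Nat.le_of_mul_le_mul_left h4 (pow_pos (by have := hφ.two_le; omega) _)

theorem Frob.finrank_fixedField (hφ : Frob F φ q r) : Module.finrank (fixedField φ) F = r := by
  have h := Module.natCard_eq_pow_finrank (K := fixedField φ) (V := F)
  rw [hφ.card_fixedField, Nat.card_eq_fintype_card, hφ.card_eq] at h
  exact (Nat.pow_right_injective hφ.two_le h).symm

/-- A product closed additive group properly containing the subfield is everything. -/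
theorem Frob.eq_top_of_mul_closed (hφ : Frob F φ q r) {A : AddSubgroup F} (hk : ∀ t, φ t = t → t ∈ A)
    (hmul : ∀ a ∈ A, ∀ b ∈ A, a * b ∈ A) {c : F} (hc : c ∈ A) (hcn : φ c ≠ c) (t : F) : t ∈ A := by
  let S : Subalgebra (fixedField φ) F :=
    { carrier := A
      mul_mem' := fun ha hb => hmul _ ha _ hb
      one_mem' := hk 1 (map_one φ)
      add_mem' := A.add_mem
      zero_mem' := A.zero_mem
      algebraMap_mem' := fun a => hk _ a.2 }
  have := Subalgebra.isSimpleOrder_of_finrank_prime (fixedField φ) F (by rw [hφ.finrank_fixedField]; exact hφ.prime)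
  rcases IsSimpleOrder.eq_bot_or_eq_top S with h | h
  · exfalso
    have h1 : c ∈ S := hc
    rw [h, Algebra.mem_bot] at h1
    obtain ⟨y, hy⟩ := h1
    exact hcn (hy ▸ y.2)
  · exact (show t ∈ S by rw [h]; exact Algebra.mem_top)

omit [Fintype F] in
theorem sq_irrational {s : F} (hs : φ s ≠ s) :
    φ (s ^ 2) ≠ s ^ 2 ∨ φ ((s + 1) ^ 2) ≠ (s + 1) ^ 2 := by
  by_contra h
  push Not at h
  obtain ⟨h1, h2⟩ := h
  rw [map_pow] at h1
  rw [map_pow, map_add, map_one] at h2
  by_cases h20 : (2 : F) = 0
  · refine hs (sub_eq_zero.1 (sq_eq_zero_iff.1 ?_))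
    linear_combination h1 + (s ^ 2 - φ s * s) * h20
  · refine hs (sub_eq_zero.1 ((mul_eq_zero.1 ?_).resolve_left h20))
    linear_combination h2 - h1

end Cfsg.Agent.Chev.Subfield
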