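/-
An overgroup of the subfield subgroup with an irrational element in `U` has one in the groups of the highest roots.
-/
import Cfsg.Agent.Lib.Chev.Subfield.Center
import Cfsg.Agent.Lib.Chev.Subfield.FixedField
import Cfsg.Agent.Lib.Chev.Subfield.Over

set_option autoImplicit false

namespace Cfsg.Agent.Chev.Subfield

open Cfsg.Lie
open Cfsg.Agent.Chev.BNSetup

variable {F : Type*} [Field F] {D : ChevalleyDatum} (E : Env D)
include E

local notation "x[" r "," t "]" => xe (Env.good E) r t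

/-- The commutator word of two roots, in GL. -/
theorem comm_eq {i j : ℕ} (hi : i < D.nroots) (hj : j < D.nroots) (h1 : j ≠ i) (h2 : j ≠ D.neg i) (t u : F) :
    x[j, u] * x[i, t] = x[i, t] * x[j, u] *
      ((D.commTerms i j).map fun c => x[c.1, (c.2.1 : F) * (-t) ^ c.2.2.1 * u ^ c.2.2.2]).prod := by
  have hw : ∀ L : List (ℕ × ℤ × ℕ × ℕ),
      (((L.map fun c => x[c.1, (c.2.1 : F) * (-t) ^ c.2.2.1 * u ^ c.2.2.2]).prod : GL D.Idx F) :
        Matrix D.Idx D.Idx F) = D.wordMat F (L.map fun c => (c.1, (c.2.1 : F) * (-t) ^ c.2.2.1 * u ^ c.2.2.2)) := by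
    intro L
    induction L with
    | nil => simp [ChevalleyDatum.wordMat]
    | cons c L ih =>
      rw [List.map_cons, List.prod_cons, Units.val_mul, ih]
      simp [ChevalleyDatum.wordMat, coe_xe]
  refine Units.ext ?_
  have h := E.good.comm_formula (F := F) hi hj h1 h2 t u
  simp only [Units.val_mul, coe_xe, hw, h, ChevalleyDatum.commWord]

theorem commute_of_commTerms_nil {i j : ℕ} (hi : i < D.nroots) (hj : j < D.nroots) (h1 : j ≠ i) (h2 : j ≠ D.neg i)
    (h : D.commTerms i j = []) (t u : F) : Commute x[i, t] x[j, u] := by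
  have e := comm_eq E hi hj h1 h2 t u
  rw [h, List.map_nil, List.prod_nil, mul_one] at e
  exact e.symm

variable {φ : F ≃+* F}

local notation "Φ" => entryMap D (φ : F →+* F)

/-- All of the root subgroup lies in `H`. -/
def Full (H : Subgroup (GL D.Idx F)) (s : ℕ) : Prop := ∀ t : F, xe E.good s t ∈ H

/-- An irrational root element lies in `H`. -/
def Irr (φ : F ≃+* F) (H : Subgroup (GL D.Idx F)) (s : ℕ) : Prop := ∃ t : F, φ t ≠ t ∧ xe E.good s t ∈ H

variable {H : Subgroup (GL D.Idx F)}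

/-- The parameters in `H` of a root form an additive group. -/
def params (H : Subgroup (GL D.Idx F)) {s : ℕ} (hs : s < D.nroots) : AddSubgroup F where
  carrier := {t | xe E.good s t ∈ H}
  zero_mem' := by show x[s, (0 : F)] ∈ H; rw [xe_zero E.good hs]; exact H.one_mem
  add_mem' := fun {a b} ha hb => by show x[s, a + b] ∈ H; rw [← xe_add E.good hs]; exact H.mul_mem ha hb
  neg_mem' := fun {a} ha => by show x[s, -a] ∈ H; rw [← xe_inv E.good hs]; exact H.inv_mem ha

theorem exists_refl_sign (hH : Over φ H) {i s : ℕ} (hi : i < D.rank) (hs : s < D.nroots) :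
    ∃ e : F, e * e = 1 ∧ ∀ t, x[s, t] ∈ H → x[D.reflectRoot i s, e * t] ∈ H := by
  have hG := E.good
  obtain ⟨e, he, hx, -⟩ := exists_conj hG (F := F) hi hs
  refine ⟨e, he, fun t ht => ?_⟩
  have hN : ne' hG (D.simple i) (1 : F) ∈ H := over_ne' E hH (hG.simple_lt hi) (map_one φ)
  rw [← hx t]
  exact H.mul_mem (H.mul_mem hN ht) (H.inv_mem hN)

theorem full_refl (hH : Over φ H) {i s : ℕ} (hi : i < D.rank) (hs : s < D.nroots) (h : Full E H s) :
    Full E H (D.reflectRoot i s) := by
  obtain ⟨e, he, hx⟩ := exists_refl_sign E hH hi hs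
  intro t
  have := hx (e * t) (h _)
  rwa [← mul_assoc, he, one_mul] at this

theorem irr_refl (hH : Over φ H) {i s : ℕ} (hi : i < D.rank) (hs : s < D.nroots) (h : Irr E φ H s) :
    Irr E φ H (D.reflectRoot i s) := by
  obtain ⟨e, he, hx⟩ := exists_refl_sign E hH hi hs
  obtain ⟨t, ht, hm⟩ := h
  refine ⟨e * t, fun h' => ht ?_, hx t hm⟩
  rcases mul_self_eq_one_iff.1 he with rfl | rfl
  · simpa using h'
  · simpa using h'

/-- Full highest root groups give everything. -/
theorem group_le_of_full_tops (hH : Over φ H) (hT : ∀ h ∈ E.T, Full E H h) : D.group F ≤ H := by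
  have hG := E.good
  have hpos : ∀ m s, D.nroots - s = m → s < D.nroots → D.nroots / 2 ≤ s → Full E H s := by
    intro m
    induction m using Nat.strong_induction_on with
    | _ m ih =>
      intro s hm hs hs'
      rcases E.cover s hs hs' with h | ⟨i, hi, hlt⟩
      · exact hT s h
      · have := full_refl E hH hi (hG.reflectRoot_lt hi hs)
          (ih (D.nroots - D.reflectRoot i s) (by omega) _ rfl (hG.reflectRoot_lt hi hs) (by omega))
        rwa [hG.reflectRoot_reflectRoot hi hs] at this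
  rw [group_eq_closure_xe hG, Subgroup.closure_le]
  rintro y ⟨s, hs, t, rfl⟩
  exact hG.root_induction (P := fun s => Full E H s)
    (fun i hi => hpos _ _ rfl (hG.simple_lt hi) (E.facts.2.2.2.2.1 i hi).2.1)
    (fun i hi s hs ih => full_refl E hH hi hs ih) hs t

theorem full_long (hH : Over φ H) (hL : ∀ h ∈ E.T, h ∈ E.L → Full E H h) {s : ℕ} (hsL : s ∈ E.L)
    (hs' : D.nroots / 2 ≤ s) : Full E H s := by
  have hG := E.good
  suffices key : ∀ m s, D.nroots - s = m → s ∈ E.L → D.nroots / 2 ≤ s → Full E H s from key _ s rfl hsL hs'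
  intro m
  induction m using Nat.strong_induction_on with
  | _ m ih =>
    intro s hm hsL hs'
    have hs := (E.long.2 s hsL).1
    rcases E.cover s hs hs' with h | ⟨i, hi, hlt⟩
    · exact hL s h hsL
    · have := full_refl E hH hi (hG.reflectRoot_lt hi hs) (ih (D.nroots - D.reflectRoot i s) (by
        have := hG.reflectRoot_lt hi hs; omega) _ rfl ((E.long.2 s hsL).2 i hi) (by omega))
      rwa [hG.reflectRoot_reflectRoot hi hs] at this

/-- A product closed set of parameters with an irrational element is everything. -/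
theorem full_of_mul [Fintype F] {q r : ℕ} (hφ : Frob F φ q r) (hH : Over φ H) {s : ℕ} (hs : s < D.nroots)
    (hmul : ∀ a b : F, x[s, a] ∈ H → x[s, b] ∈ H → x[s, a * b] ∈ H) (hirr : Irr E φ H s) : Full E H s := by
  obtain ⟨c, hc, hm⟩ := hirr
  exact fun t => hφ.eq_top_of_mul_closed (A := params E H hs) (fun u hu => over_xe E hH hs hu)
    (fun a ha b hb => hmul a b ha hb) hm hc t

theorem prodFrom_update {k : ℕ} (hk : k < D.nroots) (hk' : D.nroots / 2 ≤ k) {c : ℕ → F} {a : F}
    {v : GL D.Idx F} (hv : v ∈ Uge E.good F (k + 1))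
    (e : prodFrom E.good F c (D.nroots / 2) (D.nroots / 2) = x[k, a] * v) : c k = a := by
  have hG := E.good
  suffices key : ∀ m j, j + m = D.nroots → D.nroots / 2 ≤ j → j ≤ k →
      prodFrom hG F c j m = x[k, a] * v → c k = a from key _ _ E.half_add le_rfl hk' e
  intro m
  induction m with
  | zero => intro j hj _ hjk _; omega
  | succ m ih =>
    intro j hj hj' hjk e
    have hrest : prodFrom hG F c (j + 1) m ∈ Uge hG F (j + 1) := prodFrom_mem hG (by omega)
    rw [prodFrom] at e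
    rcases eq_or_lt_of_le hjk with rfl | hlt
    · exact split_unique hG E.facts hj' hk hrest hv e
    · have hR : x[k, a] * v ∈ Uge hG F (j + 1) := by
        refine Subgroup.mul_mem _ (xe_mem_Uge hG hk (by omega) a) ?_
        refine (show Uge hG F (k + 1) ≤ Uge hG F (j + 1) from ?_) hv
        refine Subgroup.closure_mono ?_
        rintro y ⟨s, u, h1, h2, e⟩
        exact ⟨s, u, h1, by omega, e⟩
      have h0 : c j = 0 := split_unique hG E.facts hj' (by omega) hrest hR
        (by rw [e, xe_zero hG (by omega), one_mul])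
      rw [h0, xe_zero hG (by omega), one_mul] at e
      exact ih (j + 1) (by omega) (by omega) hlt e

theorem leadClosed_rootGen_T :
    LeadClosed E.good (rootGen E.good F {s : Fin D.nroots | s.val ∈ E.T}) := by
  classical
  have hG := E.good
  have hA : CommSet E F {a | a ∈ E.T} := commSet_of_list E.T_pos E.T_comm
  intro k a v hk' hk ha hv hmem t
  obtain ⟨c, hc, e⟩ := exists_PF_of_T E hmem
  exact xe_mem_rootGen hG (r := (⟨k, hk⟩ : Fin D.nroots)) (hc k (by rw [prodFrom_update E hk hk' hv e.symm]; exact ha)) t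

/-- An irrational element of `H` in `U` yields one in the groups of the highest roots. -/
theorem exists_top_elem (hφ : Descends E.good φ) (hH : Over φ H) {u : GL D.Idx F} (huH : u ∈ H)
    (huU : u ∈ D.posUnipotent F) (hu : Φ u ≠ u) :
    ∃ d ∈ H, d ∈ rootGen E.good F {s : Fin D.nroots | s.val ∈ E.T} ∧ Φ d ≠ d := by
  classical
  have hG := E.good
  have hf := E.facts
  set P : ℕ → Prop := fun k => D.nroots / 2 ≤ k ∧ ∃ u ∈ H, u ∈ Uge hG F k ∧ Φ u ≠ u with hP
  have h0 : P (D.nroots / 2) := ⟨le_rfl, u, huH, (Uge_eq_U hG hf).ge huU, hu⟩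
  set k := Nat.findGreatest P D.nroots with hk
  have hkP : P k := Nat.findGreatest_spec (by omega) h0
  obtain ⟨hk', w, hwH, hwk, hw⟩ := hkP
  have hkn : k < D.nroots := by
    by_contra h
    rw [Uge_top hG (not_lt.1 h), Subgroup.mem_bot] at hwk
    exact hw (by rw [hwk, map_one])
  have hmax : ∀ y ∈ H, y ∈ Uge hG F (k + 1) → Φ y = y := by
    intro y hy hyk
    by_contra hn
    exact Nat.findGreatest_is_greatest (P := P) (n := D.nroots) (k := k + 1) (by omega) (by omega)
      ⟨by omega, y, hy, hyk, hn⟩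
  obtain ⟨c, v, hv, e⟩ := Uge_split hG hf hkn hk' hwk
  set z := w⁻¹ * Φ w with hz
  have hwU : w ∈ Uge hG F (D.nroots / 2) := by
    refine (show Uge hG F k ≤ Uge hG F (D.nroots / 2) from ?_) hwk
    refine Subgroup.closure_mono ?_
    rintro y ⟨s, t, h1, h2, e⟩
    exact ⟨s, t, h1, by omega, e⟩
  have hzU : z ∈ Uge hG F (D.nroots / 2) :=
    Subgroup.mul_mem _ (Subgroup.inv_mem _ hwU) (entryMap_mem_Uge hG hwU)
  have hzc : ∀ s < D.nroots, D.nroots / 2 ≤ s → Commute z x[s, (1 : F)] := by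
    intro s hs hs'
    set X := x[s, (1 : F)] with hX
    have hXfix : Φ X = X := by rw [hX, entryMap_xe hG]; simp
    have hXU : X ∈ D.posUnipotent F := Subgroup.subset_closure ⟨s, 1, (pos_iff hf hs).2 hs', rfl⟩
    set z1 := X * x[k, c] * X⁻¹ * (x[k, c])⁻¹ with hz1
    have hz1k : z1 ∈ Uge hG F (k + 1) := commutator_xe_mem_Uge hG hf hkn hk' c hXU
    have hXvk : X * v * X⁻¹ ∈ Uge hG F (k + 1) :=
      borel_conj_Uge hG hf (by omega) ((data_B hG hf).ge (Subgroup.mem_sup_left hXU)) hv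
    have hCk : X * w * X⁻¹ * w⁻¹ ∈ Uge hG F (k + 1) := by
      have e2 : X * w * X⁻¹ * w⁻¹ = z1 * (x[k, c] * (X * v * X⁻¹ * v⁻¹) * (x[k, c])⁻¹) := by
        rw [hz1, e]; group
      rw [e2]
      exact Subgroup.mul_mem _ hz1k (xe_conj_Uge_succ hG hf hk' hkn c (Subgroup.mul_mem _ hXvk (Subgroup.inv_mem _ hv)))
    have h1 := hmax _ (H.mul_mem (H.mul_mem (H.mul_mem (over_xe E hH hs (map_one φ)) hwH)
      (H.inv_mem (over_xe E hH hs (map_one φ)))) (H.inv_mem hwH)) hCk
    rw [map_mul, map_mul, map_mul, map_inv, map_inv, hXfix] at h1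
    have h3 : Φ w * X⁻¹ * (Φ w)⁻¹ = w * X⁻¹ * w⁻¹ := by
      calc Φ w * X⁻¹ * (Φ w)⁻¹ = X⁻¹ * (X * Φ w * X⁻¹ * (Φ w)⁻¹) := by group
        _ = _ := by rw [h1, ← hX]; group
    have h4 : Commute z X⁻¹ := by
      show z * _ = _ * z
      calc z * X⁻¹ = w⁻¹ * (Φ w * X⁻¹ * (Φ w)⁻¹) * Φ w := by rw [hz]; group
        _ = _ := by rw [h3, hz]; group
    simpa using h4.inv_right
  have hzR := mem_rootGen_T E ((Uge_eq_U hG hf).le hzU) hzc
  set R := rootGen hG F {s : Fin D.nroots | s.val ∈ E.T} with hR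
  have hRU : R ≤ Uge hG F (D.nroots / 2) := by
    rw [Uge_eq_U hG hf]
    exact rootGen_le_U hG (fun s hs => (E.T_pos _ hs).2) |>.trans (data_U hG hf).le
  have hRΦ : ∀ y ∈ R, Φ y ∈ R := by
    intro y hy
    refine (show R ≤ R.comap Φ from ?_) hy
    conv_lhs => rw [hR, rootGen]
    rw [Subgroup.closure_le]
    rintro _ ⟨s, hs, t, rfl⟩
    rw [SetLike.mem_coe, Subgroup.mem_comap, entryMap_xe hG]
    exact xe_mem_rootGen hG hs _
  obtain ⟨d, hd, hfix⟩ := lang hG hf hφ hRU hRΦ (leadClosed_rootGen_T E) hzR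
  have hdH : d ∈ H := by
    have := H.mul_mem (H.inv_mem (over_U E hH ((Uge_eq_U hG hf).le
      (Subgroup.mul_mem _ hwU (Subgroup.inv_mem _ (hRU hd)))) hfix)) hwH
    simpa using this
  refine ⟨d, hdH, hd, fun hdfix => hw ?_⟩
  rw [map_mul, map_inv, hdfix] at hfix
  exact mul_right_cancel hfix

theorem rootGen_single {a : ℕ} (hT : E.T = [a]) {d : GL D.Idx F}
    (hd : d ∈ rootGen E.good F {s : Fin D.nroots | s.val ∈ E.T}) : ∃ u : F, d = x[a, u] := by
  have ha := (E.T_pos a (by simp [hT])).1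
  rw [rootGen] at hd
  induction hd using Subgroup.closure_induction with
  | mem y hy =>
    obtain ⟨s, hs, u, rfl⟩ := hy
    simp [hT] at hs
    exact ⟨u, by rw [hs]⟩
  | one => exact ⟨0, (xe_zero E.good ha).symm⟩
  | mul y z _ _ hy hz =>
    obtain ⟨u, rfl⟩ := hy
    obtain ⟨v, rfl⟩ := hz
    exact ⟨u + v, xe_add E.good ha u v⟩
  | inv y _ hy =>
    obtain ⟨u, rfl⟩ := hy
    exact ⟨-u, xe_inv E.good ha u⟩

theorem rootGen_pair {a b : ℕ} (hT : E.T = [a, b]) (hab : a ≠ b) {d : GL D.Idx F}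
    (hd : d ∈ rootGen E.good F {s : Fin D.nroots | s.val ∈ E.T}) : ∃ u v : F, d = x[a, u] * x[b, v] := by
  have ha := (E.T_pos a (by simp [hT])).1
  have hb := (E.T_pos b (by simp [hT])).1
  have hcomm : ∀ u v : F, Commute x[b, v] x[a, u] := fun u v =>
    (commSet_of_list (E := E) (F := F) E.T_pos E.T_comm).comm b (by simp [hT]) a (by simp [hT]) v u
  rw [rootGen] at hd
  induction hd using Subgroup.closure_induction with
  | mem y hy =>
    obtain ⟨s, hs, u, rfl⟩ := hy
    simp [hT] at hs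
    rcases hs with h | h
    · exact ⟨u, 0, by rw [h, xe_zero E.good hb, mul_one]⟩
    · exact ⟨0, u, by rw [h, xe_zero E.good ha, one_mul]⟩
  | one => exact ⟨0, 0, by rw [xe_zero E.good ha, xe_zero E.good hb, mul_one]⟩
  | mul y z _ _ hy hz =>
    obtain ⟨u, v, rfl⟩ := hy
    obtain ⟨u', v', rfl⟩ := hz
    refine ⟨u + u', v + v', ?_⟩
    rw [← xe_add E.good ha, ← xe_add E.good hb, mul_assoc, ← mul_assoc x[b, v], (hcomm u' v).eq]
    group
  | inv y _ hy =>
    obtain ⟨u, v, rfl⟩ := hy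
    refine ⟨-u, -v, ?_⟩
    rw [mul_inv_rev, xe_inv E.good ha, xe_inv E.good hb, (hcomm _ _).eq]

end Cfsg.Agent.Chev.Subfield
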