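/-
Parameters of root elements in an overgroup of the subfield subgroup: transport and commutator rules.
-/
import Cfsg.Agent.Lib.Chev.Subfield.Overgroup

set_option autoImplicit false

namespace Cfsg.Agent.Chev.Subfield

open Cfsg.Lie
open Cfsg.Agent.Chev.BNSetup

variable {F : Type*} [Field F] {D : ChevalleyDatum} (E : Env D)
include E
variable {φ : F ≃+* F} {H : Subgroup (GL D.Idx F)}

local notation "x[" r "," t "]" => xe (Env.good E) r t

theorem neg_iff {s : ℕ} (hs : s < D.nroots) (t : F) : x[s, -t] ∈ H ↔ x[s, t] ∈ H := by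
  rw [← xe_inv E.good hs]; exact H.inv_mem_iff

theorem mem_refl_iff (hH : Over φ H) {i s : ℕ} (hi : i < D.rank) (hs : s < D.nroots) (t : F) :
    x[D.reflectRoot i s, t] ∈ H ↔ x[s, t] ∈ H := by
  have hs' := E.good.reflectRoot_lt hi hs
  obtain ⟨e, he, hx⟩ := exists_refl_sign E hH hi hs
  obtain ⟨e', he', hx'⟩ := exists_refl_sign E hH hi hs'
  constructor
  · intro h
    have := hx' t h
    rw [E.good.reflectRoot_reflectRoot hi hs] at this
    rcases mul_self_eq_one_iff.1 he' with rfl | rfl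
    · rwa [one_mul] at this
    · rwa [neg_one_mul, neg_iff E hs] at this
  · intro h
    have := hx t h
    rcases mul_self_eq_one_iff.1 he with rfl | rfl
    · rwa [one_mul] at this
    · rwa [neg_one_mul, neg_iff E hs'] at this

/-- Positive roots on the same side of `L` as the only such highest root have the same parameters. -/
theorem mem_iff_top (hH : Over φ H) {a : ℕ} (P : Prop) (hT : ∀ h ∈ E.T, (h ∈ E.L ↔ P) → h = a) {s : ℕ}
    (hs : s < D.nroots) (hs' : D.nroots / 2 ≤ s) (hP : s ∈ E.L ↔ P) (t : F) : x[s, t] ∈ H ↔ x[a, t] ∈ H := by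
  have hG := E.good
  suffices key : ∀ m s, D.nroots - s = m → s < D.nroots → D.nroots / 2 ≤ s → (s ∈ E.L ↔ P) →
      (x[s, t] ∈ H ↔ x[a, t] ∈ H) from key _ s rfl hs hs' hP
  intro m
  induction m using Nat.strong_induction_on with
  | _ m ih =>
    intro s hm hs hs' hP
    rcases E.cover s hs hs' with h | ⟨i, hi, hlt⟩
    · rw [hT s h hP]
    · have hs2 := hG.reflectRoot_lt hi hs
      have hL : D.reflectRoot i s ∈ E.L ↔ s ∈ E.L := by
        refine ⟨fun h => ?_, fun h => (E.long.2 s h).2 i hi⟩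
        have := (E.long.2 _ h).2 i hi
        rwa [hG.reflectRoot_reflectRoot hi hs] at this
      rw [← mem_refl_iff E hH hi hs t]
      exact ih (D.nroots - D.reflectRoot i s) (by omega) _ rfl hs2 (by omega) (hL.trans hP)

/-- The commutator word of two root elements of `H`. -/
theorem word_mem {i j : ℕ} (hi : i < D.nroots) (hj : j < D.nroots) (h1 : j ≠ i) (h2 : j ≠ D.neg i) {t u : F}
    (ht : x[i, t] ∈ H) (hu : x[j, u] ∈ H) :
    ((D.commTerms i j).map fun c => x[c.1, (c.2.1 : F) * (-t) ^ c.2.2.1 * u ^ c.2.2.2]).prod ∈ H := by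
  have e := comm_eq E hi hj h1 h2 t u
  have : ((D.commTerms i j).map fun c => x[c.1, (c.2.1 : F) * (-t) ^ c.2.2.1 * u ^ c.2.2.2]).prod =
      (x[i, t] * x[j, u])⁻¹ * (x[j, u] * x[i, t]) := by rw [e]; group
  rw [this]
  exact H.mul_mem (H.inv_mem (H.mul_mem ht hu)) (H.mul_mem hu ht)

/-- A pair of roots with a single commutator term gives products of parameters. -/
theorem mul_mem_of_pair {i j a : ℕ} {ε : ℤ} (hε : ε = 1 ∨ ε = -1) (hi : i < D.nroots) (hj : j < D.nroots)
    (ha : a < D.nroots) (h1 : j ≠ i) (h2 : j ≠ D.neg i) (h : D.commTerms i j = [(a, ε, 1, 1)]) {t u : F}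
    (ht : x[i, t] ∈ H) (hu : x[j, u] ∈ H) : x[a, t * u] ∈ H := by
  have := word_mem E hi hj h1 h2 ht hu
  simp only [h, List.map_cons, List.map_nil, List.prod_cons, List.prod_nil, mul_one, pow_one] at this
  rcases hε with rfl | rfl
  · rw [← neg_iff E ha]; simpa using this
  · simpa using this

/-- A pair of long roots with a single term fills the highest root group. -/
theorem full_of_pair [Fintype F] {q r : ℕ} (hφ : Frob F φ q r) (hH : Over φ H) {i j a : ℕ} {ε : ℤ} (hε : ε = 1 ∨ ε = -1)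
    (hT : ∀ h ∈ E.T, h ∈ E.L → h = a) (ha : a < D.nroots) (hi : i ∈ E.L) (hi' : D.nroots / 2 ≤ i) (hj : j ∈ E.L)
    (hj' : D.nroots / 2 ≤ j) (h1 : j ≠ i) (h2 : j ≠ D.neg i) (h : D.commTerms i j = [(a, ε, 1, 1)])
    (hirr : Irr E φ H a) : Full E H a := by
  have hi0 := (E.long.2 i hi).1
  have hj0 := (E.long.2 j hj).1
  refine full_of_mul E hφ hH ha (fun t u ht hu => mul_mem_of_pair E hε hi0 hj0 ha h1 h2 h ?_ ?_) hirr
  · exact (mem_iff_top E hH True (fun k hk hkL => hT k hk (hkL.2 trivial)) hi0 hi' (iff_true_intro hi) t).2 ht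
  · exact (mem_iff_top E hH True (fun k hk hkL => hT k hk (hkL.2 trivial)) hj0 hj' (iff_true_intro hj) u).2 hu

/-- A mixed element of the highest roots moved by a reflection fixing the short one. -/
theorem exists_pair_elem (hH : Over φ H) {i a b a' : ℕ} (hi : i < D.rank) (ha : a < D.nroots) (hb : b < D.nroots)
    (hrefa : D.reflectRoot i a = a') (hrefb : D.reflectRoot i b = b) (hab : ∀ t u : F, Commute x[a, t] x[b, u])
    {t s : F} (ht : φ t ≠ t) (hd : x[a, t] * x[b, s] ∈ H) :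
    ∃ c v : F, φ c ≠ c ∧ (v = t ∨ v = -t) ∧ (c = t ∨ c = -t) ∧ x[a', c] * x[a, v] ∈ H := by
  have hG := E.good
  obtain ⟨e, he, hx, -⟩ := exists_conj hG (F := F) hi ha
  obtain ⟨e', he', hx', -⟩ := exists_conj hG (F := F) hi hb
  set N := ne' hG (D.simple i) (1 : F)
  have hN : N ∈ H := by
    exact over_ne' E hH (hG.simple_lt hi) (map_one φ)
  have hd2 : x[a', e * t] * x[b, e' * s] ∈ H := by
    have h := H.mul_mem (H.mul_mem hN hd) (H.inv_mem hN)
    have e2 : N * (x[a, t] * x[b, s]) * N⁻¹ = (N * x[a, t] * N⁻¹) * (N * x[b, s] * N⁻¹) := by group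
    rwa [e2, hx, hx', hrefa, hrefb] at h
  have hc : (e * t = t ∨ e * t = -t) ∧ φ (e * t) ≠ e * t := by
    rcases mul_self_eq_one_iff.1 he with rfl | rfl
    · exact ⟨Or.inl (one_mul t), by simpa using ht⟩
    · exact ⟨Or.inr (by ring), by simpa using ht⟩
  rcases mul_self_eq_one_iff.1 he' with rfl | rfl
  · refine ⟨e * t, -t, hc.2, Or.inr rfl, hc.1, ?_⟩
    have h := H.mul_mem hd2 (H.inv_mem hd)
    rwa [one_mul, mul_inv_rev, xe_inv hG ha, mul_assoc x[a', e * t], mul_inv_cancel_left] at h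
  · refine ⟨e * t, t, hc.2, Or.inl rfl, hc.1, ?_⟩
    have h := H.mul_mem hd2 hd
    rw [neg_one_mul, (hab t s).eq, ← xe_inv hG hb, mul_assoc x[a', e * t], inv_mul_cancel_left] at h
    exact h

/-- A mixed element of two long highest roots gives a single one. -/
theorem mem_of_pair_elem (hH : Over φ H) {u a' a : ℕ} {ε : ℤ} (hε : ε = 1 ∨ ε = -1) (hu : u < D.nroots)
    (ha' : a' < D.nroots) (ha : a < D.nroots) (h1 : a' ≠ u) (h2 : a' ≠ D.neg u)
    (h : D.commTerms u a' = [(a, ε, 1, 1)]) (h3 : u ≠ a) (h4 : u ≠ D.neg a) (h5 : D.commTerms a u = [])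
    {c v : F} (hd : x[a', c] * x[a, v] ∈ H) : x[a, c] ∈ H := by
  have e := comm_eq E hu ha' h1 h2 (1 : F) c
  simp only [h, List.map_cons, List.map_nil, List.prod_cons, List.prod_nil, mul_one, pow_one] at e
  have hcomm : Commute x[a, v] x[u, (1 : F)] := commute_of_commTerms_nil E ha hu h3 h4 h5 v 1
  set W := x[a, (ε : F) * -1 * c] with hW
  have hu1 : x[u, (1 : F)] ∈ H := over_xe E hH hu (map_one φ)
  have hvW : Commute x[a, v] W := by
    show _ * _ = _ * _
    rw [hW, xe_add E.good ha, xe_add E.good ha, add_comm]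
  have e2 : x[a', c] * x[a, v] * x[u, 1] = x[u, 1] * (x[a', c] * x[a, v]) * W := by
    calc x[a', c] * x[a, v] * x[u, 1] = x[a', c] * x[u, 1] * x[a, v] := by rw [mul_assoc, hcomm.eq, ← mul_assoc]
      _ = x[u, 1] * x[a', c] * (W * x[a, v]) := by rw [e]; group
      _ = _ := by rw [← hvW.eq]; group
  have hWH : W ∈ H := by
    have : W = (x[u, 1] * (x[a', c] * x[a, v]))⁻¹ * (x[a', c] * x[a, v] * x[u, 1]) := by rw [e2]; group
    rw [this]
    exact H.mul_mem (H.inv_mem (H.mul_mem hu1 hd)) (H.mul_mem hd hu1)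
  rcases hε with rfl | rfl
  · rw [← neg_iff E ha]; simpa [hW] using hWH
  · simpa [hW] using hWH

/-- Roots with the same parameters on the positive side have them on all roots. -/
theorem mem_iff_of_pos (hH : Over φ H) {P : F → Prop}
    (hP : ∀ s < D.nroots, D.nroots / 2 ≤ s → ∀ t, x[s, t] ∈ H ↔ P t) {s : ℕ} (hs : s < D.nroots) (t : F) :
    x[s, t] ∈ H ↔ P t :=
  E.good.root_induction (P := fun s => x[s, t] ∈ H ↔ P t)
    (fun i hi => hP _ (E.good.simple_lt hi) (E.facts.2.2.2.2.1 i hi).2.1 t)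
    (fun i hi _ hs ih => (mem_refl_iff E hH hi hs t).trans ih) hs

end Cfsg.Agent.Chev.Subfield
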