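/-
Generation over the subfield subgroup, the simply laced types.
-/
import Cfsg.Agent.Lib.Chev.Subfield.Tops

set_option autoImplicit false
set_option maxRecDepth 20000

namespace Cfsg.Agent.Chev.Subfield

open Cfsg.Lie
open Cfsg.Agent.Chev.BNSetup

variable {F : Type*} [Field F] {D : ChevalleyDatum} {φ : F ≃+* F} {H : Subgroup (GL D.Idx F)}

/-- The part of the generation statement common to the types. -/
def Generates (F : Type*) [Field F] [Fintype F] (D : ChevalleyDatum) : Prop :=
  ∀ (φ : F ≃+* F) (q r : ℕ), Frob F φ q r → ∀ H : Subgroup (GL D.Idx F), Over φ H →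
    ∀ u ∈ H, u ∈ D.posUnipotent F → entryMap D (φ : F →+* F) u ≠ u → D.group F ≤ H

/-- An irrational element of the group of the highest root. -/
theorem irr_simplyLaced (E : Env D) {a : ℕ} (hT : E.T = [a]) {d : GL D.Idx F} (hdH : d ∈ H)
    (hd : d ∈ rootGen E.good F {s : Fin D.nroots | s.val ∈ E.T}) (hdn : entryMap D (φ : F →+* F) d ≠ d) :
    Irr E φ H a := by
  obtain ⟨c, rfl⟩ := rootGen_single E hT hd
  exact ⟨c, fun h => hdn (by rw [entryMap_xe E.good]; simp [h]), hdH⟩

theorem generates_of_simplyLaced [Fintype F] (E : Env D) {a i j : ℕ} (hT : E.T = [a])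
    (hL : E.L = List.range D.nroots) (hi : i < D.nroots ∧ D.nroots / 2 ≤ i) (hj : j < D.nroots ∧ D.nroots / 2 ≤ j)
    (h1 : j ≠ i) (h2 : j ≠ D.neg i) (h : D.commTerms i j = [(a, 1, 1, 1)]) : Generates F D := by
  intro φ q r hφ H hH u huH huU hu
  have ha := (E.T_pos a (by simp [hT])).1
  obtain ⟨d, hdH, hd, hdn⟩ := exists_top_elem E (hφ.descends E.good E.facts) hH huH huU hu
  have hirr := irr_simplyLaced E hT hdH hd hdn
  have hf := full_of_pair E hφ hH (Or.inl rfl) (fun k hk _ => by simpa [hT] using hk) ha
    (by simp [hL, hi.1]) hi.2 (by simp [hL, hj.1]) hj.2 h1 h2 h hirr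
  exact group_le_of_full_tops E hH (by simpa [hT] using hf)

theorem generates_D4 [Fintype F] : Generates F chevD4 := by
  obtain ⟨E, hT, hL⟩ := exists_env_D4
  exact generates_of_simplyLaced E (i := 14) (j := 22) hT hL (by decide) (by decide) (by decide) (by decide +kernel)
    (by decide +kernel)

theorem generates_E6 [Fintype F] : Generates F chevE6 := by
  obtain ⟨E, hT, hL⟩ := exists_env_E6
  exact generates_of_simplyLaced E (i := 46) (j := 70) hT hL (by decide) (by decide) (by decide) (by decide +kernel)
    (by decide +kernel)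

theorem generates_E7 [Fintype F] : Generates F chevE7 := by
  obtain ⟨E, hT, hL⟩ := exists_env_E7
  exact generates_of_simplyLaced E (i := 93) (j := 124) hT hL (by decide) (by decide) (by decide) (by decide +kernel)
    (by decide +kernel)

theorem generates_E8 [Fintype F] : Generates F chevE8 := by
  obtain ⟨E, hT, hL⟩ := exists_env_E8
  exact generates_of_simplyLaced E (i := 120) (j := 238) hT hL (by decide) (by decide) (by decide) (by decide +kernel)
    (by decide +kernel)

end Cfsg.Agent.Chev.Subfield
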