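/-
Generation over the subfield subgroup, type B₂.
-/
import Cfsg.Agent.Lib.Chev.Subfield.SimplyLaced

set_option autoImplicit false
set_option maxRecDepth 20000

namespace Cfsg.Agent.Chev.Subfield

open Cfsg.Lie
open Cfsg.Agent.Chev.BNSetup

variable {F : Type*} [Field F] {φ : F ≃+* F} {H : Subgroup (GL chevB2.Idx F)}
  (E : Env chevB2)

/-- The facts on type B₂ used below. -/
structure B2Ctx (φ : F ≃+* F) (H : Subgroup (GL chevB2.Idx F)) (E : Env chevB2) : Prop where
  isOver : Over φ H
  long : ∀ t : F, xe E.good 4 t ∈ H ↔ xe E.good 7 t ∈ H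
  short : ∀ t : F, xe E.good 5 t ∈ H ↔ xe E.good 6 t ∈ H

theorem b2_commute (E : Env chevB2) {i j : ℕ} (hi : i < 8) (hj : j < 8) (h1 : j ≠ i) (h2 : j ≠ chevB2.neg i)
    (h5 : chevB2.commTerms i j = []) (t v : F) : Commute (xe E.good i t) (xe E.good j v) :=
  commute_of_commTerms_nil E hi hj h1 h2 h5 t v

theorem B2Ctx.terms45 (hC : B2Ctx φ H E) {t v : F} (ht : xe E.good 4 t ∈ H) (hv : xe E.good 5 v ∈ H) :
    xe E.good 6 (-t * v) * xe E.good 7 (t * v ^ 2) ∈ H := by
  have _ := hC.isOver
  have h45 : chevB2.commTerms 4 5 = [(6, 1, 1, 1), (7, -1, 1, 2)] := by decide +kernel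
  have := word_mem E (i := 4) (j := 5) (by decide) (by decide) (by decide) (by decide +kernel) ht hv
  simpa [h45] using this

theorem B2Ctx.sq_mem (hC : B2Ctx φ H E) {s : F} (hs : xe E.good 6 s ∈ H) : xe E.good 7 (s ^ 2) ∈ H := by
  have h := hC.terms45 E (t := 1) (over_xe E hC.isOver (by decide) (map_one φ)) ((hC.short s).2 hs)
  rw [neg_one_mul, one_mul] at h
  exact (H.mul_mem_cancel_left ((neg_iff E (by decide) s).2 hs)).1 h

theorem B2Ctx.long_sub_short (hC : B2Ctx φ H E) {t : F} (ht : xe E.good 7 t ∈ H) : xe E.good 6 t ∈ H := by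
  have h := hC.terms45 E ((hC.long t).2 ht) (over_xe E hC.isOver (by decide) (map_one φ))
  simp only [mul_one, one_pow] at h
  exact (neg_iff E (by decide) t).1 ((H.mul_mem_cancel_right ht).1 h)

/-- In characteristic two, commutating with the opposite of the long fundamental root. -/
theorem B2Ctx.diag_mem (hC : B2Ctx φ H E) (h2 : (2 : F) = 0) {e f : F}
    (h : xe E.good 6 e * xe E.good 7 f ∈ H) :
    xe E.good 5 e * xe E.good 7 (e ^ 2) ∈ H ∧ xe E.good 6 e * xe E.good 7 (e ^ 2) ∈ H := by
  have hG := E.good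
  have h36 : chevB2.commTerms 3 6 = [(5, 1, 1, 1), (7, 1, 1, 2)] := by decide +kernel
  have e36 := comm_eq E (i := 3) (j := 6) (by decide) (by decide) (by decide) (by decide +kernel) (1 : F) e
  simp only [h36, List.map_cons, List.map_nil, List.prod_cons, List.prod_nil, mul_one, pow_one, Int.cast_one,
    one_mul] at e36
  have hm : (-1 : F) = 1 := by linear_combination -h2
  rw [hm, one_mul, one_mul] at e36
  have c73 := b2_commute E (i := 7) (j := 3) (by decide) (by decide) (by decide) (by decide +kernel)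
    (by decide +kernel) f (1 : F)
  have c75 := b2_commute E (i := 7) (j := 5) (by decide) (by decide) (by decide) (by decide +kernel)
    (by decide +kernel) f e
  have c77 : Commute (xe hG 7 f) (xe hG 7 (e ^ 2)) := by
    show _ * _ = _ * _
    rw [xe_add hG (by decide), xe_add hG (by decide), add_comm]
  set W := xe hG 5 e * xe hG 7 (e ^ 2) with hW
  have cW : Commute (xe hG 7 f) W := c75.mul_right c77
  have e2 : xe hG 6 e * xe hG 7 f * xe hG 3 (1 : F) = xe hG 3 1 * (xe hG 6 e * xe hG 7 f) * W := by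
    calc xe hG 6 e * xe hG 7 f * xe hG 3 (1 : F) = xe hG 6 e * xe hG 3 1 * xe hG 7 f := by
          rw [mul_assoc, c73.eq, ← mul_assoc]
      _ = xe hG 3 1 * xe hG 6 e * (W * xe hG 7 f) := by rw [e36]; group
      _ = _ := by rw [← cW.eq]; group
  have h3 : xe hG 3 (1 : F) ∈ H := over_xe E hC.isOver (by decide) (map_one φ)
  have hWH : W ∈ H := by
    have : W = (xe hG 3 1 * (xe hG 6 e * xe hG 7 f))⁻¹ * (xe hG 6 e * xe hG 7 f * xe hG 3 1) := by
      rw [e2]; group
    rw [this]
    exact H.mul_mem (H.inv_mem (H.mul_mem h3 h)) (H.mul_mem h h3)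
  refine ⟨hWH, ?_⟩
  obtain ⟨e5, he5, hx5, -⟩ := exists_conj hG (F := F) (i := 1) (s := 5) (by decide) (by decide)
  obtain ⟨e7, he7, hx7, -⟩ := exists_conj hG (F := F) (i := 1) (s := 7) (by decide) (by decide)
  have hsign : ∀ s : F, s * s = 1 → s = 1 := fun s hs => by
    rcases mul_self_eq_one_iff.1 hs with h | h
    · exact h
    · rw [h, hm]
  set N := ne' hG (chevB2.simple 1) (1 : F) with hN
  have hNH : N ∈ H := by
    exact over_ne' E hC.isOver (hG.simple_lt (by decide)) (map_one φ)
  have h5 := H.mul_mem (H.mul_mem hNH hWH) (H.inv_mem hNH)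
  rw [show N * W * N⁻¹ = (N * xe hG 5 e * N⁻¹) * (N * xe hG 7 (e ^ 2) * N⁻¹) by rw [hW]; group, hx5, hx7,
    hsign e5 he5, hsign e7 he7, one_mul, one_mul, show chevB2.reflectRoot 1 5 = 6 by decide +kernel,
    show chevB2.reflectRoot 1 7 = 7 by decide +kernel] at h5
  exact h5

/-- An irrational long root element. -/
theorem B2Ctx.irr (hC : B2Ctx φ H E) {a b : F} (hd : xe E.good 7 a * xe E.good 6 b ∈ H)
    (hirr : φ a ≠ a ∨ φ b ≠ b) : Irr E φ H 7 := by
  have hG := E.good
  have c57 := fun (t v : F) => b2_commute E (i := 5) (j := 7) (by decide) (by decide) (by decide) (by decide +kernel)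
    (by decide +kernel) t v
  have c67 := fun (t v : F) => b2_commute E (i := 6) (j := 7) (by decide) (by decide) (by decide) (by decide +kernel)
    (by decide +kernel) t v
  by_cases ha : φ a = a
  · have hb := hirr.resolve_left (by simp [ha])
    have hbH : xe hG 6 b ∈ H := (H.mul_mem_cancel_left (over_xe E hC.isOver (by decide) ha)).1 hd
    rcases sq_irrational hb with h | h
    · exact ⟨b ^ 2, h, hC.sq_mem E hbH⟩
    · refine ⟨(b + 1) ^ 2, h, hC.sq_mem E ?_⟩
      rw [← xe_add hG (by decide)]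
      exact H.mul_mem hbH (over_xe E hC.isOver (by decide) (map_one φ))
  obtain ⟨c, v, hc, -, -, hm⟩ := exists_pair_elem E hC.isOver (i := 0) (a' := 4) (by decide) (by decide) (by decide)
    (by decide +kernel) (by decide +kernel) (fun t u => (c67 u t).symm) ha hd
  -- commutate with a short root element
  have h45 : chevB2.commTerms 4 5 = [(6, 1, 1, 1), (7, -1, 1, 2)] := by decide +kernel
  have hW : ∀ u : F, xe hG 5 u ∈ H → xe hG 6 (-c * u) * xe hG 7 (c * u ^ 2) ∈ H := by
    intro u hu
    have e45 := comm_eq E (i := 4) (j := 5) (by decide) (by decide) (by decide) (by decide +kernel) c u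
    simp only [h45, List.map_cons, List.map_nil, List.prod_cons, List.prod_nil, mul_one, pow_one] at e45
    rw [show ((1 : ℤ) : F) * -c * u = -c * u by simp, show ((-1 : ℤ) : F) * -c * u ^ 2 = c * u ^ 2 by simp] at e45
    set W := xe hG 6 (-c * u) * xe hG 7 (c * u ^ 2) with hWdef
    have c74 : Commute (xe hG 7 v) W := ((c67 _ v).symm).mul_right (by
      show _ * _ = _ * _
      rw [xe_add hG (by decide), xe_add hG (by decide), add_comm])
    have e2 : xe hG 5 u * (xe hG 4 c * xe hG 7 v) = xe hG 4 c * xe hG 7 v * xe hG 5 u * W := by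
      calc xe hG 5 u * (xe hG 4 c * xe hG 7 v) = xe hG 4 c * xe hG 5 u * (W * xe hG 7 v) := by
            rw [← mul_assoc, e45]; group
        _ = xe hG 4 c * (xe hG 5 u * xe hG 7 v) * W := by rw [← c74.eq]; group
        _ = _ := by rw [(c57 u v).eq]; group
    have : W = (xe hG 4 c * xe hG 7 v * xe hG 5 u)⁻¹ * (xe hG 5 u * (xe hG 4 c * xe hG 7 v)) := by
      rw [e2]; group
    rw [this]
    exact H.mul_mem (H.inv_mem (H.mul_mem hm hu)) (H.mul_mem hu hm)
  have h1 : xe hG 5 (1 : F) ∈ H := over_xe E hC.isOver (by decide) (map_one φ)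
  have hA := hW 1 h1
  by_cases h2 : (2 : F) = 0
  · have hm1 : ∀ x : F, -x = x := fun x => by linear_combination -x * h2
    rw [mul_one, one_pow, mul_one, hm1] at hA
    obtain ⟨hY, hP⟩ := hC.diag_mem E h2 hA
    have hl : xe hG 7 (c ^ 2 + c) ∈ H := by
      have h := H.mul_mem hP hA
      rw [mul_assoc, ← mul_assoc (xe hG 7 (c ^ 2)), ← (c67 c (c ^ 2)).eq, mul_assoc (xe hG 6 c) (xe hG 7 (c ^ 2)),
        ← mul_assoc (xe hG 6 c), xe_add hG (by decide), xe_add hG (by decide),
        show c + c = 0 by linear_combination c * h2, xe_zero hG (by decide), one_mul] at h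
      exact h
    by_cases hlam : φ (c ^ 2 + c) = c ^ 2 + c
    swap
    · exact ⟨_, hlam, hl⟩
    -- the conjugate of the diagonal element
    have hsign : ∀ s : F, s * s = 1 → s = 1 := fun s hs => by
      rcases mul_self_eq_one_iff.1 hs with h | h
      · exact h
      · rw [h, hm1]
    obtain ⟨e6, he6, hx6, -⟩ := exists_conj hG (F := F) (i := 0) (s := 6) (by decide) (by decide)
    obtain ⟨e7, he7, hx7, -⟩ := exists_conj hG (F := F) (i := 0) (s := 7) (by decide) (by decide)
    set N := ne' hG (chevB2.simple 0) (1 : F) with hN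
    have hNH : N ∈ H := by
      exact over_ne' E hC.isOver (hG.simple_lt (by decide)) (map_one φ)
    have hZ := H.mul_mem (H.mul_mem hNH hA) (H.inv_mem hNH)
    rw [show N * (xe hG 6 c * xe hG 7 c) * N⁻¹ = (N * xe hG 6 c * N⁻¹) * (N * xe hG 7 c * N⁻¹) by group, hx6, hx7,
      hsign e6 he6, hsign e7 he7, one_mul, show chevB2.reflectRoot 0 6 = 6 by decide +kernel,
      show chevB2.reflectRoot 0 7 = 4 by decide +kernel] at hZ
    have h56 : chevB2.commTerms 5 6 = [(7, 2, 1, 1)] := by decide +kernel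
    have e56 := comm_eq E (i := 5) (j := 6) (by decide) (by decide) (by decide) (by decide +kernel) c c
    simp only [h56, List.map_cons, List.map_nil, List.prod_cons, List.prod_nil, mul_one, pow_one] at e56
    rw [Int.cast_ofNat, h2, zero_mul, zero_mul, xe_zero hG (by decide), mul_one] at e56
    have e45 := comm_eq E (i := 4) (j := 5) (by decide) (by decide) (by decide) (by decide +kernel) c c
    simp only [h45, List.map_cons, List.map_nil, List.prod_cons, List.prod_nil, mul_one, pow_one] at e45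
    rw [show ((1 : ℤ) : F) * -c * c = c ^ 2 by rw [hm1]; push_cast; ring,
      show ((-1 : ℤ) : F) * -c * c ^ 2 = c ^ 3 by push_cast; ring] at e45
    set W := xe hG 6 (c ^ 2) * xe hG 7 (c ^ 3) with hWdef
    have c7W : Commute (xe hG 7 (c ^ 2)) W := ((c67 _ _).symm).mul_right (by
      show _ * _ = _ * _
      rw [xe_add hG (by decide), xe_add hG (by decide), add_comm])
    have c74 : Commute (xe hG 7 (c ^ 2)) (xe hG 4 c) :=
      b2_commute E (i := 7) (j := 4) (by decide) (by decide) (by decide) (by decide +kernel) (by decide +kernel) _ _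
    have e2 : xe hG 5 c * xe hG 7 (c ^ 2) * (xe hG 6 c * xe hG 4 c) =
        xe hG 6 c * xe hG 4 c * (xe hG 5 c * xe hG 7 (c ^ 2)) * W := by
      calc xe hG 5 c * xe hG 7 (c ^ 2) * (xe hG 6 c * xe hG 4 c)
          = xe hG 5 c * ((xe hG 7 (c ^ 2) * xe hG 6 c) * xe hG 4 c) := by group
        _ = xe hG 5 c * xe hG 6 c * (xe hG 7 (c ^ 2) * xe hG 4 c) := by rw [← (c67 c _).eq]; group
        _ = xe hG 6 c * (xe hG 5 c * xe hG 4 c) * xe hG 7 (c ^ 2) := by rw [← e56, c74.eq]; group
        _ = xe hG 6 c * xe hG 4 c * xe hG 5 c * (W * xe hG 7 (c ^ 2)) := by rw [e45]; group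
        _ = _ := by rw [← c7W.eq]; group
    have hWH : W ∈ H := by
      have : W = (xe hG 6 c * xe hG 4 c * (xe hG 5 c * xe hG 7 (c ^ 2)))⁻¹ *
          (xe hG 5 c * xe hG 7 (c ^ 2) * (xe hG 6 c * xe hG 4 c)) := by rw [e2]; group
      rw [this]
      exact H.mul_mem (H.inv_mem (H.mul_mem hZ hY)) (H.mul_mem hY hZ)
    have h3 := H.mul_mem hWH hA
    rw [hWdef, mul_assoc, ← mul_assoc (xe hG 7 (c ^ 3)), ← (c67 c (c ^ 3)).eq, mul_assoc (xe hG 6 c),
      ← mul_assoc (xe hG 6 (c ^ 2)), xe_add hG (by decide), xe_add hG (by decide)] at h3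
    have h4 := (H.mul_mem_cancel_left (over_xe E hC.isOver (by decide) hlam)).1 h3
    refine ⟨c ^ 3 + c, fun h => hc ?_, h4⟩
    have hl0 : c ^ 2 + c ≠ 0 := by
      intro h0
      have : c * (c + 1) = 0 := by linear_combination h0
      rcases mul_eq_zero.1 this with h | h
      · exact hc (by rw [h]; simp)
      · exact hc (by rw [eq_neg_of_add_eq_zero_left h]; simp)
    have e3 : c ^ 3 + c = (c ^ 2 + c) * c + (c ^ 2 + c) := by linear_combination (-(c ^ 2)) * h2
    rw [e3, map_add, map_mul, hlam] at h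
    exact mul_left_cancel₀ hl0 (add_right_cancel h)
  · have hB := hW (-1) ((neg_iff E (by decide) (1 : F)).2 h1)
    have h := H.mul_mem hA hB
    rw [mul_one, show -c * -1 = c by ring, show c * (-1) ^ 2 = c by ring, one_pow, mul_one, mul_assoc,
      ← mul_assoc (xe hG 7 c), ← (c67 c c).eq, mul_assoc (xe hG 6 c), ← mul_assoc (xe hG 6 (-c)),
      xe_add hG (by decide), xe_add hG (by decide), neg_add_cancel, xe_zero hG (by decide), one_mul] at h
    refine ⟨c + c, fun h' => hc ?_, h⟩
    rw [map_add] at h'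
    exact mul_left_cancel₀ h2 (by linear_combination h')

/-- An irrational element of the groups of the highest roots gives an irrational long root element. -/
theorem B2Ctx.irr_top (hC : B2Ctx φ H E) (hT : E.T = [7, 6]) {d : GL chevB2.Idx F} (hdH : d ∈ H)
    (hd : d ∈ rootGen E.good F {s : Fin chevB2.nroots | s.val ∈ E.T})
    (hdn : entryMap chevB2 (φ : F →+* F) d ≠ d) : Irr E φ H 7 := by
  obtain ⟨a, b, rfl⟩ := rootGen_pair E hT (by decide) hd
  refine hC.irr E hdH ?_
  by_contra h
  push Not at h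
  exact hdn (by rw [map_mul, entryMap_xe E.good, entryMap_xe E.good]; simp [h.1, h.2])

/-- In odd characteristic the parameters are closed under products. -/
theorem B2Ctx.params_odd (hC : B2Ctx φ H E) (p : ℕ) [Fact p.Prime] [CharP F p] (hp : p ≠ 2) :
    (∀ t : F, xe E.good 6 t ∈ H → xe E.good 7 t ∈ H) ∧
      ∀ s t : F, xe E.good 6 s ∈ H → xe E.good 6 t ∈ H → xe E.good 6 (s * t) ∈ H := by
  have hG := E.good
  have h56 : chevB2.commTerms 5 6 = [(7, 2, 1, 1)] := by decide +kernel
  have hhalf : ∀ s t : F, xe hG 6 s ∈ H → xe hG 6 t ∈ H → xe hG 7 (s * t) ∈ H := by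
    intro s t hs ht
    have h := word_mem E (i := 5) (j := 6) (by decide) (by decide) (by decide) (by decide +kernel)
      ((hC.short s).2 hs) ht
    simp only [h56, List.map_cons, List.map_nil, List.prod_cons, List.prod_nil, mul_one, pow_one] at h
    have hm : (2 : ℕ) * ((p + 1) / 2) = p + 1 := by
      rcases (Fact.out : p.Prime).eq_two_or_odd with h | h
      · exact absurd h hp
      · omega
    have h' := (params E H (s := 7) (by decide)).nsmul_mem ((neg_iff E (by decide) _).2 h) ((p + 1) / 2)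
    show s * t ∈ params E H (s := 7) (by decide)
    convert h' using 1
    rw [nsmul_eq_mul]
    have e : ((2 : ℕ) : F) * (((p + 1) / 2 : ℕ) : F) = 1 := by
      rw [← Nat.cast_mul, hm, Nat.cast_add, CharP.cast_eq_zero, zero_add, Nat.cast_one]
    push_cast at e ⊢
    linear_combination (-(s * t)) * e
  exact ⟨fun t ht => by simpa using hhalf t 1 ht (over_xe E hC.isOver (by decide) (map_one φ)),
    fun s t hs ht => hC.long_sub_short E (hhalf s t hs ht)⟩

/-- In characteristic two the parameters are closed under products. -/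
theorem B2Ctx.params_two (hC : B2Ctx φ H E) [CharP F 2] [Finite H] :
    (∀ t : F, xe E.good 6 t ∈ H → xe E.good 7 t ∈ H) ∧
      ∀ s t : F, xe E.good 6 s ∈ H → xe E.good 6 t ∈ H → xe E.good 6 (s * t) ∈ H := by
  classical
  have hG := E.good
  have h2 : (2 : F) = 0 := CharTwo.two_eq_zero
  have hsqinj : Function.Injective fun x : F => x ^ 2 := fun x y h => by
    simp only at h
    exact sub_eq_zero.1 (sq_eq_zero_iff.1 (by linear_combination h + (y ^ 2 - x * y) * h2))
  set A := params E H (s := 6) (by decide) with hA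
  have : Finite A := Finite.of_injective (fun a : A => (⟨xe hG 6 a.1, a.2⟩ : H))
    fun a b h => Subtype.ext (xe_inj hG E.facts (by decide) (congrArg Subtype.val h))
  -- short parameters are squares of short parameters
  have hroot : ∀ t ∈ A, ∃ s ∈ A, s ^ 2 = t := by
    intro t ht
    let f : A → A := fun s => ⟨s.1 ^ 2, hC.long_sub_short E (hC.sq_mem E s.2)⟩
    have hf : Function.Injective f := fun a b h => Subtype.ext (hsqinj (congrArg Subtype.val h))
    obtain ⟨s, hs⟩ := Finite.surjective_of_injective hf ⟨t, ht⟩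
    exact ⟨s.1, s.2, congrArg Subtype.val hs⟩
  have h67 : ∀ t : F, xe hG 6 t ∈ H → xe hG 7 t ∈ H := by
    intro t ht
    obtain ⟨s, hs, rfl⟩ := hroot t ht
    exact hC.sq_mem E hs
  have h1A : (1 : F) ∈ A := over_xe E hC.isOver (by decide) (map_one φ)
  -- the multipliers
  let R : AddSubgroup F :=
    { carrier := {x | ∀ w ∈ A, x * w ∈ A}
      zero_mem' := fun w _ => by simp [A.zero_mem]
      add_mem' := fun {a b} ha hb w hw => by rw [add_mul]; exact A.add_mem (ha w hw) (hb w hw)
      neg_mem' := fun {a} ha w hw => by rw [neg_mul]; exact A.neg_mem (ha w hw) }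
  have hR1 : (1 : F) ∈ R := fun w hw => by rwa [one_mul]
  have hRA : ∀ x ∈ R, x ∈ A := fun x hx => by simpa using hx 1 h1A
  have hRmul : ∀ x ∈ R, ∀ y ∈ R, x * y ∈ R := fun x hx y hy w hw => by
    rw [mul_assoc]; exact hx _ (hy w hw)
  have hmult : ∀ v ∈ A, v + v ^ 2 ∈ R := by
    intro v hv w hw
    obtain ⟨s, hs, rfl⟩ := hroot w hw
    have h := hC.terms45 E ((hC.long v).2 (h67 v hv)) ((hC.short s).2 hs)
    rw [show -v * s = v * s by linear_combination (-(v * s)) * h2] at h
    have hd := (hC.diag_mem E h2 h).2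
    have h' := H.mul_mem (H.inv_mem h) hd
    rw [mul_inv_rev, mul_assoc, inv_mul_cancel_left, xe_inv hG (by decide), xe_add hG (by decide)] at h'
    have h'' := hC.long_sub_short E h'
    show xe hG 6 ((v + v ^ 2) * s ^ 2) ∈ H
    convert h'' using 2
    linear_combination (v * s ^ 2) * h2
  refine ⟨h67, fun v w hv hw => ?_⟩
  by_cases hρ : ∃ ρ ∈ R, ρ ≠ 0 ∧ ρ ≠ 1
  · obtain ⟨ρ, hρR, hρ0, hρ1⟩ := hρ
    set e := ρ + ρ ^ 2 with he
    have he0 : e ≠ 0 := by
      rw [he, show ρ + ρ ^ 2 = ρ * (1 + ρ) by ring]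
      exact mul_ne_zero hρ0 fun h => hρ1 (by linear_combination h - h2)
    have heR : e ∈ R := R.add_mem hρR (by rw [pow_two]; exact hRmul _ hρR _ hρR)
    have : Finite R := Finite.of_injective (fun x : R => (⟨x.1, hRA _ x.2⟩ : A))
      fun a b h => Subtype.ext (congrArg Subtype.val h :)
    obtain ⟨x, hx⟩ := Finite.surjective_of_injective (f := fun x : R => (⟨e * x.1, hRmul _ heR _ x.2⟩ : R))
      (fun a b h => Subtype.ext (mul_left_cancel₀ he0 (congrArg Subtype.val h :))) ⟨1, hR1⟩
    have hx' : e * x.1 = 1 := congrArg Subtype.val hx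
    have h3 : e * v ∈ R := by
      have h4 := R.add_mem (hmult _ (hρR v hv))
        (hRmul _ (hRmul _ hρR _ hρR) _ (hmult v hv))
      convert h4 using 1
      rw [he]
      linear_combination (-(ρ ^ 2 * v ^ 2)) * h2
    have hvR : v ∈ R := by
      have := hRmul _ x.2 _ h3
      rwa [← mul_assoc, mul_comm x.1, hx', one_mul] at this
    exact hvR w hw
  · push Not at hρ
    have h01 : ∀ u ∈ A, u + u ^ 2 = 0 ∨ u + u ^ 2 = 1 := fun u hu =>
      or_iff_not_imp_left.2 fun h => hρ _ (hmult u hu) h
    have h0cases : ∀ u : F, u + u ^ 2 = 0 → u = 0 ∨ u = 1 := fun u h => by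
      rcases mul_eq_zero.1 (show u * (1 + u) = 0 by linear_combination h) with h' | h'
      · exact Or.inl h'
      · exact Or.inr (by linear_combination h' - h2)
    rcases h01 v hv with h | h
    · rcases h0cases v h with rfl | rfl
      · simp [xe_zero hG (show 6 < chevB2.nroots by decide)]
      · rwa [one_mul]
    rcases h01 w hw with h' | h'
    · rcases h0cases w h' with rfl | rfl
      · simp [xe_zero hG (show 6 < chevB2.nroots by decide)]
      · rwa [mul_one]
    rcases mul_eq_zero.1 (show (w - v) * (w + v + 1) = 0 by linear_combination h' - h) with h'' | h''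
    · show v * w ∈ A
      rw [show v * w = 1 - v by linear_combination v * h'' + h]
      exact A.sub_mem h1A hv
    · show v * w ∈ A
      rw [show v * w = 1 by linear_combination v * h'' + h - (v + v ^ 2) * h2]
      exact h1A

theorem b2Ctx_of_over (hH : Over φ H) : B2Ctx φ H E := by
  refine ⟨hH, fun t => ?_, fun t => ?_⟩
  · have := mem_refl_iff E hH (i := 0) (s := 7) (by decide) (by decide) t
    rwa [show chevB2.reflectRoot 0 7 = 4 by decide +kernel] at this
  · have := mem_refl_iff E hH (i := 1) (s := 6) (by decide) (by decide) t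
    rwa [show chevB2.reflectRoot 1 6 = 5 by decide +kernel] at this

theorem generates_B2 [Fintype F] : Generates F chevB2 := by
  intro φ q r hφ H hH u huH huU hu
  obtain ⟨E, hT, hL⟩ := exists_env_B2
  have hG := E.good
  have hC := b2Ctx_of_over E hH
  obtain ⟨d, hdH, hd, hdn⟩ := exists_top_elem E (hφ.descends E.good E.facts) hH huH huU hu
  have hirr := hC.irr_top E hT hdH hd hdn
  obtain ⟨p, hp⟩ := CharP.exists F
  have : Fact p.Prime := ⟨(CharP.char_is_prime_or_zero F p).resolve_right (CharP.char_ne_zero_of_finite F p)⟩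
  have hp' : (∀ t : F, xe hG 6 t ∈ H → xe hG 7 t ∈ H) ∧
      ∀ s t : F, xe hG 6 s ∈ H → xe hG 6 t ∈ H → xe hG 6 (s * t) ∈ H := by
    rcases eq_or_ne p 2 with rfl | hp2
    · exact hC.params_two E
    · exact hC.params_odd E p hp2
  have h : Full E H 6 ∧ Full E H 7 := by
    obtain ⟨c, hc, hm⟩ := hirr
    have h6 := full_of_mul E hφ hH (s := 6) (by decide) hp'.2 ⟨c, hc, hC.long_sub_short E hm⟩
    exact ⟨h6, fun t => hp'.1 t (h6 t)⟩
  refine group_le_of_full_tops E hH ?_
  simp only [hT, List.mem_cons, List.not_mem_nil, or_false, forall_eq_or_imp, forall_eq]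
  exact ⟨h.2, h.1⟩

end Cfsg.Agent.Chev.Subfield
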