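/-
Generation over the subfield subgroup, type F₄.
-/
import Cfsg.Agent.Lib.Chev.Subfield.SimplyLaced

set_option autoImplicit false
set_option maxRecDepth 20000

namespace Cfsg.Agent.Chev.Subfield

open Cfsg.Lie
open Cfsg.Agent.Chev.BNSetup

variable {F : Type*} [Field F] {φ : F ≃+* F} {H : Subgroup (GL chevF4.Idx F)}

/-- An irrational element of the groups of the highest roots gives an irrational long root element. -/
theorem irr_F4 (E : Env chevF4) (hT : E.T = [47, 44]) (hL : E.L = longF4) (hH : Over φ H)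
    {d : GL chevF4.Idx F} (hdH : d ∈ H) (hd : d ∈ rootGen E.good F {s : Fin chevF4.nroots | s.val ∈ E.T})
    (hdn : entryMap chevF4 (φ : F →+* F) d ≠ d) : Irr E φ H 47 := by
  have hG := E.good
  have hLmem : ∀ s, s ∈ E.L ↔ s ∈ longF4 := fun s => by rw [hL]
  have hTL : ∀ h ∈ E.T, (h ∈ E.L ↔ True) → h = 47 := by
    intro h hh hi
    rw [hLmem, iff_true] at hi
    simp only [hT, List.mem_cons, List.not_mem_nil, or_false] at hh
    rcases hh with rfl | rfl
    · rfl
    · exact absurd hi (by decide)
  have hTS : ∀ h ∈ E.T, (h ∈ E.L ↔ False) → h = 44 := by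
    intro h hh hi
    rw [hLmem, iff_false] at hi
    simp only [hT, List.mem_cons, List.not_mem_nil, or_false] at hh
    rcases hh with rfl | rfl
    · exact absurd (by decide) hi
    · rfl
  have long : ∀ s : ℕ, s < 48 → 24 ≤ s → s ∈ longF4 → ∀ t : F, xe hG s t ∈ H ↔ xe hG 47 t ∈ H :=
    fun s h1 h2 h3 t => mem_iff_top E hH True hTL h1 h2 (iff_true_intro ((hLmem s).2 h3)) t
  have short : ∀ s : ℕ, s < 48 → 24 ≤ s → s ∉ longF4 → ∀ t : F, xe hG s t ∈ H ↔ xe hG 44 t ∈ H :=
    fun s h1 h2 h3 t => mem_iff_top E hH False hTS h1 h2 (iff_false_intro fun h => h3 ((hLmem s).1 h)) t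
  have hterms : chevF4.commTerms 25 27 = [(28, 1, 1, 1), (30, -1, 1, 2)] := by decide +kernel
  have hword : ∀ t v : F, xe hG 25 t ∈ H → xe hG 27 v ∈ H →
      xe hG 28 (-t * v) * xe hG 30 (t * v ^ 2) ∈ H := by
    intro t v ht hv
    have := word_mem E (i := 25) (j := 27) (by decide) (by decide) (by decide) (by decide +kernel) ht hv
    simpa [hterms] using this
  obtain ⟨a, b, rfl⟩ := rootGen_pair E hT (by decide) hd
  by_cases ha : φ a = a
  · have hb : φ b ≠ b := fun hb => hdn (by rw [map_mul, entryMap_xe hG, entryMap_xe hG]; simp [ha, hb])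
    have hbH : xe hG 44 b ∈ H := (H.mul_mem_cancel_left (over_xe E hH (by decide) ha)).1 hdH
    have hsq : ∀ s : F, xe hG 44 s ∈ H → xe hG 47 (s ^ 2) ∈ H := by
      intro s hs
      have h1 : xe hG 27 s ∈ H := (short 27 (by decide) (by decide) (by decide) s).2 hs
      have h2 := hword 1 s (over_xe E hH (by decide) (map_one φ)) h1
      have h3 : xe hG 28 (-1 * s) ∈ H := by
        rw [neg_one_mul, neg_iff E (by decide)]
        exact (short 28 (by decide) (by decide) (by decide) s).2 hs
      have h4 := (H.mul_mem_cancel_left h3).1 h2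
      rw [one_mul] at h4
      exact (long 30 (by decide) (by decide) (by decide) _).1 h4
    rcases sq_irrational hb with h | h
    · exact ⟨b ^ 2, h, hsq b hbH⟩
    · refine ⟨(b + 1) ^ 2, h, hsq _ ?_⟩
      rw [← xe_add hG (by decide)]
      exact H.mul_mem hbH (over_xe E hH (by decide) (map_one φ))
  · obtain ⟨c, v, hc, -, -, hm⟩ := exists_pair_elem E hH (i := 3) (a' := 46) (by decide) (by decide) (by decide)
      (by decide +kernel) (by decide +kernel)
      (fun t u => commute_of_commTerms_nil E (by decide) (by decide) (by decide) (by decide +kernel)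
        (by decide +kernel) t u) ha hdH
    exact ⟨c, hc, mem_of_pair_elem E hH (u := 24) (a' := 46) (ε := 1) (Or.inl rfl) (by decide) (by decide)
      (by decide) (by decide) (by decide +kernel) (by decide +kernel) (by decide) (by decide +kernel)
      (by decide +kernel) hm⟩

/-- Long parameters are short parameters. -/
theorem short_of_long_F4 (E : Env chevF4) (hT : E.T = [47, 44]) (hL : E.L = longF4) (hH : Over φ H) {t : F}
    (h47 : xe E.good 47 t ∈ H) : xe E.good 44 t ∈ H := by
  have hG := E.good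
  have hLmem : ∀ s, s ∈ E.L ↔ s ∈ longF4 := fun s => by rw [hL]
  have hTL : ∀ h ∈ E.T, (h ∈ E.L ↔ True) → h = 47 := by
    intro h hh hi
    rw [hLmem, iff_true] at hi
    simp only [hT, List.mem_cons, List.not_mem_nil, or_false] at hh
    rcases hh with rfl | rfl
    · rfl
    · exact absurd hi (by decide)
  have hTS : ∀ h ∈ E.T, (h ∈ E.L ↔ False) → h = 44 := by
    intro h hh hi
    rw [hLmem, iff_false] at hi
    simp only [hT, List.mem_cons, List.not_mem_nil, or_false] at hh
    rcases hh with rfl | rfl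
    · exact absurd (by decide) hi
    · rfl
  have long : ∀ s : ℕ, s < 48 → 24 ≤ s → s ∈ longF4 → ∀ t : F, xe hG s t ∈ H ↔ xe hG 47 t ∈ H :=
    fun s h1 h2 h3 t => mem_iff_top E hH True hTL h1 h2 (iff_true_intro ((hLmem s).2 h3)) t
  have short : ∀ s : ℕ, s < 48 → 24 ≤ s → s ∉ longF4 → ∀ t : F, xe hG s t ∈ H ↔ xe hG 44 t ∈ H :=
    fun s h1 h2 h3 t => mem_iff_top E hH False hTS h1 h2 (iff_false_intro fun h => h3 ((hLmem s).1 h)) t
  have hterms : chevF4.commTerms 25 27 = [(28, 1, 1, 1), (30, -1, 1, 2)] := by decide +kernel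
  have hword : ∀ t v : F, xe hG 25 t ∈ H → xe hG 27 v ∈ H →
      xe hG 28 (-t * v) * xe hG 30 (t * v ^ 2) ∈ H := by
    intro t v ht hv
    have := word_mem E (i := 25) (j := 27) (by decide) (by decide) (by decide) (by decide +kernel) ht hv
    simpa [hterms] using this
  have h2 := hword t 1 ((long 25 (by decide) (by decide) (by decide) t).2 h47) (over_xe E hH (by decide) (map_one φ))
  have h3 := (H.mul_mem_cancel_right ((long 30 (by decide) (by decide) (by decide) _).2 (by rwa [one_pow, mul_one]))).1 h2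
  rw [mul_one, neg_iff E (by decide)] at h3
  exact (short 28 (by decide) (by decide) (by decide) t).1 h3

theorem generates_F4 [Fintype F] : Generates F chevF4 := by
  intro φ q r hφ H hH u huH huU hu
  obtain ⟨E, hT, hL⟩ := exists_env_F4
  have hG := E.good
  have hLmem : ∀ s, s ∈ E.L ↔ s ∈ longF4 := fun s => by rw [hL]
  have hTL : ∀ h ∈ E.T, (h ∈ E.L ↔ True) → h = 47 := by
    intro h hh hi
    rw [hLmem, iff_true] at hi
    simp only [hT, List.mem_cons, List.not_mem_nil, or_false] at hh
    rcases hh with rfl | rfl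
    · rfl
    · exact absurd hi (by decide)
  have hTS : ∀ h ∈ E.T, (h ∈ E.L ↔ False) → h = 44 := by
    intro h hh hi
    rw [hLmem, iff_false] at hi
    simp only [hT, List.mem_cons, List.not_mem_nil, or_false] at hh
    rcases hh with rfl | rfl
    · exact absurd (by decide) hi
    · rfl
  have long : ∀ s : ℕ, s < 48 → 24 ≤ s → s ∈ longF4 → ∀ t : F, xe hG s t ∈ H ↔ xe hG 47 t ∈ H :=
    fun s h1 h2 h3 t => mem_iff_top E hH True hTL h1 h2 (iff_true_intro ((hLmem s).2 h3)) t
  have short : ∀ s : ℕ, s < 48 → 24 ≤ s → s ∉ longF4 → ∀ t : F, xe hG s t ∈ H ↔ xe hG 44 t ∈ H :=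
    fun s h1 h2 h3 t => mem_iff_top E hH False hTS h1 h2 (iff_false_intro fun h => h3 ((hLmem s).1 h)) t
  have hterms : chevF4.commTerms 25 27 = [(28, 1, 1, 1), (30, -1, 1, 2)] := by decide +kernel
  have hword : ∀ t v : F, xe hG 25 t ∈ H → xe hG 27 v ∈ H →
      xe hG 28 (-t * v) * xe hG 30 (t * v ^ 2) ∈ H := by
    intro t v ht hv
    have := word_mem E (i := 25) (j := 27) (by decide) (by decide) (by decide) (by decide +kernel) ht hv
    simpa [hterms] using this
  obtain ⟨d, hdH, hd, hdn⟩ := exists_top_elem E (hφ.descends E.good E.facts) hH huH huU hu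
  have hirr := irr_F4 E hT hL hH hdH hd hdn
  have h47 : Full E H 47 := full_of_pair E hφ hH (i := 24) (j := 46) (ε := 1) (Or.inl rfl)
    (fun h hh hl => hTL h hh (iff_true_intro hl)) (by decide) ((hLmem _).2 (by decide)) (by decide)
    ((hLmem _).2 (by decide)) (by decide) (by decide) (by decide +kernel) (by decide +kernel) hirr
  refine group_le_of_full_tops E hH ?_
  simp only [hT, List.mem_cons, List.not_mem_nil, or_false, forall_eq_or_imp, forall_eq]
  exact ⟨h47, fun t => short_of_long_F4 E hT hL hH (h47 t)⟩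

end Cfsg.Agent.Chev.Subfield
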