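/-
Generation over the subfield subgroup, type G₂.
-/
import Cfsg.Agent.Lib.Chev.Subfield.SimplyLaced

set_option autoImplicit false
set_option maxRecDepth 20000

namespace Cfsg.Agent.Chev.Subfield

open Cfsg.Lie
open Cfsg.Agent.Chev.BNSetup

variable {F : Type*} [Field F] {φ : F ≃+* F} {H : Subgroup (GL chevG2.Idx F)}

/-- An irrational element of the groups of the highest roots gives an irrational long root element. -/
theorem irr_G2 (E : Env chevG2) (hT : E.T = [11, 9]) (hL : E.L = longG2) (hH : Over φ H)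
    {d : GL chevG2.Idx F} (hdH : d ∈ H) (hd : d ∈ rootGen E.good F {s : Fin chevG2.nroots | s.val ∈ E.T})
    (hdn : entryMap chevG2 (φ : F →+* F) d ≠ d) : Irr E φ H 11 := by
  have hG := E.good
  have hLmem : ∀ s, s ∈ E.L ↔ s ∈ longG2 := fun s => by rw [hL]
  have hTL : ∀ h ∈ E.T, (h ∈ E.L ↔ True) → h = 11 := by
    intro h hh hi
    rw [hLmem, iff_true] at hi
    simp only [hT, List.mem_cons, List.not_mem_nil, or_false] at hh
    rcases hh with rfl | rfl
    · rfl
    · exact absurd hi (by decide)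
  have hTS : ∀ h ∈ E.T, (h ∈ E.L ↔ False) → h = 9 := by
    intro h hh hi
    rw [hLmem, iff_false] at hi
    simp only [hT, List.mem_cons, List.not_mem_nil, or_false] at hh
    rcases hh with rfl | rfl
    · exact absurd (by decide) hi
    · rfl
  have long : ∀ s : ℕ, s < 12 → 6 ≤ s → s ∈ longG2 → ∀ t : F, xe hG s t ∈ H ↔ xe hG 11 t ∈ H :=
    fun s h1 h2 h3 t => mem_iff_top E hH True hTL h1 h2 (iff_true_intro ((hLmem s).2 h3)) t
  have short : ∀ s : ℕ, s < 12 → 6 ≤ s → s ∉ longG2 → ∀ t : F, xe hG s t ∈ H ↔ xe hG 9 t ∈ H :=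
    fun s h1 h2 h3 t => mem_iff_top E hH False hTS h1 h2 (iff_false_intro fun h => h3 ((hLmem s).1 h)) t
  have hone : ∀ s : ℕ, s < 12 → xe hG s (1 : F) ∈ H := fun s hs => over_xe E hH hs (map_one φ)
  -- the terms of the commutator of the fundamental roots
  have ht67 : chevG2.commTerms 6 7 = [(8, 1, 1, 1), (9, 1, 1, 2), (10, -1, 1, 3), (11, -2, 2, 3)] := by decide +kernel
  have hword : ∀ t v : F, xe hG 6 t ∈ H → xe hG 7 v ∈ H →
      xe hG 8 (-t * v) * (xe hG 9 (-t * v ^ 2) * (xe hG 10 (t * v ^ 3) * xe hG 11 (-2 * t ^ 2 * v ^ 3))) ∈ H := by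
    intro t v ht hv
    have := word_mem E (i := 6) (j := 7) (by decide) (by decide) (by decide) (by decide +kernel) ht hv
    simp only [ht67, List.map_cons, List.map_nil, List.prod_cons, List.prod_nil, mul_one, pow_one] at this
    convert this using 6 <;> push_cast <;> ring
  have hcom : ∀ i j : ℕ, i < 12 → j < 12 → j ≠ i → j ≠ chevG2.neg i → chevG2.commTerms i j = [] →
      ∀ t v : F, Commute (xe hG i t) (xe hG j v) := fun i j h1 h2 h3 h4 h5 t v =>
    commute_of_commTerms_nil E h1 h2 h3 h4 h5 t v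
  obtain ⟨a, b, rfl⟩ := rootGen_pair E hT (by decide) hd
  have hextract : ∀ c v : F, xe hG 10 c * xe hG 11 v ∈ H → xe hG 11 c ∈ H := fun c v hm =>
    mem_of_pair_elem E hH (u := 6) (a' := 10) (ε := 1) (Or.inl rfl) (by decide) (by decide)
      (by decide) (by decide) (by decide +kernel) (by decide +kernel) (by decide) (by decide +kernel)
      (by decide +kernel) hm
  by_cases ha : φ a = a
  · have hb : φ b ≠ b := fun hb => hdn (by rw [map_mul, entryMap_xe hG, entryMap_xe hG]; simp [ha, hb])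
    have hbH : xe hG 9 b ∈ H := (H.mul_mem_cancel_left (over_xe E hH (by decide) ha)).1 hdH
    have h7 : xe hG 7 b ∈ H := (short 7 (by decide) (by decide) (by decide) b).2 hbH
    by_cases h3 : (3 : F) = 0
    · have h2 : (2 : F) ≠ 0 := fun h => one_ne_zero (α := F) (by linear_combination h3 - h)
      have key : ∀ v : F, xe hG 7 v ∈ H →
          xe hG 9 (-v ^ 2) * (xe hG 10 (v ^ 3) * xe hG 11 (-2 * v ^ 3)) ∈ H := by
        intro v hv
        have h := hword 1 v (hone 6 (by decide)) hv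
        have h8 : xe hG 8 (-1 * v) ∈ H := by
          rw [neg_one_mul, neg_iff E (by decide), short 8 (by decide) (by decide) (by decide)]
          exact (short 7 (by decide) (by decide) (by decide) v).1 hv
        have h' := (H.mul_mem_cancel_left h8).1 h
        simpa using h'
      have hA := key b h7
      have hB := key (-b) ((neg_iff E (by decide) b).2 h7)
      have hAB : xe hG 10 (2 * b ^ 3) * xe hG 11 (-4 * b ^ 3) ∈ H := by
        have c1 := hcom 9 10 (by decide) (by decide) (by decide) (by decide +kernel) (by decide +kernel)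
        have c2 := hcom 9 11 (by decide) (by decide) (by decide) (by decide +kernel) (by decide +kernel)
        have c3 := hcom 10 11 (by decide) (by decide) (by decide) (by decide +kernel) (by decide +kernel)
        have h := H.mul_mem hA (H.inv_mem hB)
        have e : xe hG 9 (-b ^ 2) * (xe hG 10 (b ^ 3) * xe hG 11 (-2 * b ^ 3)) *
            (xe hG 9 (-(-b) ^ 2) * (xe hG 10 ((-b) ^ 3) * xe hG 11 (-2 * (-b) ^ 3)))⁻¹ =
            xe hG 10 (2 * b ^ 3) * xe hG 11 (-4 * b ^ 3) := by
          rw [show (-b) ^ 2 = b ^ 2 by ring, show (-b) ^ 3 = -b ^ 3 by ring, mul_inv_rev, mul_inv_rev,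
            xe_inv hG (by decide), xe_inv hG (by decide), xe_inv hG (by decide), neg_neg, neg_neg]
          rw [(c3 _ _).eq, show -(-2 * -b ^ 3) = -2 * b ^ 3 by ring]
          have c9 : Commute (xe hG 9 (-b ^ 2)) (xe hG 11 (-2 * b ^ 3) * xe hG 10 (b ^ 3) *
              (xe hG 11 (-2 * b ^ 3) * xe hG 10 (b ^ 3))) :=
            ((c2 _ _).mul_right (c1 _ _)).mul_right ((c2 _ _).mul_right (c1 _ _))
          calc xe hG 9 (-b ^ 2) * (xe hG 11 (-2 * b ^ 3) * xe hG 10 (b ^ 3)) *
                (xe hG 11 (-2 * b ^ 3) * xe hG 10 (b ^ 3) * xe hG 9 (b ^ 2))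
              = xe hG 9 (-b ^ 2) * (xe hG 11 (-2 * b ^ 3) * xe hG 10 (b ^ 3) *
                (xe hG 11 (-2 * b ^ 3) * xe hG 10 (b ^ 3))) * xe hG 9 (b ^ 2) := by group
            _ = xe hG 11 (-2 * b ^ 3) * (xe hG 10 (b ^ 3) * xe hG 11 (-2 * b ^ 3)) * xe hG 10 (b ^ 3) := by
              rw [c9.eq, mul_assoc _ (xe hG 9 (-b ^ 2)), xe_add hG (by decide), neg_add_cancel,
                xe_zero hG (by decide), mul_one]
              group
            _ = _ := by
              rw [(c3 _ _).eq, ← mul_assoc, xe_add hG (by decide), mul_assoc, xe_add hG (by decide), ← (c3 _ _).eq]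
              congr 2 <;> ring
        rwa [e] at h
      refine ⟨2 * b ^ 3, fun h => ?_, hextract _ _ hAB⟩
      rw [map_mul, map_ofNat, map_pow] at h
      refine hb (sub_eq_zero.1 (eq_zero_of_pow_eq_zero (n := 3) ?_))
      linear_combination (mul_left_cancel₀ h2 h) + (φ b * b ^ 2 - φ b ^ 2 * b) * h3
    · have ht79 : chevG2.commTerms 7 9 = [(10, 3, 1, 1)] := by decide +kernel
      have h := word_mem E (i := 7) (j := 9) (by decide) (by decide) (by decide) (by decide +kernel)
        (hone 7 (by decide)) hbH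
      simp only [ht79, List.map_cons, List.map_nil, List.prod_cons, List.prod_nil, mul_one, pow_one] at h
      refine ⟨_, fun h' => ?_, (long 10 (by decide) (by decide) (by decide) _).1 h⟩
      push_cast at h'
      rw [map_mul, map_mul, map_neg, map_ofNat, map_one] at h'
      exact hb (mul_left_cancel₀ (neg_ne_zero.2 h3) (by linear_combination h'))
  · obtain ⟨c, v, hc, -, -, hm⟩ := exists_pair_elem E hH (i := 1) (a' := 10) (by decide) (by decide) (by decide)
      (by decide +kernel) (by decide +kernel)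
      (hcom 11 9 (by decide) (by decide) (by decide) (by decide +kernel) (by decide +kernel)) ha hdH
    exact ⟨c, hc, hextract c v hm⟩

/-- Long parameters in a subfield are short parameters. -/
theorem short_of_long_G2 (E : Env chevG2) (hT : E.T = [11, 9]) (hL : E.L = longG2) (hH : Over φ H) (S : Subfield F)
    (h11S : ∀ t ∈ S, xe E.good 11 t ∈ H) {v : F} (hvS : v ∈ S) : xe E.good 9 v ∈ H := by
  have hG := E.good
  have hLmem : ∀ s, s ∈ E.L ↔ s ∈ longG2 := fun s => by rw [hL]
  have hTL : ∀ h ∈ E.T, (h ∈ E.L ↔ True) → h = 11 := by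
    intro h hh hi
    rw [hLmem, iff_true] at hi
    simp only [hT, List.mem_cons, List.not_mem_nil, or_false] at hh
    rcases hh with rfl | rfl
    · rfl
    · exact absurd hi (by decide)
  have hTS : ∀ h ∈ E.T, (h ∈ E.L ↔ False) → h = 9 := by
    intro h hh hi
    rw [hLmem, iff_false] at hi
    simp only [hT, List.mem_cons, List.not_mem_nil, or_false] at hh
    rcases hh with rfl | rfl
    · exact absurd (by decide) hi
    · rfl
  have long : ∀ s : ℕ, s < 12 → 6 ≤ s → s ∈ longG2 → ∀ t : F, xe hG s t ∈ H ↔ xe hG 11 t ∈ H :=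
    fun s h1 h2 h3 t => mem_iff_top E hH True hTL h1 h2 (iff_true_intro ((hLmem s).2 h3)) t
  have short : ∀ s : ℕ, s < 12 → 6 ≤ s → s ∉ longG2 → ∀ t : F, xe hG s t ∈ H ↔ xe hG 9 t ∈ H :=
    fun s h1 h2 h3 t => mem_iff_top E hH False hTS h1 h2 (iff_false_intro fun h => h3 ((hLmem s).1 h)) t
  have hone : ∀ s : ℕ, s < 12 → xe hG s (1 : F) ∈ H := fun s hs => over_xe E hH hs (map_one φ)
  -- the terms of the commutator of the fundamental roots
  have ht67 : chevG2.commTerms 6 7 = [(8, 1, 1, 1), (9, 1, 1, 2), (10, -1, 1, 3), (11, -2, 2, 3)] := by decide +kernel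
  have hword : ∀ t v : F, xe hG 6 t ∈ H → xe hG 7 v ∈ H →
      xe hG 8 (-t * v) * (xe hG 9 (-t * v ^ 2) * (xe hG 10 (t * v ^ 3) * xe hG 11 (-2 * t ^ 2 * v ^ 3))) ∈ H := by
    intro t v ht hv
    have := word_mem E (i := 6) (j := 7) (by decide) (by decide) (by decide) (by decide +kernel) ht hv
    simp only [ht67, List.map_cons, List.map_nil, List.prod_cons, List.prod_nil, mul_one, pow_one] at this
    convert this using 6 <;> push_cast <;> ring
  have hcom : ∀ i j : ℕ, i < 12 → j < 12 → j ≠ i → j ≠ chevG2.neg i → chevG2.commTerms i j = [] →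
      ∀ t v : F, Commute (xe hG i t) (xe hG j v) := fun i j h1 h2 h3 h4 h5 t v =>
    commute_of_commTerms_nil E h1 h2 h3 h4 h5 t v
  have h6 : ∀ t ∈ S, xe hG 6 t ∈ H := fun t ht => (long 6 (by decide) (by decide) (by decide) t).2 (h11S t ht)
  have h10 : ∀ t ∈ S, xe hG 10 t ∈ H := fun t ht => (long 10 (by decide) (by decide) (by decide) t).2 (h11S t ht)
  have h5 : ∀ t ∈ S, xe hG 5 t ∈ H := fun t ht => by
    rw [show (5 : ℕ) = chevG2.reflectRoot 1 6 by decide +kernel, mem_refl_iff E hH (by decide) (by decide)]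
    exact h6 t ht
  have h1S := S.one_mem
  by_cases hv : v = 0
  · rw [hv, xe_zero hG (by decide)]; exact H.one_mem
  -- a product of two short root elements, in both orders
  have c911 := hcom 9 11 (by decide) (by decide) (by decide) (by decide +kernel) (by decide +kernel)
  have hy : xe hG 8 v * xe hG 9 v ∈ H := by
    have h := hword (-v) 1 (h6 _ (S.neg_mem hvS)) (hone 7 (by decide))
    have h' := H.mul_mem h (H.inv_mem (H.mul_mem (h10 (-v * 1 ^ 3) (mul_mem (neg_mem hvS) (pow_mem h1S 3)))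
      (h11S (-2 * (-v) ^ 2 * 1 ^ 3) (mul_mem (mul_mem (neg_mem (ofNat_mem S 2)) (pow_mem (neg_mem hvS) 2)) (pow_mem h1S 3)))))
    rw [← mul_assoc, mul_inv_cancel_right] at h'
    simpa using h'
  have ht89 : chevG2.commTerms 8 9 = [(11, -3, 1, 1)] ∨ chevG2.commTerms 8 9 = [(11, 3, 1, 1)] := by decide +kernel
  have e89 : ∃ z ∈ H, xe hG 9 v * xe hG 8 v = xe hG 8 v * xe hG 9 v * z := by
    have e := comm_eq E (i := 8) (j := 9) (by decide) (by decide) (by decide) (by decide +kernel) v v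
    refine ⟨_, ?_, e⟩
    rcases ht89 with h | h <;>
    · simp only [h, List.map_cons, List.map_nil, List.prod_cons, List.prod_nil, mul_one]
      exact h11S _ (by repeat' first | exact hvS | exact intCast_mem S _ | apply mul_mem | apply neg_mem | apply pow_mem)
  obtain ⟨z, hz, ez⟩ := e89
  have hy' : xe hG 9 v * xe hG 8 v ∈ H := ez ▸ H.mul_mem hy hz
  have e58 := comm_eq E (i := 5) (j := 8) (by decide) (by decide) (by decide) (by decide +kernel) (-(v⁻¹)) v
  have ht58 : chevG2.commTerms 5 8 = [(7, 1, 1, 1), (9, -1, 1, 2), (11, 1, 1, 3), (10, 2, 2, 3)] := by decide +kernel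
  simp only [ht58, List.map_cons, List.map_nil, List.prod_cons, List.prod_nil, mul_one, pow_one, neg_neg] at e58
  set W := xe hG 7 ((1 : ℤ) * v⁻¹ * v : F) * (xe hG 9 ((-1 : ℤ) * v⁻¹ * v ^ 2 : F) *
    (xe hG 11 ((1 : ℤ) * v⁻¹ * v ^ 3 : F) * xe hG 10 ((2 : ℤ) * v⁻¹ ^ 2 * v ^ 3 : F))) with hW
  have c95 := hcom 9 5 (by decide) (by decide) (by decide) (by decide +kernel) (by decide +kernel) v (-(v⁻¹))
  have e2 : xe hG 9 v * xe hG 8 v * xe hG 5 (-(v⁻¹)) = xe hG 5 (-(v⁻¹)) * (xe hG 9 v * xe hG 8 v) * W := by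
    calc xe hG 9 v * xe hG 8 v * xe hG 5 (-(v⁻¹))
        = xe hG 9 v * (xe hG 5 (-(v⁻¹)) * xe hG 8 v * W) := by rw [mul_assoc, e58]
      _ = (xe hG 9 v * xe hG 5 (-(v⁻¹))) * xe hG 8 v * W := by group
      _ = _ := by rw [c95.eq]; group
  have hWH : W ∈ H := by
    have : W = (xe hG 5 (-(v⁻¹)) * (xe hG 9 v * xe hG 8 v))⁻¹ * (xe hG 9 v * xe hG 8 v * xe hG 5 (-(v⁻¹))) := by
      rw [e2]; group
    rw [this]
    exact H.mul_mem (H.inv_mem (H.mul_mem (h5 _ (neg_mem (inv_mem hvS))) hy')) (H.mul_mem hy' (h5 _ (neg_mem (inv_mem hvS))))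
  have h7 : xe hG 7 ((1 : ℤ) * v⁻¹ * v : F) ∈ H := by
    rw [Int.cast_one, one_mul, inv_mul_cancel₀ hv]; exact hone 7 (by decide)
  have h9 := (H.mul_mem_cancel_right (H.mul_mem
    (h11S _ (mul_mem (mul_mem (intCast_mem S 1) (inv_mem hvS)) (pow_mem hvS 3)))
    (h10 _ (mul_mem (mul_mem (intCast_mem S 2) (pow_mem (inv_mem hvS) 2)) (pow_mem hvS 3))))).1 ((H.mul_mem_cancel_left h7).1 hWH)
  rw [← neg_iff E (by decide)]
  convert h9 using 2
  push_cast
  field_simp

theorem generates_G2 [Fintype F] : Generates F chevG2 := by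
  intro φ q r hφ H hH u huH huU hu
  obtain ⟨E, hT, hL⟩ := exists_env_G2
  have hG := E.good
  have hLmem : ∀ s, s ∈ E.L ↔ s ∈ longG2 := fun s => by rw [hL]
  have hTL : ∀ h ∈ E.T, (h ∈ E.L ↔ True) → h = 11 := by
    intro h hh hi
    rw [hLmem, iff_true] at hi
    simp only [hT, List.mem_cons, List.not_mem_nil, or_false] at hh
    rcases hh with rfl | rfl
    · rfl
    · exact absurd hi (by decide)
  have hTS : ∀ h ∈ E.T, (h ∈ E.L ↔ False) → h = 9 := by
    intro h hh hi
    rw [hLmem, iff_false] at hi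
    simp only [hT, List.mem_cons, List.not_mem_nil, or_false] at hh
    rcases hh with rfl | rfl
    · exact absurd (by decide) hi
    · rfl
  have long : ∀ s : ℕ, s < 12 → 6 ≤ s → s ∈ longG2 → ∀ t : F, xe hG s t ∈ H ↔ xe hG 11 t ∈ H :=
    fun s h1 h2 h3 t => mem_iff_top E hH True hTL h1 h2 (iff_true_intro ((hLmem s).2 h3)) t
  have short : ∀ s : ℕ, s < 12 → 6 ≤ s → s ∉ longG2 → ∀ t : F, xe hG s t ∈ H ↔ xe hG 9 t ∈ H :=
    fun s h1 h2 h3 t => mem_iff_top E hH False hTS h1 h2 (iff_false_intro fun h => h3 ((hLmem s).1 h)) t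
  have hone : ∀ s : ℕ, s < 12 → xe hG s (1 : F) ∈ H := fun s hs => over_xe E hH hs (map_one φ)
  -- the terms of the commutator of the fundamental roots
  have ht67 : chevG2.commTerms 6 7 = [(8, 1, 1, 1), (9, 1, 1, 2), (10, -1, 1, 3), (11, -2, 2, 3)] := by decide +kernel
  have hword : ∀ t v : F, xe hG 6 t ∈ H → xe hG 7 v ∈ H →
      xe hG 8 (-t * v) * (xe hG 9 (-t * v ^ 2) * (xe hG 10 (t * v ^ 3) * xe hG 11 (-2 * t ^ 2 * v ^ 3))) ∈ H := by
    intro t v ht hv
    have := word_mem E (i := 6) (j := 7) (by decide) (by decide) (by decide) (by decide +kernel) ht hv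
    simp only [ht67, List.map_cons, List.map_nil, List.prod_cons, List.prod_nil, mul_one, pow_one] at this
    convert this using 6 <;> push_cast <;> ring
  have hcom : ∀ i j : ℕ, i < 12 → j < 12 → j ≠ i → j ≠ chevG2.neg i → chevG2.commTerms i j = [] →
      ∀ t v : F, Commute (xe hG i t) (xe hG j v) := fun i j h1 h2 h3 h4 h5 t v =>
    commute_of_commTerms_nil E h1 h2 h3 h4 h5 t v
  obtain ⟨d, hdH, hd, hdn⟩ := exists_top_elem E (hφ.descends E.good E.facts) hH huH huU hu
  have hirr := irr_G2 E hT hL hH hdH hd hdn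
  have h11 : Full E H 11 := full_of_pair E hφ hH (i := 6) (j := 10) (ε := 1) (Or.inl rfl)
    (fun h hh hl => hTL h hh (iff_true_intro hl)) (by decide) ((hLmem _).2 (by decide)) (by decide)
    ((hLmem _).2 (by decide)) (by decide) (by decide) (by decide +kernel) (by decide +kernel) hirr
  refine group_le_of_full_tops E hH ?_
  simp only [hT, List.mem_cons, List.not_mem_nil, or_false, forall_eq_or_imp, forall_eq]
  exact ⟨h11, fun v => short_of_long_G2 E hT hL hH ⊤ (fun t _ => h11 t) trivial⟩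

end Cfsg.Agent.Chev.Subfield
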