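/-
Subfield subgroups of prime index of the seven Chevalley groups are maximal.
-/
import Cfsg.Agent.Lib.Chev.Subfield.SmallCase
import Cfsg.Agent.Lib.Chev.Subfield.TypeG2
import Cfsg.Agent.Lib.Chev.Subfield.TypeF4
import Cfsg.Agent.Lib.Chev.Subfield.TypeB2

set_option autoImplicit false

namespace Cfsg.Agent.Chev.Subfield

open Cfsg.Lie
open Cfsg.Agent.Chev.BNSetup

variable {F : Type*} [Field F] [Fintype F] {D : ChevalleyDatum}

theorem generates_of_mem (hD : D ∈ [chevG2, chevB2, chevD4, chevF4, chevE6, chevE7, chevE8]) :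
    Generates F D := by
  simp only [List.mem_cons, List.not_mem_nil, or_false] at hD
  rcases hD with rfl | rfl | rfl | rfl | rfl | rfl | rfl
  exacts [generates_G2, generates_B2, generates_D4, generates_F4, generates_E6, generates_E7, generates_E8]

theorem nonempty_env (hD : D ∈ [chevG2, chevB2, chevD4, chevF4, chevE6, chevE7, chevE8]) : Nonempty (Env D) := by
  simp only [List.mem_cons, List.not_mem_nil, or_false] at hD
  rcases hD with rfl | rfl | rfl | rfl | rfl | rfl | rfl
  exacts [⟨exists_env_G2.choose⟩, ⟨exists_env_B2.choose⟩, ⟨exists_env_D4.choose⟩, ⟨exists_env_F4.choose⟩,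
    ⟨exists_env_E6.choose⟩, ⟨exists_env_E7.choose⟩, ⟨exists_env_E8.choose⟩]

theorem over_of_fixed_le (E : Env D) {φ : F ≃+* F} {H : Subgroup (GL D.Idx F)}
    (hfix : ∀ g ∈ D.group F, entryMap D (φ : F →+* F) g = g → g ∈ H) : Over φ H := by
  rintro g ⟨s, hs, t, ht, e⟩
  obtain rfl : g = xe E.good s t := Units.ext (e.trans (coe_xe E.good s t).symm)
  exact hfix _ (xe_mem_group E.good hs t) (by rw [entryMap_xe E.good]; simp [ht])

/-- An overgroup of the rational elements is rational or everything. -/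
theorem fixed_or_group_le (p : ℕ) [Fact p.Prime] [CharP F p]
    (hD : D ∈ [chevG2, chevB2, chevD4, chevF4, chevE6, chevE7, chevE8]) {φ : F ≃+* F} {q r : ℕ}
    (hφ : Frob F φ q r) {H : Subgroup (GL D.Idx F)} (hle : H ≤ D.group F)
    (hfix : ∀ g ∈ D.group F, entryMap D (φ : F →+* F) g = g → g ∈ H) :
    (∀ g ∈ H, entryMap D (φ : F →+* F) g = g) ∨ D.group F ≤ H := by
  obtain ⟨E⟩ := nonempty_env hD
  by_cases h : ∀ g ∈ H, g ∈ D.posUnipotent F → entryMap D (φ : F →+* F) g = g
  · exact Or.inl fun g hg => fixed_of_smallOver E p (hφ.descends E.good E.facts)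
      ⟨hle, over_of_fixed_le E hfix, inferInstance, Set.toFinite _, h⟩ hg
  · push Not at h
    obtain ⟨u, huH, huU, hu⟩ := h
    exact Or.inr (generates_of_mem hD φ q r hφ H (over_of_fixed_le E hfix) u huH huU hu)

end Cfsg.Agent.Chev.Subfield
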