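/-
Finite overgroups of the group over a finite subfield, over an algebraically closed field.
-/
import Cfsg.Agent.Lib.Chev.Subfield.Maximal
import Mathlib.FieldTheory.Finite.GaloisField
import Mathlib.FieldTheory.IsAlgClosed.Basic

set_option autoImplicit false
set_option maxRecDepth 20000

namespace Cfsg.Agent.Chev.Subfield

open Cfsg.Lie
open Cfsg.Agent.Chev.BNSetup

section Params

variable {F : Type*} [Field F] {D : ChevalleyDatum}

/-- What is needed from a type: the parameters of a long root are closed under products and are parameters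
of all roots, and an irrational element of the groups of the highest roots gives an irrational one. -/
structure TopParams (E : Env D) (H : Subgroup (GL D.Idx F)) (α : ℕ) : Prop where
  lt : α < D.nroots
  mul : ∀ s t : F, xe E.good α s ∈ H → xe E.good α t ∈ H → xe E.good α (s * t) ∈ H
  spread : ∀ S : Subfield F, (∀ t ∈ S, xe E.good α t ∈ H) → ∀ s < D.nroots, ∀ t ∈ S, xe E.good s t ∈ H
  irr : ∀ φ : F ≃+* F, Over φ H → ∀ d ∈ H, d ∈ rootGen E.good F {s : Fin D.nroots | s.val ∈ E.T} →
    entryMap D (φ : F →+* F) d ≠ d → Irr E φ H α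

variable {φ : F ≃+* F} {H : Subgroup (GL D.Idx F)}

/-- A parameter of the positive roots is one of all roots. -/
theorem mem_of_pos (E : Env D) (hH : Over φ H) {t : F}
    (h : ∀ s < D.nroots, D.nroots / 2 ≤ s → xe E.good s t ∈ H) {s : ℕ} (hs : s < D.nroots) :
    xe E.good s t ∈ H :=
  E.good.root_induction (P := fun s => xe E.good s t ∈ H)
    (fun i hi => h _ (E.good.simple_lt hi) (E.facts.2.2.2.2.1 i hi).2.1)
    (fun i hi _ hs ih => (mem_refl_iff E hH hi hs t).2 ih) hs

theorem topParams_simplyLaced (E : Env D) (hH : Over φ H) {a i j : ℕ} (hT : E.T = [a])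
    (hL : E.L = List.range D.nroots) (hi : i < D.nroots ∧ D.nroots / 2 ≤ i) (hj : j < D.nroots ∧ D.nroots / 2 ≤ j)
    (h1 : j ≠ i) (h2 : j ≠ D.neg i) (h : D.commTerms i j = [(a, 1, 1, 1)]) : TopParams E H a := by
  have ha := (E.T_pos a (by simp [hT])).1
  have hall : ∀ s < D.nroots, D.nroots / 2 ≤ s → ∀ t : F, xe E.good s t ∈ H ↔ xe E.good a t ∈ H :=
    fun s hs hs' t => mem_iff_top E hH True (fun k hk _ => by simpa [hT] using hk) hs hs'
      (iff_true_intro (by simp [hL, hs])) t
  exact ⟨ha, fun s t hs ht => mul_mem_of_pair E (Or.inl rfl) hi.1 hj.1 ha h1 h2 h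
      ((hall i hi.1 hi.2 s).2 hs) ((hall j hj.1 hj.2 t).2 ht),
    fun S hS s hs t ht => mem_of_pos E hH (fun s hs hs' => (hall s hs hs' t).2 (hS t ht)) hs,
    fun ψ _ d hd hd' hd'' => irr_simplyLaced E hT hd hd' hd''⟩

theorem topParams_F4 {φ : F ≃+* F} {H : Subgroup (GL chevF4.Idx F)} (E : Env chevF4) (hT : E.T = [47, 44])
    (hL : E.L = longF4) (hH : Over φ H) : TopParams E H 47 := by
  have hTL : ∀ h ∈ E.T, (h ∈ E.L ↔ True) → h = 47 := by
    intro h hh hi
    rw [hL, iff_true] at hi
    simp only [hT, List.mem_cons, List.not_mem_nil, or_false] at hh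
    rcases hh with rfl | rfl
    · rfl
    · exact absurd hi (by decide)
  have hTS : ∀ h ∈ E.T, (h ∈ E.L ↔ False) → h = 44 := by
    intro h hh hi
    rw [hL, iff_false] at hi
    simp only [hT, List.mem_cons, List.not_mem_nil, or_false] at hh
    rcases hh with rfl | rfl
    · exact absurd (by decide) hi
    · rfl
  have long : ∀ s, s < chevF4.nroots → chevF4.nroots / 2 ≤ s → s ∈ E.L → ∀ t : F,
      xe E.good s t ∈ H ↔ xe E.good 47 t ∈ H :=
    fun s h1 h2 h3 t => mem_iff_top E hH True hTL h1 h2 (iff_true_intro h3) t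
  refine ⟨by decide, fun s t hs ht => mul_mem_of_pair E (i := 24) (j := 46) (ε := 1) (Or.inl rfl) (by decide)
      (by decide) (by decide) (by decide) (by decide +kernel) (by decide +kernel)
      ((long 24 (by decide) (by decide) (by rw [hL]; decide) s).2 hs)
      ((long 46 (by decide) (by decide) (by rw [hL]; decide) t).2 ht), fun S hS s hs t ht => ?_,
    fun ψ hψ d hd hd' hd'' => irr_F4 E hT hL hψ hd hd' hd''⟩
  refine mem_of_pos E hH (fun s hs hs' => ?_) hs
  by_cases hsL : s ∈ E.L
  · exact (long s hs hs' hsL t).2 (hS t ht)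
  · exact (mem_iff_top E hH False hTS hs hs' (iff_false_intro hsL) t).2 (short_of_long_F4 E hT hL hH (hS t ht))

theorem topParams_G2 {φ : F ≃+* F} {H : Subgroup (GL chevG2.Idx F)} (E : Env chevG2) (hT : E.T = [11, 9])
    (hL : E.L = longG2) (hH : Over φ H) : TopParams E H 11 := by
  have hTL : ∀ h ∈ E.T, (h ∈ E.L ↔ True) → h = 11 := by
    intro h hh hi
    rw [hL, iff_true] at hi
    simp only [hT, List.mem_cons, List.not_mem_nil, or_false] at hh
    rcases hh with rfl | rfl
    · rfl
    · exact absurd hi (by decide)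
  have hTS : ∀ h ∈ E.T, (h ∈ E.L ↔ False) → h = 9 := by
    intro h hh hi
    rw [hL, iff_false] at hi
    simp only [hT, List.mem_cons, List.not_mem_nil, or_false] at hh
    rcases hh with rfl | rfl
    · exact absurd (by decide) hi
    · rfl
  have long : ∀ s, s < chevG2.nroots → chevG2.nroots / 2 ≤ s → s ∈ E.L → ∀ t : F,
      xe E.good s t ∈ H ↔ xe E.good 11 t ∈ H :=
    fun s h1 h2 h3 t => mem_iff_top E hH True hTL h1 h2 (iff_true_intro h3) t
  refine ⟨by decide, fun s t hs ht => mul_mem_of_pair E (i := 6) (j := 10) (ε := 1) (Or.inl rfl) (by decide)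
      (by decide) (by decide) (by decide) (by decide +kernel) (by decide +kernel)
      ((long 6 (by decide) (by decide) (by rw [hL]; decide) s).2 hs)
      ((long 10 (by decide) (by decide) (by rw [hL]; decide) t).2 ht), fun S hS s hs t ht => ?_,
    fun ψ hψ d hd hd' hd'' => irr_G2 E hT hL hψ hd hd' hd''⟩
  refine mem_of_pos E hH (fun s hs hs' => ?_) hs
  by_cases hsL : s ∈ E.L
  · exact (long s hs hs' hsL t).2 (hS t ht)
  · exact (mem_iff_top E hH False hTS hs hs' (iff_false_intro hsL) t).2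
      (short_of_long_G2 E hT hL hH S hS ht)

theorem topParams_B2 {φ : F ≃+* F} {H : Subgroup (GL chevB2.Idx F)} (E : Env chevB2) (hT : E.T = [7, 6])
    (hH : Over φ H) [Finite H] (p : ℕ) [Fact p.Prime] [CharP F p] : TopParams E H 7 := by
  have hC := b2Ctx_of_over E hH
  have hp : (∀ t : F, xe E.good 6 t ∈ H → xe E.good 7 t ∈ H) ∧
      ∀ s t : F, xe E.good 6 s ∈ H → xe E.good 6 t ∈ H → xe E.good 6 (s * t) ∈ H := by
    rcases eq_or_ne p 2 with rfl | hp2
    · exact hC.params_two E
    · exact hC.params_odd E p hp2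
  refine ⟨by decide, fun s t hs ht => hp.1 _ (hp.2 _ _ (hC.long_sub_short E hs) (hC.long_sub_short E ht)),
    fun S hS s hs t ht => mem_of_pos E hH (fun s hs hs' => ?_) hs,
    fun ψ hψ d hd hd' hd'' => (b2Ctx_of_over E hψ).irr_top E hT hd hd' hd''⟩
  have h7 := hS t ht
  have h8 : chevB2.nroots = 8 := by decide +kernel
  rcases (show s = 4 ∨ s = 5 ∨ s = 6 ∨ s = 7 by omega) with rfl | rfl | rfl | rfl
  · exact (hC.long t).2 h7
  · exact (hC.short t).2 (hC.long_sub_short E h7)
  · exact hC.long_sub_short E h7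
  · exact h7

theorem exists_topParams (p : ℕ) [Fact p.Prime] [CharP F p]
    (hD : D ∈ [chevG2, chevB2, chevD4, chevF4, chevE6, chevE7, chevE8]) (hH : Over φ H) [Finite H] :
    ∃ (E : Env D) (α : ℕ), TopParams E H α := by
  simp only [List.mem_cons, List.not_mem_nil, or_false] at hD
  rcases hD with rfl | rfl | rfl | rfl | rfl | rfl | rfl
  · obtain ⟨E, hT, hL⟩ := exists_env_G2; exact ⟨E, _, topParams_G2 E hT hL hH⟩
  · obtain ⟨E, hT, hL⟩ := exists_env_B2; exact ⟨E, _, topParams_B2 E hT hH p⟩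
  · obtain ⟨E, hT, hL⟩ := exists_env_D4
    exact ⟨E, _, topParams_simplyLaced E hH (i := 14) (j := 22) hT hL (by decide) (by decide) (by decide)
      (by decide +kernel) (by decide +kernel)⟩
  · obtain ⟨E, hT, hL⟩ := exists_env_F4; exact ⟨E, _, topParams_F4 E hT hL hH⟩
  · obtain ⟨E, hT, hL⟩ := exists_env_E6
    exact ⟨E, _, topParams_simplyLaced E hH (i := 46) (j := 70) hT hL (by decide) (by decide) (by decide)
      (by decide +kernel) (by decide +kernel)⟩
  · obtain ⟨E, hT, hL⟩ := exists_env_E7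
    exact ⟨E, _, topParams_simplyLaced E hH (i := 93) (j := 124) hT hL (by decide) (by decide) (by decide)
      (by decide +kernel) (by decide +kernel)⟩
  · obtain ⟨E, hT, hL⟩ := exists_env_E8
    exact ⟨E, _, topParams_simplyLaced E hH (i := 120) (j := 238) hT hL (by decide) (by decide) (by decide)
      (by decide +kernel) (by decide +kernel)⟩

end Params

section AlgClosed

variable {F : Type*} [Field F] [IsAlgClosed F] (p : ℕ) [Fact p.Prime] [CharP F p]

theorem exists_sub_eq_pow {Q : ℕ} (hQ : 2 ≤ Q) (c : F) : ∃ t : F, t ^ Q - t = c := by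
  have hdeg : (Polynomial.X ^ Q - Polynomial.X - Polynomial.C c : Polynomial F).degree = (Q : WithBot ℕ) := by
    have h2 : (Polynomial.X + Polynomial.C c : Polynomial F).degree < (Q : WithBot ℕ) := by
      rw [Polynomial.degree_X_add_C]; exact_mod_cast hQ
    rw [sub_sub, Polynomial.degree_sub_eq_left_of_degree_lt (by rwa [Polynomial.degree_X_pow]),
      Polynomial.degree_X_pow]
  obtain ⟨t, ht⟩ := IsAlgClosed.exists_root (Polynomial.X ^ Q - Polynomial.X - Polynomial.C c : Polynomial F)
    (by rw [hdeg]; exact_mod_cast (show Q ≠ 0 by omega))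
  refine ⟨t, sub_eq_zero.1 ?_⟩
  simpa [Polynomial.IsRoot] using ht

theorem ncard_fixed_pow {m : ℕ} (hm : 1 ≤ m) :
    {t : F | t ^ p ^ m = t}.Finite ∧ {t : F | t ^ p ^ m = t}.ncard = p ^ m := by
  classical
  have hQ : 1 < p ^ m := Nat.one_lt_pow (by omega) (Fact.out : p.Prime).one_lt
  set f : Polynomial F := Polynomial.X ^ p ^ m - Polynomial.X with hf
  have hne : f ≠ 0 := FiniteField.X_pow_card_sub_X_ne_zero F hQ
  have hset : {t : F | t ^ p ^ m = t} = f.rootSet F := by
    ext t
    rw [Polynomial.mem_rootSet_of_ne hne]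
    simp [hf, sub_eq_zero]
  have hsep : f.Separable := galois_poly_separable p (p ^ m) (dvd_pow_self p (by omega))
  have hsplit : (f.map (algebraMap F F)).Splits := IsAlgClosed.splits_domain f
  have hcard := Polynomial.card_rootSet_eq_natDegree (K := F) hsep hsplit
  rw [FiniteField.X_pow_card_sub_X_natDegree_eq F hQ] at hcard
  rw [hset]
  exact ⟨Set.toFinite _, by rw [← Nat.card_coe_set_eq, Nat.card_eq_fintype_card]; exact hcard⟩

variable {D : ChevalleyDatum}

/-- **The finite overgroups of the group over a finite subfield.** -/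
theorem finite_overgroup (hD : D ∈ [chevG2, chevB2, chevD4, chevF4, chevE6, chevE7, chevE8]) {a : ℕ} (ha : 1 ≤ a)
    {H : Subgroup (GL D.Idx F)} [Finite H] (hHG : H ≤ D.group F)
    (hH : ∀ g : GL D.Idx F, (∃ s t, t ^ p ^ a = t ∧ (g : Matrix D.Idx D.Idx F) = D.x F s t) → g ∈ H) :
    ∃ r : ℕ, 1 ≤ r ∧ (∀ g : GL D.Idx F,
      (∃ s t, t ^ (p ^ a) ^ r = t ∧ (g : Matrix D.Idx D.Idx F) = D.x F s t) → g ∈ H) ∧
      ∀ g ∈ H, ∀ i j : D.Idx, ((g : Matrix D.Idx D.Idx F) i j) ^ (p ^ a) ^ r = (g : Matrix D.Idx D.Idx F) i j := by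
  classical
  have : ExpChar F p := ExpChar.prime Fact.out
  set φ0 : F ≃+* F := iterateFrobeniusEquiv F p a with hφ0
  have hover0 : Over φ0 H := fun g ⟨s, _, t, ht, e⟩ => hH g ⟨s, t, ht, e⟩
  obtain ⟨E, α, hP⟩ := exists_topParams p hD hover0
  have hG := E.good
  set S := params E H hP.lt with hS
  have hfinS : Finite S := Finite.of_injective (fun x : S => (⟨xe hG α x.1, x.2⟩ : H))
    fun x y h => Subtype.ext (xe_inj hG E.facts hP.lt (congrArg Subtype.val h))
  have h0S : ∀ t : F, t ^ p ^ a = t → t ∈ S := fun t ht => over_xe E hover0 hP.lt ht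
  have h1S : (1 : F) ∈ S := h0S 1 (one_pow _)
  let K : Subfield F :=
    { carrier := S
      mul_mem' := fun hx hy => hP.mul _ _ hx hy
      one_mem' := h1S
      add_mem' := S.add_mem
      zero_mem' := S.zero_mem
      neg_mem' := S.neg_mem
      inv_mem' := fun x hx => by
        by_cases hx0 : x = 0
        · subst hx0; rw [inv_zero]; exact S.zero_mem
        obtain ⟨y, hy⟩ := Finite.surjective_of_injective
          (f := fun y : S => (⟨x * y.1, hP.mul _ _ hx y.2⟩ : S))
          (fun y z h => Subtype.ext (mul_left_cancel₀ hx0 (congrArg Subtype.val h :))) ⟨1, h1S⟩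
        rw [inv_eq_of_mul_eq_one_right (congrArg Subtype.val hy)]
        exact y.2 }
  have : Finite K := hfinS
  let k0 : Subfield F := RingHom.eqLocusField (φ0 : F →+* F) (RingHom.id F)
  have hk0 : ∀ t, t ∈ k0 ↔ t ^ p ^ a = t := fun t => Iff.rfl
  obtain ⟨hfin0, hcard0⟩ := ncard_fixed_pow (F := F) p ha
  have : Finite k0 := hfin0.to_subtype
  have hk0card : Nat.card k0 = p ^ a := by rw [← hcard0, ← Nat.card_coe_set_eq]; rfl
  have hle : k0 ≤ K := fun t ht => h0S t ht
  letI : Algebra k0 K := (Subfield.inclusion hle).toAlgebra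
  have : Module.Finite k0 K := Module.Finite.of_finite
  set r := Module.finrank k0 K with hr
  have hr1 : 1 ≤ r := Module.finrank_pos
  have hKcard : Nat.card K = (p ^ a) ^ r := by rw [← hk0card]; exact Module.natCard_eq_pow_finrank
  have hfix : ∀ t : F, t ^ (p ^ a) ^ r = t ↔ t ∈ K := by
    obtain ⟨hfin, hcard⟩ := ncard_fixed_pow (F := F) p (m := a * r) (Nat.one_le_iff_ne_zero.2 (by positivity))
    rw [pow_mul] at hfin hcard
    have hsub : (K : Set F) ⊆ {t : F | t ^ (p ^ a) ^ r = t} := by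
      intro t ht
      letI : Fintype K := Fintype.ofFinite K
      have h := congrArg Subtype.val (FiniteField.pow_card (⟨t, ht⟩ : K))
      rw [← Nat.card_eq_fintype_card, hKcard] at h
      simpa using h
    have heq := Set.eq_of_subset_of_ncard_le hsub (by
      rw [hcard, ← Nat.card_coe_set_eq]; exact hKcard.ge) hfin
    exact fun t => ⟨fun h => (heq.ge h : t ∈ (K : Set F)), fun h => hsub h⟩
  set φ : F ≃+* F := iterateFrobeniusEquiv F p (a * r) with hφ
  have happ : ∀ t : F, φ t = t ^ (p ^ a) ^ r := fun t => by rw [← pow_mul]; rfl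
  have hφK : ∀ t : F, φ t = t ↔ t ∈ K := fun t => by rw [happ]; exact hfix t
  have hspread := hP.spread K fun t ht => ht
  have hover : Over φ H := fun g ⟨s, hs, t, ht, e⟩ => by
    obtain rfl : g = xe hG s t := Units.ext (e.trans (coe_xe hG s t).symm)
    exact hspread s hs t ((hφK t).1 ht)
  have hQ : 2 ≤ (p ^ a) ^ r := Nat.one_lt_pow (by omega) (Nat.one_lt_pow (by omega) (Fact.out : p.Prime).one_lt)
  have hdesc : Descends hG φ := descends_of_surj hG fun c => by
    obtain ⟨t, ht⟩ := exists_sub_eq_pow (F := F) hQ c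
    exact ⟨t, by rw [happ]; exact ht⟩
  have hunip : ∀ g ∈ H, g ∈ D.posUnipotent F → entryMap D (φ : F →+* F) g = g := by
    intro u huH huU
    by_contra hu
    obtain ⟨d, hdH, hd, hdn⟩ := exists_top_elem E hdesc hover huH huU hu
    obtain ⟨t, ht, htH⟩ := hP.irr φ hover d hdH hd hdn
    exact ht ((hφK t).2 htH)
  have hfinK : {t : F | φ t = t}.Finite := Set.Finite.subset (Set.toFinite (K : Set F)) fun t ht => (hφK t).1 ht
  refine ⟨r, hr1, ?_, fun g hg i j => ?_⟩
  · rintro g ⟨s, t, ht, e⟩
    by_cases hs : s < D.nroots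
    · exact hover g ⟨s, hs, t, (hφK t).2 ((hfix t).1 ht), e⟩
    · obtain rfl : g = 1 := Units.ext (by rw [e, ChevalleyDatum.x, dif_neg hs]; rfl)
      exact H.one_mem
  · have h := fixed_of_smallOver E p hdesc ⟨hHG, hover, inferInstance, hfinK, hunip⟩ hg
    exact (happ _).symm.trans (congrArg (fun x : GL D.Idx F => (x : Matrix D.Idx D.Idx F) i j) h)

end AlgClosed

end Cfsg.Agent.Chev.Subfield
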